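import Cfsg.Agent.Lib.ZStar.Assemble
import Cfsg.Agent.Lib.Involution.QuaternionFactor
import Mathlib.GroupTheory.SpecificGroups.KleinFour
import Mathlib.GroupTheory.SpecificGroups.Cyclic

/-!
# Corollaries of the Z*-theorem: Glauberman's fusion form, Brauer–Suzuki, 2-rank one
-/

set_option linter.style.haveILetI false

namespace Cfsg.Agent.ZStar

open Cfsg

universe u

variable {G : Type u} [Group G] [Finite G]

theorem commutator_mem_oddCore {z : G} (h : InZStar 2 z) (g : G) :
    z * g * z⁻¹ * g⁻¹ ∈ oddCore G := by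
  have h1 := inv_mem (h g)
  rwa [mul_inv_rev, mul_inv_rev, mul_inv_rev, inv_inv, inv_inv, ← mul_assoc, ← mul_assoc] at h1

theorem mem_center_of_oddCore_eq_bot {z : G} (h : InZStar 2 z) (hO : oddCore G = ⊥) :
    z ∈ Subgroup.center G := by
  rw [Subgroup.mem_center_iff]
  intro g
  have h1 := h g
  rw [show pPrimeCore 2 G = ⊥ from hO, Subgroup.mem_bot, mul_inv_eq_one, mul_inv_eq_iff_eq_mul]
    at h1
  exact h1

/-- An involution with one conjugate in a Sylow 2-subgroup is isolated. -/
theorem isolated_of_sylow {P : Sylow 2 G} {u : G} (hu : orderOf u = 2) (huP : u ∈ P)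
    (hiso : ∀ g : G, g * u * g⁻¹ ∈ P → g * u * g⁻¹ = u) : IsIsolatedInvolution u := by
  haveI : Fact (Nat.Prime 2) := ⟨Nat.prime_two⟩
  refine ⟨hu, fun g hc => ?_⟩
  set w := g * u * g⁻¹ with hw
  have hu2 : u * u = 1 := by
    have := pow_orderOf_eq_one u; rwa [hu, pow_two] at this
  have hw2 : w * w = 1 := by
    calc w * w = g * (u * u) * g⁻¹ := by rw [hw]; group
      _ = 1 := by rw [hu2]; group
  have hui : u⁻¹ = u := inv_eq_of_mul_eq_one_right hu2
  let E : Subgroup G :=
    { carrier := {x | x = 1 ∨ x = u ∨ x = w ∨ x = u * w}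
      one_mem' := Or.inl rfl
      mul_mem' := by
        have h1 : w * u = u * w := hc.eq.symm
        have h2 : w * (u * w) = u := by rw [← mul_assoc, h1, mul_assoc, hw2, mul_one]
        have h3 : u * w * u = w := by rw [mul_assoc, h1, ← mul_assoc, hu2, one_mul]
        have h4 : u * w * w = u := by rw [mul_assoc, hw2, mul_one]
        have h5 : u * (u * w) = w := by rw [← mul_assoc, hu2, one_mul]
        have h6 : u * w * (u * w) = 1 := by rw [← mul_assoc, h3, hw2]
        rintro a b (rfl | rfl | rfl | rfl) (rfl | rfl | rfl | rfl) <;>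
          simp [hu2, hw2, h1, h2, h3, h4, h5, h6]
      inv_mem' := by
        have hwi : w⁻¹ = w := inv_eq_of_mul_eq_one_right hw2
        rintro a (rfl | rfl | rfl | rfl)
        · exact Or.inl inv_one
        · exact Or.inr (Or.inl hui)
        · exact Or.inr (Or.inr (Or.inl hwi))
        · refine Or.inr (Or.inr (Or.inr ?_))
          rw [mul_inv_rev, hui, hwi, hc.eq] }
  have hE : IsPGroup 2 E := fun x => ⟨1, Subtype.ext (by
    show (x : G) ^ (2 ^ 1) = 1
    rw [pow_one, pow_two]
    rcases x.2 with h | h | h | h <;> rw [h]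
    · exact one_mul 1
    · exact hu2
    · exact hw2
    · rw [hc.symm.mul_mul_mul_comm, hu2, hw2, one_mul])⟩
  obtain ⟨Q, hQ⟩ := hE.exists_le_sylow
  obtain ⟨h, rfl⟩ := MulAction.exists_smul_eq G P Q
  have hmem : ∀ x : G, x ∈ E → h⁻¹ * x * h ∈ (P : Subgroup G) := by
    intro x hx
    have hx' := hQ hx
    rw [Sylow.coe_subgroup_smul, Subgroup.mem_pointwise_smul_iff_inv_smul_mem] at hx'
    simpa using hx'
  have hiso' : ∀ g : G, g * u * g⁻¹ ∈ (P : Subgroup G) → g * u * g⁻¹ = u := hiso
  have e1 : h⁻¹ * u * h = u := by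
    have := hiso' h⁻¹ (by simpa using hmem u (Or.inr (Or.inl rfl)))
    simpa using this
  have e2 : h⁻¹ * w * h = u := by
    have hh : h⁻¹ * w * h = (h⁻¹ * g) * u * (h⁻¹ * g)⁻¹ := by rw [hw]; group
    rw [hh]
    exact hiso' _ (hh ▸ hmem w (Or.inr (Or.inr (Or.inl rfl))))
  exact mul_left_cancel (mul_right_cancel (e2.trans e1.symm))

/-- Glauberman's theorem in fusion form, from the Z*-theorem. -/
theorem exists_normal_of_sylow (hZ : ZStarThm.{u}) {P : Sylow 2 G} {u : G} (hu : orderOf u = 2)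
    (huP : u ∈ P) (hiso : ∀ g : G, g * u * g⁻¹ ∈ P → g * u * g⁻¹ = u) :
    ∃ N : Subgroup G, N.Normal ∧ Odd (Nat.card N) ∧ ∀ g : G, (u * g * u⁻¹ * g⁻¹) ∈ N :=
  ⟨oddCore G, inferInstance, PCore.odd_card_oddCore,
    commutator_mem_oddCore (hZ G u (isolated_of_sylow hu huP hiso))⟩

/-- Without Klein four-subgroups, commuting involutions coincide. -/
theorem eq_of_commute_of_no_kleinFour (hrank : ∀ E : Subgroup G, ¬ IsKleinFour E) {a b : G}
    (ha : orderOf a = 2) (hb : orderOf b = 2) (hab : Commute a b) : a = b := by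
  classical
  by_contra hne
  have ha2 : a * a = 1 := by have := pow_orderOf_eq_one a; rwa [ha, pow_two] at this
  have hb2 : b * b = 1 := by have := pow_orderOf_eq_one b; rwa [hb, pow_two] at this
  let E : Subgroup G :=
    { carrier := {x | x = 1 ∨ x = a ∨ x = b ∨ x = a * b}
      one_mem' := Or.inl rfl
      mul_mem' := by
        have h1 : b * a = a * b := hab.eq.symm
        have h2 : b * (a * b) = a := by rw [← mul_assoc, h1, mul_assoc, hb2, mul_one]
        have h3 : a * b * a = b := by rw [mul_assoc, h1, ← mul_assoc, ha2, one_mul]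
        have h4 : a * b * b = a := by rw [mul_assoc, hb2, mul_one]
        have h5 : a * (a * b) = b := by rw [← mul_assoc, ha2, one_mul]
        have h6 : a * b * (a * b) = 1 := by rw [← mul_assoc, h3, hb2]
        rintro x y (rfl | rfl | rfl | rfl) (rfl | rfl | rfl | rfl) <;>
          simp [ha2, hb2, h1, h2, h3, h4, h5, h6]
      inv_mem' := by
        have hai : a⁻¹ = a := inv_eq_of_mul_eq_one_right ha2
        have hbi : b⁻¹ = b := inv_eq_of_mul_eq_one_right hb2
        rintro x (rfl | rfl | rfl | rfl)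
        · exact Or.inl inv_one
        · exact Or.inr (Or.inl hai)
        · exact Or.inr (Or.inr (Or.inl hbi))
        · refine Or.inr (Or.inr (Or.inr ?_))
          rw [mul_inv_rev, hai, hbi, hab.eq] }
  have hsq : ∀ x : E, x * x = 1 := fun x => Subtype.ext (by
    show (x : G) * x = 1
    rcases x.2 with h | h | h | h <;> rw [h]
    · exact one_mul 1
    · exact ha2
    · exact hb2
    · rw [hab.symm.mul_mul_mul_comm, ha2, hb2, one_mul])
  have hcard : Nat.card E = 4 := by
    have h1a : (1 : G) ≠ a := fun h => by rw [← h, orderOf_one] at ha; omega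
    have h1b : (1 : G) ≠ b := fun h => by rw [← h, orderOf_one] at hb; omega
    have h1ab : (1 : G) ≠ a * b := fun h => hne (by
      rw [eq_inv_of_mul_eq_one_left h.symm, inv_eq_of_mul_eq_one_right hb2])
    have haab : a ≠ a * b := fun h => h1b (mul_left_cancel (a := a) (by rw [mul_one]; exact h))
    have hbab : b ≠ a * b := fun h => h1a (mul_right_cancel (b := b) (by rw [one_mul]; exact h))
    have h4 : Set.ncard ({1, a, b, a * b} : Set G) = 4 := by
      rw [Set.ncard_insert_of_notMem (by simp [h1a, h1b, h1ab]),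
        Set.ncard_insert_of_notMem (by simp [hne, haab]),
        Set.ncard_pair hbab]
    rw [← h4, ← Nat.card_coe_set_eq]
    refine Nat.card_congr (Equiv.subtypeEquivRight fun x => ?_)
    simp [E]
  refine hrank E ⟨hcard, ?_⟩
  refine Nat.dvd_antisymm (Monoid.exponent_dvd_of_forall_pow_eq_one fun x => by
    rw [pow_two]; exact hsq x) ?_
  have hx : orderOf (⟨a, Or.inr (Or.inl rfl)⟩ : E) = 2 := by rw [← Subgroup.orderOf_coe]; exact ha
  exact hx ▸ Monoid.order_dvd_exponent _

theorem isolated_of_no_kleinFour (hrank : ∀ E : Subgroup G, ¬ IsKleinFour E) {z : G}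
    (hz : orderOf z = 2) : IsIsolatedInvolution z :=
  ⟨hz, fun g hc => (eq_of_commute_of_no_kleinFour hrank hz (by
    rw [← MulAut.conj_apply, MulEquiv.orderOf_eq, hz]) hc).symm⟩

/-- 2-rank one. -/
theorem exists_central_involution_mod_oddCore (hZ : ZStarThm.{u}) (heven : Even (Nat.card G))
    (hrank : ∀ E : Subgroup G, ¬ IsKleinFour E) :
    ∃ z : G, orderOf z = 2 ∧ ∃ N : Subgroup G, N.Normal ∧ Odd (Nat.card N) ∧
      ∀ g : G, z * g * z⁻¹ * g⁻¹ ∈ N := by
  haveI : Fact (Nat.Prime 2) := ⟨Nat.prime_two⟩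
  obtain ⟨z, hz⟩ := exists_prime_orderOf_dvd_card' (G := G) 2 heven.two_dvd
  exact ⟨z, hz, oddCore G, inferInstance, PCore.odd_card_oddCore,
    commutator_mem_oddCore (hZ G z (isolated_of_no_kleinFour hrank hz))⟩

/-- A Sylow 2-subgroup with one involution forbids Klein four-subgroups. -/
theorem no_kleinFour_of_unique {S : Sylow 2 G} {q : G}
    (huniq : ∀ w ∈ (S : Subgroup G), w ^ 2 = 1 → w = 1 ∨ w = q) (E : Subgroup G) :
    ¬ IsKleinFour E := by
  intro hE
  classical
  haveI : Fact (Nat.Prime 2) := ⟨Nat.prime_two⟩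
  have hp : IsPGroup 2 E := IsPGroup.of_card (n := 2) (by rw [hE.card_four]; norm_num)
  obtain ⟨Q, hQ⟩ := hp.exists_le_sylow
  obtain ⟨h, rfl⟩ := MulAction.exists_smul_eq G S Q
  have hsub : (E : Set G) ⊆ {1, h * q * h⁻¹} := by
    intro x hx
    have hx' := hQ hx
    rw [Sylow.coe_subgroup_smul, Subgroup.mem_pointwise_smul_iff_inv_smul_mem] at hx'
    have h2 : x ^ 2 = 1 := by
      have h3 := Monoid.pow_exponent_eq_one (⟨x, hx⟩ : E)
      rw [hE.exponent_two] at h3
      exact congrArg Subtype.val h3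
    rcases huniq _ hx' (by rw [← smul_pow', h2, smul_one]) with h3 | h3
    · left
      rwa [inv_smul_eq_iff, smul_one] at h3
    · right
      rw [inv_smul_eq_iff] at h3
      exact h3
  have hle : Set.ncard (E : Set G) ≤ 2 := (Set.ncard_le_ncard hsub).trans (by
    by_cases hq : (1 : G) = h * q * h⁻¹
    · rw [← hq]; simp
    · rw [Set.ncard_pair hq])
  rw [← Nat.card_coe_set_eq, SetLike.coe_sort_coe, hE.card_four] at hle
  omega

theorem no_kleinFour_of_quaternion {S : Sylow 2 G} {n : ℕ} (hn : 1 ≤ n)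
    (e : (S : Subgroup G) ≃* QuaternionGroup (2 ^ n)) (E : Subgroup G) : ¬ IsKleinFour E := by
  obtain ⟨q, -, -, huniq, -⟩ := QuaternionFactor.quat_facts hn e
  exact no_kleinFour_of_unique huniq E

/-- **Brauer–Suzuki**, from the Z*-theorem. -/
theorem card_center_eq_two (hZ : ZStarThm.{u}) (S : Sylow 2 G) (n : ℕ)
    (e : (S : Subgroup G) ≃* QuaternionGroup (2 ^ (n + 1)))
    (hO : ∀ N : Subgroup G, N.Normal → Odd (Nat.card N) → N = ⊥) :
    Nat.card (Subgroup.center G) = 2 := by
  haveI : Fact (Nat.Prime 2) := ⟨Nat.prime_two⟩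
  obtain ⟨q, hqS, hq, huniq, b, hb, c, hc, hbc⟩ := QuaternionFactor.quat_facts (by omega) e
  have hiso := isolated_of_no_kleinFour (no_kleinFour_of_unique huniq) hq
  have hOb : oddCore G = ⊥ := hO _ inferInstance PCore.odd_card_oddCore
  have hqz : q ∈ Subgroup.center G := mem_center_of_oddCore_eq_bot (hZ G q hiso) hOb
  set Z := Subgroup.center G with hZdef
  have hdvd2 : ∀ x ∈ Z, Odd (orderOf x) → x = 1 := by
    intro x hx hodd
    have hn : (Subgroup.zpowers x).Normal := ⟨fun y hy g => by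
      obtain ⟨i, rfl⟩ := Subgroup.mem_zpowers_iff.mp hy
      rw [Subgroup.mem_center_iff.mp (zpow_mem hx i) g, mul_inv_cancel_right]
      exact zpow_mem (Subgroup.mem_zpowers x) i⟩
    have := hO _ hn (by rwa [Nat.card_zpowers])
    rwa [Subgroup.zpowers_eq_bot] at this
  have hpg : IsPGroup 2 Z := by
    intro x
    obtain ⟨k, m, hm, hkm⟩ := Nat.exists_eq_two_pow_mul_odd (orderOf_pos x).ne'
    refine ⟨k, Subtype.ext (hdvd2 _ (x ^ (2 ^ k)).2 ?_)⟩
    rw [Subgroup.orderOf_coe, orderOf_pow' _ (by positivity), hkm,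
      Nat.gcd_eq_right (Dvd.intro m rfl), Nat.mul_div_cancel_left _ (by positivity)]
    exact hm
  haveI : Z.Normal := inferInstance
  have hZS : Z ≤ (S : Subgroup G) := hpg.le_sylow_of_normal S
  have hsub : (Z : Set G) = {1, q} := by
    refine Set.Subset.antisymm (fun x hx => ?_) (Set.insert_subset (one_mem Z)
      (Set.singleton_subset_iff.mpr hqz))
    by_contra hne
    simp only [Set.mem_insert_iff, Set.mem_singleton_iff, not_or] at hne
    obtain ⟨k, hk⟩ := IsPGroup.iff_orderOf.mp hpg ⟨x, hx⟩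
    rw [← Subgroup.orderOf_coe] at hk
    have hk2 : 2 ≤ k := by
      by_contra h
      rcases (show k = 0 ∨ k = 1 by omega) with rfl | rfl
      · exact hne.1 (by simpa using hk)
      · refine (huniq x (hZS hx) ?_).elim hne.1 hne.2
        have h2 := pow_orderOf_eq_one x
        rw [hk] at h2
        simpa using h2
    haveI : NeZero (2 * 2 ^ (n + 1)) := ⟨by positivity⟩
    set y : QuaternionGroup (2 ^ (n + 1)) := e ⟨x, hZS hx⟩ with hy
    have hyc : ∀ w, w * y = y * w := fun w => by
      have h3 : e.symm w * ⟨x, hZS hx⟩ = ⟨x, hZS hx⟩ * e.symm w :=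
        Subtype.ext (Subgroup.mem_center_iff.mp hx _)
      have h4 := congrArg e h3
      rwa [map_mul, map_mul, MulEquiv.apply_symm_apply, ← hy] at h4
    have hyo : orderOf y = 2 ^ k := by
      rw [hy, MulEquiv.orderOf_eq, ← Subgroup.orderOf_coe]; exact hk
    have hy4 : 4 ∣ orderOf y := hyo ▸ (show 2 ^ 2 ∣ 2 ^ k from pow_dvd_pow 2 hk2)
    obtain ⟨t, ht⟩ := hy4
    have ht0 : 0 < t := by
      rcases Nat.eq_zero_or_pos t with rfl | h
      · have := orderOf_pos y; omega
      · exact h
    rcases hycase : y with i | i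
    · have h3 := hyc (QuaternionGroup.xa 0)
      rw [hycase, QuaternionGroup.xa_mul_a, QuaternionGroup.a_mul_xa] at h3
      have h4 := QuaternionGroup.xa.inj h3
      rw [zero_add, zero_sub, eq_neg_iff_add_eq_zero] at h4
      have h5 : y ^ 2 = 1 := by
        rw [hycase, pow_two, QuaternionGroup.a_mul_a, h4, QuaternionGroup.a_zero]
      have := orderOf_dvd_of_pow_eq_one h5
      have := Nat.le_of_dvd (by norm_num) this
      omega
    · have h3 := hyc (QuaternionGroup.a 1)
      rw [hycase, QuaternionGroup.xa_mul_a, QuaternionGroup.a_mul_xa] at h3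
      have h4 := QuaternionGroup.xa.inj h3
      rw [sub_eq_add_neg, add_right_inj, neg_eq_iff_add_eq_zero] at h4
      have h5 : ((2 : ℕ) : ZMod (2 * 2 ^ (n + 1))) = 0 := by
        rw [Nat.cast_ofNat]
        linear_combination h4
      rw [ZMod.natCast_eq_zero_iff] at h5
      have h6 := Nat.le_of_dvd (by norm_num) h5
      have h7 : 2 ≤ 2 ^ (n + 1) := Nat.le_self_pow (by omega) 2
      omega
  have hq1 : (1 : G) ≠ q := fun h => by rw [← h, orderOf_one] at hq; omega
  rw [← SetLike.coe_sort_coe, Nat.card_coe_set_eq, hsub, Set.ncard_pair hq1]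

end Cfsg.Agent.ZStar
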