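import Mathlib.Algebra.BigOperators.Fin
import Mathlib.Algebra.BigOperators.Group.Finset.Basic
import Mathlib.Analysis.Complex.Basic
import Mathlib.Data.Fintype.Fin
import Mathlib.Tactic.Ring
import Mathlib.Tactic.LinearCombination
import Mathlib.Tactic.FieldSimp

/-!
# The quaternion group of order eight: the numerical contradiction

`n j` are the multiplicities of the three functions on the section of the involution, `w` those of
the function on the section of the elements of order four, `o` is the trivial character, `d` the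
degrees, `y` the values at the involution.
-/

namespace Cfsg.Agent.ZStar.Q8

open Finset

theorem three_sign_cases {ι : Type*} [DecidableEq ι] {s : Finset ι} (hs : s.card = 3)
    {f : ι → ℤ} (hf : ∀ i ∈ s, f i = 1 ∨ f i = -1) (hsum : ∑ i ∈ s, f i = 1) :
    ∃ a b c : ι, a ≠ b ∧ a ≠ c ∧ b ≠ c ∧ s = {a, b, c} ∧ f a = -1 ∧ f b = 1 ∧ f c = 1 := by
  obtain ⟨a, b, c, hab, hac, hbc, rfl⟩ := Finset.card_eq_three.mp hs
  rw [Finset.sum_insert (by simp [hab, hac]), Finset.sum_pair hbc] at hsum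
  rcases hf a (by simp) with ha | ha <;> rcases hf b (by simp) with hb | hb <;>
    rcases hf c (by simp) with hc | hc <;> rw [ha, hb, hc] at hsum <;>
      first
        | omega
        | exact ⟨a, b, c, hab, hac, hbc, rfl, ha, hb, hc⟩
        | exact ⟨b, a, c, hab.symm, hbc, hac, Finset.insert_comm _ _ _, hb, ha, hc⟩
        | exact ⟨c, a, b, hac.symm, hbc.symm, hab, by
            ext x; simp only [mem_insert, mem_singleton]; tauto, hc, ha, hb⟩

/-- The data of the quaternion case. -/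
structure Data (ι : Type*) [Fintype ι] [DecidableEq ι] where
  o : ι
  n : Fin 3 → ι → ℤ
  w : ι → ℤ
  d : ι → ℕ
  y : ι → ℂ
  e : Fin 3 → ℤ
  n_o : ∀ j, n j o = 1
  w_o : w o = 1
  d_o : d o = 1
  y_o : y o = 1
  d_pos : ∀ i, d i ≠ 0
  d_one : ∀ i, d i = 1 → i = o
  y_ne : ∀ i, i ≠ o → y i ≠ d i
  n_self : ∀ j, ∑ i, n j i * n j i = 4
  n_n : ∀ j k, j ≠ k → ∑ i, n j i * n k i = 2
  w_self : ∑ i, w i * w i = 4
  n_w : ∀ j, ∑ i, n j i * w i = 0
  parity : ∀ i, (n 0 i + n 1 i + n 2 i + w i) % 2 = 0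
  e_sum : e 0 + e 1 + e 2 = 1
  y_eq : ∀ i, (∃ j, n j i ≠ 0) ∨ w i ≠ 0 → y i = ∑ j, (n j i : ℂ) * e j
  deg_n : ∀ j, ∑ i, (n j i : ℂ) * d i = 0
  deg_w : ∑ i, (w i : ℂ) * d i = 0
  sq_n : ∀ j, ∑ i, (n j i : ℂ) * (y i * y i / d i) = 0
  sq_w : ∑ i, (w i : ℂ) * (y i * y i / d i) = 0

variable {ι : Type*} [Fintype ι] [DecidableEq ι] (D : Data ι)

/-- The nontrivial support of a column. -/
def supp (v : ι → ℤ) : Finset ι := univ.filter fun i => i ≠ D.o ∧ v i ≠ 0

theorem sum_eq_supp (v : ι → ℤ) {R : Type*} [CommRing R] (f : ι → R) (hv : v D.o = 1) :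
    ∑ i, (v i : R) * f i = f D.o + ∑ i ∈ supp D v, (v i : R) * f i := by
  rw [← Finset.add_sum_erase univ _ (Finset.mem_univ D.o), hv, Int.cast_one, one_mul]
  congr 1
  symm
  refine Finset.sum_subset (fun i hi => by simpa [supp] using (Finset.mem_filter.mp hi).2.1)
    fun i hi hi' => ?_
  have hne : i ≠ D.o := (Finset.mem_erase.mp hi).1
  have : v i = 0 := by
    by_contra h
    exact hi' (by simp [supp, hne, h])
  rw [this, Int.cast_zero, zero_mul]

theorem supp_facts (v : ι → ℤ) (hv : v D.o = 1) (h4 : ∑ i, v i * v i = 4) :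
    (supp D v).card = 3 ∧ ∀ i ∈ supp D v, v i = 1 ∨ v i = -1 := by
  have h3 : ∑ i ∈ supp D v, v i * v i = 3 := by
    have h := sum_eq_supp D v (fun i => v i) hv
    simp only [Int.cast_id] at h
    rw [h4, hv] at h
    linarith
  have hge : ∀ i ∈ supp D v, 1 ≤ v i * v i := fun i hi => by
    have hne : v i ≠ 0 := (Finset.mem_filter.mp hi).2.2
    nlinarith [Int.one_le_abs hne, abs_mul_abs_self (v i)]
  have hle : ∀ i ∈ supp D v, v i = 1 ∨ v i = -1 := by
    intro i hi
    have hne : v i ≠ 0 := (Finset.mem_filter.mp hi).2.2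
    have hi3 : v i * v i ≤ 3 := h3 ▸
      Finset.single_le_sum (f := fun i => v i * v i) (fun j _ => mul_self_nonneg _) hi
    have h1 : v i ≤ 1 := by nlinarith
    have h2 : -1 ≤ v i := by nlinarith
    omega
  refine ⟨?_, hle⟩
  rw [Finset.sum_congr rfl (g := fun _ => (1 : ℤ)) (fun i hi => by
    rcases hle i hi with h | h <;> rw [h] <;> norm_num)] at h3
  have h3' : ((supp D v).card : ℤ) = 3 := by simpa using h3
  exact_mod_cast h3'

theorem sum_inter (v v' : ι → ℤ) (hv : v D.o = 1) (hv' : v' D.o = 1) :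
    ∑ i, v i * v' i = 1 + ∑ i ∈ supp D v ∩ supp D v', v i * v' i := by
  have h := sum_eq_supp D v (fun i => v' i) hv
  simp only [Int.cast_id] at h
  rw [h, hv']
  congr 1
  symm
  refine Finset.sum_subset Finset.inter_subset_left fun i hi hi' => ?_
  have : v' i = 0 := by
    by_contra h
    refine hi' (Finset.mem_inter.mpr ⟨hi, ?_⟩)
    simp [supp, h, (Finset.mem_filter.mp hi).2.1]
  rw [this, mul_zero]

/-- Two supports meet in one point, or agree. -/
theorem inter_card (v v' : ι → ℤ) (hv : v D.o = 1) (hv' : v' D.o = 1)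
    (h4 : ∑ i, v i * v i = 4) (h4' : ∑ i, v' i * v' i = 4)
    (hodd : (∑ i ∈ supp D v ∩ supp D v', v i * v' i) % 2 = 1) :
    (supp D v ∩ supp D v').card = 1 ∨ supp D v = supp D v' := by
  obtain ⟨hc, hs⟩ := supp_facts D v hv h4
  obtain ⟨hc', hs'⟩ := supp_facts D v' hv' h4'
  have hsum : (∑ i ∈ supp D v ∩ supp D v', v i * v' i) % 2 =
      ((supp D v ∩ supp D v').card : ℤ) % 2 := by
    rw [Finset.sum_int_mod, Finset.sum_congr rfl (g := fun _ => (1 : ℤ)) (fun i hi => by
      obtain ⟨hi1, hi2⟩ := Finset.mem_inter.mp hi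
      rcases hs i hi1 with h | h <;> rcases hs' i hi2 with h' | h' <;> rw [h, h'] <;> rfl)]
    simp
  rw [hodd] at hsum
  have hle : (supp D v ∩ supp D v').card ≤ 3 :=
    hc ▸ Finset.card_le_card Finset.inter_subset_left
  rcases (show (supp D v ∩ supp D v').card = 1 ∨ (supp D v ∩ supp D v').card = 3 by omega) with
    h | h
  · exact Or.inl h
  · right
    have e1 := Finset.eq_of_subset_of_card_le (Finset.inter_subset_left (s₁ := supp D v)
      (s₂ := supp D v')) (by omega)
    have e2 := Finset.eq_of_subset_of_card_le (Finset.inter_subset_right (s₁ := supp D v)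
      (s₂ := supp D v')) (by omega)
    exact e1.symm.trans e2

theorem n_inter (j k : Fin 3) (hjk : j ≠ k) :
    ∃ q, supp D (D.n j) ∩ supp D (D.n k) = {q} ∧ D.n j q = D.n k q := by
  have hs := sum_inter D (D.n j) (D.n k) (D.n_o j) (D.n_o k)
  rw [D.n_n j k hjk] at hs
  obtain ⟨hcj, hsj⟩ := supp_facts D _ (D.n_o j) (D.n_self j)
  obtain ⟨hck, hsk⟩ := supp_facts D _ (D.n_o k) (D.n_self k)
  rcases inter_card D (D.n j) (D.n k) (D.n_o j) (D.n_o k) (D.n_self j) (D.n_self k) (by omega)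
    with h | h
  · obtain ⟨q, hq⟩ := Finset.card_eq_one.mp h
    refine ⟨q, hq, ?_⟩
    rw [hq, Finset.sum_singleton] at hs
    have hqm : q ∈ supp D (D.n j) ∩ supp D (D.n k) := hq ▸ Finset.mem_singleton_self q
    obtain ⟨h1, h2⟩ := Finset.mem_inter.mp hqm
    rcases hsj q h1 with e1 | e1 <;> rcases hsk q h2 with e2 | e2 <;> rw [e1, e2] at hs ⊢ <;> omega
  · exfalso
    rw [← h, Finset.inter_self] at hs
    obtain ⟨a, b, c, hab, hac, hbc, hset, ha, hb, hc⟩ := three_sign_cases
      (f := fun i => D.n j i * D.n k i) hcj (fun i hi => by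
        show D.n j i * D.n k i = 1 ∨ D.n j i * D.n k i = -1
        rcases hsj i hi with e1 | e1 <;> rcases hsk i (h ▸ hi) with e2 | e2 <;> rw [e1, e2] <;> simp)
      (by linarith)
    have hmem : ∀ x ∈ ({a, b, c} : Finset ι), x ∈ supp D (D.n j) := fun x hx => hset ▸ hx
    have haj := hmem a (by simp)
    have hbj := hmem b (by simp)
    have hcj' := hmem c (by simp)
    have eb : D.n k b = D.n j b := by
      have hb' : D.n j b * D.n k b = 1 := hb
      rcases hsj b hbj with e | e <;> rw [e] at hb' ⊢ <;> omega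
    have ec : D.n k c = D.n j c := by
      have hc' : D.n j c * D.n k c = 1 := hc
      rcases hsj c hcj' with e | e <;> rw [e] at hc' ⊢ <;> omega
    have ea : D.n k a = -D.n j a := by
      have ha' : D.n j a * D.n k a = -1 := ha
      rcases hsj a haj with e | e <;> rw [e] at ha' ⊢ <;> omega
    have d1 := D.deg_n j
    have d2 := D.deg_n k
    rw [sum_eq_supp D _ _ (D.n_o j)] at d1
    rw [sum_eq_supp D _ _ (D.n_o k), ← h] at d2
    rw [hset, Finset.sum_insert (by simp [hab, hac]), Finset.sum_pair hbc] at d1 d2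
    rw [ea, eb, ec, Int.cast_neg] at d2
    have h0 : (D.n j a : ℂ) * (D.d a : ℂ) = 0 := by linear_combination (d1 - d2) / 2
    rcases mul_eq_zero.mp h0 with h' | h'
    · exact (Finset.mem_filter.mp haj).2.2 (by exact_mod_cast h')
    · exact D.d_pos a (by exact_mod_cast h')

theorem w_inter (j : Fin 3) :
    ∃ x, supp D (D.n j) ∩ supp D D.w = {x} ∧ D.n j x = -D.w x := by
  have hs := sum_inter D (D.n j) D.w (D.n_o j) D.w_o
  rw [D.n_w j] at hs
  obtain ⟨hcj, hsj⟩ := supp_facts D _ (D.n_o j) (D.n_self j)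
  obtain ⟨hcw, hsw⟩ := supp_facts D _ D.w_o D.w_self
  rcases inter_card D (D.n j) D.w (D.n_o j) D.w_o (D.n_self j) D.w_self (by omega)
    with h | h
  · obtain ⟨q, hq⟩ := Finset.card_eq_one.mp h
    refine ⟨q, hq, ?_⟩
    rw [hq, Finset.sum_singleton] at hs
    have hqm : q ∈ supp D (D.n j) ∩ supp D D.w := hq ▸ Finset.mem_singleton_self q
    obtain ⟨h1, h2⟩ := Finset.mem_inter.mp hqm
    rcases hsj q h1 with e1 | e1 <;> rcases hsw q h2 with e2 | e2 <;> rw [e1, e2] at hs ⊢ <;> omega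
  · exfalso
    rw [← h, Finset.inter_self] at hs
    obtain ⟨a, b, c, hab, hac, hbc, hset, ha, hb, hc⟩ := three_sign_cases
      (f := fun i => -(D.n j i * D.w i)) hcj (fun i hi => by
        show -(D.n j i * D.w i) = 1 ∨ -(D.n j i * D.w i) = -1
        rcases hsj i hi with e1 | e1 <;> rcases hsw i (h ▸ hi) with e2 | e2 <;> rw [e1, e2] <;> simp)
      (by rw [Finset.sum_neg_distrib]; linarith)
    have hmem : ∀ x ∈ ({a, b, c} : Finset ι), x ∈ supp D (D.n j) := fun x hx => hset ▸ hx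
    have haj := hmem a (by simp)
    have hbj := hmem b (by simp)
    have hcj' := hmem c (by simp)
    have ea : D.w a = D.n j a := by
      have ha' : -(D.n j a * D.w a) = -1 := ha
      rcases hsj a haj with e | e <;> rw [e] at ha' ⊢ <;> omega
    have eb : D.w b = -D.n j b := by
      have hb' : -(D.n j b * D.w b) = 1 := hb
      rcases hsj b hbj with e | e <;> rw [e] at hb' ⊢ <;> omega
    have ec : D.w c = -D.n j c := by
      have hc' : -(D.n j c * D.w c) = 1 := hc
      rcases hsj c hcj' with e | e <;> rw [e] at hc' ⊢ <;> omega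
    have d1 := D.deg_n j
    have d2 := D.deg_w
    rw [sum_eq_supp D _ _ (D.n_o j)] at d1
    rw [sum_eq_supp D _ _ D.w_o, ← h] at d2
    rw [hset, Finset.sum_insert (by simp [hab, hac]), Finset.sum_pair hbc] at d1 d2
    rw [ea, eb, ec, Int.cast_neg, Int.cast_neg, D.d_o] at d2
    rw [D.d_o] at d1
    push_cast at d1 d2
    have h0 : (D.n j a : ℂ) * (D.d a : ℂ) = -1 := by linear_combination (d1 + d2) / 2
    have h0' : D.n j a * (D.d a : ℤ) = -1 := by exact_mod_cast h0
    have hd : D.d a = 1 := by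
      rcases hsj a haj with e | e <;> rw [e] at h0' <;> omega
    exact (Finset.mem_filter.mp haj).2.1 (D.d_one a hd)

/-- The three elements of the support of a column. -/
theorem structure_column (j k l : Fin 3) (hjk : j ≠ k) (hjl : j ≠ l) (hkl : k ≠ l) :
    ∃ p q x : ι, p ≠ q ∧ p ≠ x ∧ q ≠ x ∧ supp D (D.n j) = {p, q, x} ∧
      supp D (D.n j) ∩ supp D (D.n k) = {p} ∧ supp D (D.n j) ∩ supp D (D.n l) = {q} ∧
      supp D (D.n j) ∩ supp D D.w = {x} := by
  obtain ⟨p, hp, -⟩ := n_inter D j k hjk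
  obtain ⟨q, hq, -⟩ := n_inter D j l hjl
  obtain ⟨x, hx, -⟩ := w_inter D j
  obtain ⟨hcj, -⟩ := supp_facts D _ (D.n_o j) (D.n_self j)
  have hpm : p ∈ supp D (D.n j) ∩ supp D (D.n k) := hp ▸ Finset.mem_singleton_self p
  have hqm : q ∈ supp D (D.n j) ∩ supp D (D.n l) := hq ▸ Finset.mem_singleton_self q
  have hxm : x ∈ supp D (D.n j) ∩ supp D D.w := hx ▸ Finset.mem_singleton_self x
  rw [Finset.mem_inter] at hpm hqm hxm
  have hperm : ∀ i : ι, D.n j i + D.n k i + D.n l i = D.n 0 i + D.n 1 i + D.n 2 i := by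
    intro i
    fin_cases j <;> fin_cases k <;> fin_cases l <;>
      simp at hjk hjl hkl ⊢ <;> ring
  -- every point of the support lies in a second support
  have hcov : ∀ i ∈ supp D (D.n j), i = p ∨ i = q ∨ i = x := by
    intro i hi
    by_contra hne
    simp only [not_or] at hne
    have hio : i ≠ D.o := (Finset.mem_filter.mp hi).2.1
    have hk0 : D.n k i = 0 := by
      by_contra h
      have : i ∈ supp D (D.n j) ∩ supp D (D.n k) :=
        Finset.mem_inter.mpr ⟨hi, by simp [supp, hio, h]⟩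
      rw [hp, Finset.mem_singleton] at this
      exact hne.1 this
    have hl0 : D.n l i = 0 := by
      by_contra h
      have : i ∈ supp D (D.n j) ∩ supp D (D.n l) :=
        Finset.mem_inter.mpr ⟨hi, by simp [supp, hio, h]⟩
      rw [hq, Finset.mem_singleton] at this
      exact hne.2.1 this
    have hw0 : D.w i = 0 := by
      by_contra h
      have : i ∈ supp D (D.n j) ∩ supp D D.w :=
        Finset.mem_inter.mpr ⟨hi, by simp [supp, hio, h]⟩
      rw [hx, Finset.mem_singleton] at this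
      exact hne.2.2 this
    have hp2 := D.parity i
    rw [← hperm i, hk0, hl0, hw0] at hp2
    rcases (supp_facts D _ (D.n_o j) (D.n_self j)).2 i hi with e | e <;> rw [e] at hp2 <;> omega
  have hset : supp D (D.n j) = {p, q, x} := by
    refine Finset.Subset.antisymm (fun i hi => by simpa using hcov i hi) ?_
    intro i hi
    simp only [Finset.mem_insert, Finset.mem_singleton] at hi
    rcases hi with rfl | rfl | rfl
    · exact hpm.1
    · exact hqm.1
    · exact hxm.1
  have hc3 : ({p, q, x} : Finset ι).card = 3 := hset ▸ hcj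
  refine ⟨p, q, x, ?_, ?_, ?_, hset, hp, hq, hx⟩
  · rintro rfl
    have : ({p, p, x} : Finset ι).card ≤ 2 := by
      rw [Finset.insert_idem]; exact Finset.card_le_two
    omega
  · rintro rfl
    have : ({p, q, p} : Finset ι).card ≤ 2 := by
      rw [show ({p, q, p} : Finset ι) = {p, q} by ext i; simp; tauto]; exact Finset.card_le_two
    omega
  · rintro rfl
    have : ({p, q, q} : Finset ι).card ≤ 2 := by
      rw [show ({p, q, q} : Finset ι) = {p, q} by ext i; simp]; exact Finset.card_le_two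
    omega

theorem false_of_data (D : Data ι) : False := by
  obtain ⟨hcw, hsw⟩ := supp_facts D _ D.w_o D.w_self
  obtain ⟨q2, q1, x0, h21, h2x, h1x, hs0, h01, h02, h0w⟩ :=
    structure_column D 0 1 2 (by decide) (by decide) (by decide)
  obtain ⟨q2', q0, x1, hq20, hq2x, h0x, hs1, h10, h12, h1w⟩ :=
    structure_column D 1 0 2 (by decide) (by decide) (by decide)
  obtain ⟨q1', q0', x2, hq10, hq1x, hq0x, hs2, h20, h21', h2w⟩ :=
    structure_column D 2 0 1 (by decide) (by decide) (by decide)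
  have e2 : q2' = q2 := by
    rw [Finset.inter_comm, h01] at h10
    exact (Finset.singleton_inj.mp h10).symm
  have e1 : q1' = q1 := by
    rw [Finset.inter_comm, h02] at h20
    exact (Finset.singleton_inj.mp h20).symm
  have e0 : q0' = q0 := by
    rw [Finset.inter_comm, h12] at h21'
    exact (Finset.singleton_inj.mp h21').symm
  subst q2' q1' q0'
  have m0 : x0 ∈ supp D (D.n 0) ∧ x0 ∈ supp D D.w :=
    Finset.mem_inter.mp (h0w ▸ Finset.mem_singleton_self x0)
  have m1 : x1 ∈ supp D (D.n 1) ∧ x1 ∈ supp D D.w :=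
    Finset.mem_inter.mp (h1w ▸ Finset.mem_singleton_self x1)
  have m2 : x2 ∈ supp D (D.n 2) ∧ x2 ∈ supp D D.w :=
    Finset.mem_inter.mp (h2w ▸ Finset.mem_singleton_self x2)
  have hsing : ∀ {v v' : ι → ℤ} {q i : ι}, supp D v ∩ supp D v' = {q} → i ∈ supp D v →
      i ≠ q → v' i = 0 := by
    intro v v' q i h hi hne
    by_contra h'
    have : i ∈ supp D v ∩ supp D v' :=
      Finset.mem_inter.mpr ⟨hi, by simp [supp, h', (Finset.mem_filter.mp hi).2.1]⟩
    rw [h, Finset.mem_singleton] at this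
    exact hne this
  have z01 : D.n 1 x0 = 0 := hsing h01 m0.1 (Ne.symm h2x)
  have z02 : D.n 2 x0 = 0 := hsing h02 m0.1 (Ne.symm h1x)
  have z10 : D.n 0 x1 = 0 := hsing h10 m1.1 (Ne.symm hq2x)
  have z12 : D.n 2 x1 = 0 := hsing h12 m1.1 (Ne.symm h0x)
  have z20 : D.n 0 x2 = 0 := hsing h20 m2.1 (Ne.symm hq1x)
  have z21 : D.n 1 x2 = 0 := hsing h21' m2.1 (Ne.symm hq0x)
  have hx01 : x0 ≠ x1 := fun h => (Finset.mem_filter.mp m0.1).2.2 (h ▸ z10)
  have hx02 : x0 ≠ x2 := fun h => (Finset.mem_filter.mp m0.1).2.2 (h ▸ z20)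
  have hx12 : x1 ≠ x2 := fun h => (Finset.mem_filter.mp m1.1).2.2 (h ▸ z21)
  have hsw3 : supp D D.w = {x0, x1, x2} := by
    refine (Finset.eq_of_subset_of_card_le ?_ ?_).symm
    · intro i hi
      simp only [Finset.mem_insert, Finset.mem_singleton] at hi
      rcases hi with rfl | rfl | rfl
      · exact m0.2
      · exact m1.2
      · exact m2.2
    · rw [hcw, Finset.card_insert_of_notMem (by simp [hx01, hx02]), Finset.card_pair hx12]
  have hw : ∀ {j : Fin 3} {x : ι}, supp D (D.n j) ∩ supp D D.w = {x} → D.n j x = -D.w x := by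
    intro j x h
    obtain ⟨x', hx', he⟩ := w_inter D j
    rw [h] at hx'
    rwa [← Finset.singleton_inj.mp hx'] at he
  have hn : ∀ {j k : Fin 3} {q : ι}, j ≠ k → supp D (D.n j) ∩ supp D (D.n k) = {q} →
      D.n k q = D.n j q := by
    intro j k q hjk h
    obtain ⟨q', hq', he⟩ := n_inter D j k hjk
    rw [h] at hq'
    rw [← Finset.singleton_inj.mp hq'] at he
    exact he.symm
  have w0 := hw h0w
  have w1 := hw h1w
  have w2 := hw h2w
  have t2 := hn (by decide) h01
  have t1 := hn (by decide) h02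
  have t0 := hn (by decide) h12
  -- the linear equations for a function `f`
  have key : ∀ f : ι → ℂ, f D.o = 1 → (∀ j, ∑ i, (D.n j i : ℂ) * f i = 0) →
      ∑ i, (D.w i : ℂ) * f i = 0 → (D.n 0 q2 : ℂ) * f q2 = -(1 + (D.w x2 : ℂ) * f x2) := by
    intro f hfo hfn hfw
    have a0 := hfn 0
    have a1 := hfn 1
    have a2 := hfn 2
    rw [sum_eq_supp D _ _ (D.n_o 0), hs0, Finset.sum_insert (by simp [h21, h2x]),
      Finset.sum_pair h1x, w0, Int.cast_neg, hfo] at a0
    rw [sum_eq_supp D _ _ (D.n_o 1), hs1, Finset.sum_insert (by simp [hq20, hq2x]),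
      Finset.sum_pair h0x, w1, Int.cast_neg, t2, hfo] at a1
    rw [sum_eq_supp D _ _ (D.n_o 2), hs2, Finset.sum_insert (by simp [hq10, hq1x]),
      Finset.sum_pair hq0x, w2, Int.cast_neg, t1, t0, hfo] at a2
    rw [sum_eq_supp D _ _ D.w_o, hsw3, Finset.sum_insert (by simp [hx01, hx02]),
      Finset.sum_pair hx12, hfo] at hfw
    linear_combination (a0 + a1 - a2 + hfw) / 2
  have k1 := key (fun i => (D.d i : ℂ)) (by simp [D.d_o]) D.deg_n D.deg_w
  have k2 := key (fun i => D.y i * D.y i / (D.d i : ℂ)) (by simp [D.d_o, D.y_o]) D.sq_n D.sq_w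
  -- the values at the involution
  have z2q : D.n 2 q2 = 0 := by
    refine hsing h02 (hs0 ▸ by simp) h21
  have hy2 : D.y x2 = -(D.w x2 : ℂ) * D.e 2 := by
    rw [D.y_eq x2 (Or.inr (Finset.mem_filter.mp m2.2).2.2), Fin.sum_univ_three, z20, z21, w2]
    push_cast; ring
  have hq0 : D.n 0 q2 ≠ 0 :=
    (Finset.mem_filter.mp (hs0 ▸ by simp : q2 ∈ supp D (D.n 0))).2.2
  have hyq : D.y q2 = (D.n 0 q2 : ℂ) * (1 - D.e 2) := by
    rw [D.y_eq q2 (Or.inl ⟨0, hq0⟩), Fin.sum_univ_three, z2q, t2]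
    have he : (D.e 0 : ℂ) + D.e 1 + D.e 2 = 1 := by exact_mod_cast D.e_sum
    push_cast
    linear_combination (D.n 0 q2 : ℂ) * he
  simp only [hy2, hyq] at k2
  have hs2x : (D.w x2 : ℂ) * (D.w x2 : ℂ) = 1 := by
    rcases hsw x2 m2.2 with e | e <;> rw [e] <;> norm_num
  have ht2q : (D.n 0 q2 : ℂ) * (D.n 0 q2 : ℂ) = 1 := by
    rcases (supp_facts D _ (D.n_o 0) (D.n_self 0)).2 q2 (hs0 ▸ by simp) with e | e <;> rw [e] <;>
      norm_num
  refine D.y_ne x2 (Finset.mem_filter.mp m2.2).2.1 ?_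
  rw [hy2]
  have hdx : (D.d x2 : ℂ) ≠ 0 := by exact_mod_cast D.d_pos x2
  have hdq : (D.d q2 : ℂ) ≠ 0 := by exact_mod_cast D.d_pos q2
  generalize (D.w x2 : ℂ) = s at k1 k2 hs2x ⊢
  generalize (D.n 0 q2 : ℂ) = t at k1 k2 ht2q ⊢
  generalize (D.d x2 : ℂ) = X at k1 k2 hdx ⊢
  generalize (D.d q2 : ℂ) = Q at k1 k2 hdq
  generalize (D.e 2 : ℂ) = e at k2 ⊢
  have ht0 : t ≠ 0 := left_ne_zero_of_mul_eq_one ht2q
  have hs0' : s ≠ 0 := left_ne_zero_of_mul_eq_one hs2x
  have k2' : (1 - e) * (1 - e) * (s * X) = -(t * Q) * (s * X + e * e) := by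
    field_simp at k2
    linear_combination (s * t) * k2 - (1 - e) * (1 - e) * s * X * (t * t + 1) * ht2q
      - t * Q * e * e * (s * s + 1) * hs2x
  have hsq : (s * X + e) * (s * X + e) = 0 := by
    linear_combination (s * X + e * e) * k1 - k2'
  have h2 : s * X + e = 0 := mul_self_eq_zero.mp hsq
  linear_combination -s * h2 + X * hs2x

end Cfsg.Agent.ZStar.Q8
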