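import Cfsg.Agent.Lib.Blocks.PPart
import Cfsg.Agent.Lib.Blocks.CentralChar

/-!
# Sums over 2-sections
-/

set_option linter.style.haveILetI false

namespace Cfsg.Agent.ZStar

open Cfsg

universe u

variable {G : Type u} [Group G] [Fintype G]

/-- The elements whose 2-part is conjugate to `u`. -/
noncomputable def twoSection (u : G) : Finset G := by
  classical exact Finset.univ.filter fun g => ∃ s, IsConj u s ∧ IsPPart 2 g s

theorem mem_twoSection {u g : G} :
    g ∈ twoSection u ↔ ∃ s, IsConj u s ∧ IsPPart 2 g s := by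
  simp [twoSection]

theorem isPPart_conj_mem {u g : G} (hg : g ∈ twoSection u) (c : G) :
    c * g * c⁻¹ ∈ twoSection u := by
  obtain ⟨s, hs, hp⟩ := mem_twoSection.mp hg
  exact mem_twoSection.mpr ⟨_, hs.trans (isConj_iff.mpr ⟨c, rfl⟩), Blocks.IsPPart.conj hp c⟩

/-- The odd elements of the centralizer. -/
noncomputable def oddCentralizing (u : G) : Finset G := by
  classical exact Finset.univ.filter fun v => Commute u v ∧ Odd (orderOf v)

theorem mem_oddCentralizing {u v : G} :
    v ∈ oddCentralizing u ↔ Commute u v ∧ Odd (orderOf v) := by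
  simp [oddCentralizing]

/-- The sum of a class function over a section. -/
theorem sum_twoSection {u : G} (hu : ∃ k : ℕ, orderOf u = 2 ^ k) {f : G → ℂ}
    (hf : IsClassFunction G f) :
    ∑ g ∈ twoSection u, f g =
      ((Subgroup.centralizer ({u} : Set G)).index : ℂ) * ∑ v ∈ oddCentralizing u, f (u * v) := by
  classical
  haveI : Fact (Nat.Prime 2) := ⟨Nat.prime_two⟩
  have hodd : ∀ {n : ℕ}, Odd n → ¬ 2 ∣ n := fun h h2 =>
    Nat.not_even_iff_odd.mpr h (even_iff_two_dvd.mpr h2)
  have hordc : ∀ s, IsConj u s → ∃ k : ℕ, orderOf s = 2 ^ k := by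
    rintro s hs
    obtain ⟨c, rfl⟩ := isConj_iff.mp hs
    obtain ⟨k, hk⟩ := hu
    exact ⟨k, by rw [← hk]; exact MulEquiv.orderOf_eq (MulAut.conj c) u⟩
  have hmaps : ∀ g ∈ twoSection u,
      (Classical.epsilon fun s => IsPPart 2 g s) ∈ Finset.univ.filter fun s => IsConj u s := by
    intro g hg
    obtain ⟨s, hs, hp⟩ := mem_twoSection.mp hg
    have := Classical.epsilon_spec (p := fun s => IsPPart 2 g s) ⟨s, hp⟩
    rw [Blocks.IsPPart.unique this hp]
    simpa using hs
  rw [← Finset.sum_fiberwise_of_maps_to hmaps f]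
  have hfib : ∀ s ∈ Finset.univ.filter fun s => IsConj u s,
      ∑ g ∈ twoSection u with (Classical.epsilon fun t => IsPPart 2 g t) = s, f g =
        ∑ v ∈ oddCentralizing u, f (u * v) := by
    intro s hs
    obtain ⟨c, hc⟩ := isConj_iff.mp (Finset.mem_filter.mp hs).2
    refine Finset.sum_bij' (fun g _ => u⁻¹ * (c⁻¹ * g * c)) (fun v _ => c * (u * v) * c⁻¹)
      ?_ ?_ ?_ ?_ ?_
    · intro g hg
      obtain ⟨hg1, hg2⟩ := Finset.mem_filter.mp hg
      obtain ⟨t, -, hp⟩ := mem_twoSection.mp hg1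
      have hgp : IsPPart 2 g s :=
        hg2 ▸ Classical.epsilon_spec (p := fun t => IsPPart 2 g t) ⟨t, hp⟩
      have h2 := Blocks.IsPPart.conj hgp c⁻¹
      rw [inv_inv, ← hc, show c⁻¹ * (c * u * c⁻¹) * c = u by group] at h2
      obtain ⟨y, hy, hcy, -, hyo⟩ := h2
      rw [mem_oddCentralizing, ← hy, inv_mul_cancel_left]
      exact ⟨hcy, Nat.not_even_iff_odd.mp fun h => hyo (even_iff_two_dvd.mp h)⟩
    · intro v hv
      obtain ⟨hcv, hvo⟩ := mem_oddCentralizing.mp hv
      have h1 : IsPPart 2 (c * (u * v) * c⁻¹) s :=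
        hc ▸ Blocks.IsPPart.conj (Blocks.isPPart_mul hcv hu (hodd hvo)) c
      refine Finset.mem_filter.mpr ⟨mem_twoSection.mpr ⟨s, (Finset.mem_filter.mp hs).2, h1⟩, ?_⟩
      exact Blocks.IsPPart.unique (Classical.epsilon_spec (p := fun t => IsPPart 2 _ t) ⟨s, h1⟩) h1
    · intro g _; group
    · intro v _; group
    · intro g _
      have h3 := hf (c⁻¹ * g * c) c
      rw [show c * (c⁻¹ * g * c) * c⁻¹ = g by group] at h3
      rw [mul_inv_cancel_left]
      exact h3
  rw [Finset.sum_congr rfl hfib, Finset.sum_const, nsmul_eq_mul]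
  congr 2
  rw [← Blocks.card_isConj_eq_index u, Nat.card_eq_fintype_card, Fintype.card_subtype]

end Cfsg.Agent.ZStar
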