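import Cfsg.Agent.Lib.ZStar.RankOne
import Cfsg.Agent.Lib.ZStar.Section
import Mathlib.GroupTheory.Focal
import Mathlib.GroupTheory.Transfer
import Mathlib.GroupTheory.SpecificGroups.Quaternion

/-!
# A minimal counterexample with quaternion Sylow 2-subgroup of order eight: group theory
-/

set_option linter.style.haveILetI false

namespace Cfsg.Agent.ZStar

open Cfsg
open scoped commutatorElement

universe u

namespace Q8

theorem quat_inv_conj : ∀ q : QuaternionGroup 2, ∃ c, c * q * c⁻¹ = q⁻¹ := by decide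

theorem quat_centralizer : ∀ q c : QuaternionGroup 2, q * q ≠ 1 → c * q = q * c →
    c = 1 ∨ c = q ∨ c = q * q ∨ c = q * q * q := by decide

theorem quat_third_aux : ∀ x : QuaternionGroup 2, x * x ≠ 1 → ∀ y, (y * y ≠ 1 ∧ y ≠ x ∧ y ≠ x⁻¹) →
    ∀ t, (t * t ≠ 1 ∧ t ≠ x ∧ t ≠ x⁻¹ ∧ t ≠ y ∧ t ≠ y⁻¹) →
    ∀ s, (s * s ≠ 1 ∧ s ≠ x ∧ s ≠ x⁻¹ ∧ s ≠ y ∧ s ≠ y⁻¹) → s = t ∨ s = t⁻¹ := by decide

theorem quat_third (x y t s : QuaternionGroup 2) (hx : x * x ≠ 1) (hy : y * y ≠ 1) (ht : t * t ≠ 1)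
    (hs : s * s ≠ 1) (a1 : y ≠ x) (a2 : y ≠ x⁻¹) (b1 : t ≠ x) (b2 : t ≠ x⁻¹) (b3 : t ≠ y)
    (b4 : t ≠ y⁻¹) (c1 : s ≠ x) (c2 : s ≠ x⁻¹) (c3 : s ≠ y) (c4 : s ≠ y⁻¹) : s = t ∨ s = t⁻¹ :=
  quat_third_aux x hx y ⟨hy, a1, a2⟩ t ⟨ht, b1, b2, b3, b4⟩ s ⟨hs, c1, c2, c3, c4⟩

theorem quat_coset : ∀ k t t' : QuaternionGroup 2, k * k ≠ 1 → t * t ≠ 1 → t' * t' ≠ 1 →
    t ≠ k → t ≠ k⁻¹ → t' ≠ k → t' ≠ k⁻¹ →
    t⁻¹ * t' = 1 ∨ t⁻¹ * t' = k ∨ t⁻¹ * t' = k * k ∨ t⁻¹ * t' = k * k * k := by decide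

theorem quat_outside : ∀ k : QuaternionGroup 2, ∃ t : QuaternionGroup 2,
    t ≠ 1 ∧ t ≠ k ∧ t ≠ k * k ∧ t ≠ k * k * k := by decide

/-- The centralizer of an element of order four has a normal 2-complement of index four. -/
theorem exists_centralizer_complement {G : Type u} [Group G] [Finite G] (P : Sylow 2 G)
    (e : (P : Subgroup G) ≃* QuaternionGroup 2) {u : G} (hu : orderOf u = 4) :
    ∃ N : Subgroup G, (∀ v, v ∈ N ↔ Commute u v ∧ Odd (orderOf v)) ∧
      Nat.card (Subgroup.centralizer ({u} : Set G)) = 4 * Nat.card N := by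
  haveI : Fact (Nat.Prime 2) := ⟨Nat.prime_two⟩
  set K := Subgroup.centralizer ({u} : Set G) with hK
  have huK : u ∈ K := Subgroup.mem_centralizer_singleton_iff.mpr rfl
  set u' : K := ⟨u, huK⟩ with hu'
  have hu'4 : orderOf u' = 4 := by rw [← Subgroup.orderOf_coe]; exact hu
  haveI : (Subgroup.zpowers u').Normal := ⟨fun n hn c => by
    have hcu : c * u' = u' * c := Subtype.ext (Subgroup.mem_centralizer_singleton_iff.mp c.2)
    obtain ⟨i, rfl⟩ := Subgroup.mem_zpowers_iff.mp hn
    rw [((show Commute c u' from hcu).zpow_right i).eq, mul_inv_cancel_right]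
    exact zpow_mem (Subgroup.mem_zpowers _) i⟩
  have hpu : IsPGroup 2 (Subgroup.zpowers u') :=
    IsPGroup.of_card (n := 2) (by rw [Nat.card_zpowers, hu'4]; norm_num)
  obtain ⟨S, hS⟩ := hpu.exists_le_sylow
  have hSeq : (S : Subgroup K) = Subgroup.zpowers u' := by
    refine le_antisymm (fun x hx => ?_) hS
    have hp : IsPGroup 2 ((S : Subgroup K).map K.subtype) := S.2.map _
    obtain ⟨Q, hQ⟩ := hp.exists_le_sylow
    obtain ⟨c, rfl⟩ := MulAction.exists_smul_eq G P Q
    have hm : ∀ y ∈ (S : Subgroup K), c⁻¹ * (y : G) * c ∈ (P : Subgroup G) := by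
      intro y hy
      have h := hQ (Subgroup.mem_map_of_mem K.subtype hy)
      rw [Sylow.coe_subgroup_smul, Subgroup.mem_pointwise_smul_iff_inv_smul_mem] at h
      simpa only [← map_inv, MulAut.smul_def, MulAut.conj_apply, inv_inv, Subgroup.coe_subtype]
        using h
    have ha : c⁻¹ * u * c ∈ (P : Subgroup G) := hm u' (hS (Subgroup.mem_zpowers _))
    have hb := hm x hx
    have ha2 : e ⟨_, ha⟩ * e ⟨_, ha⟩ ≠ 1 := by
      intro h
      rw [← map_mul, MulEquiv.map_eq_one_iff] at h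
      have h2 := congrArg Subtype.val h
      rw [Subgroup.coe_mul, Subgroup.coe_one,
        show c⁻¹ * u * c * (c⁻¹ * u * c) = c⁻¹ * (u * u) * c by group] at h2
      have h3 : u ^ 2 = 1 := by
        rw [pow_two, show u * u = c * (c⁻¹ * (u * u) * c) * c⁻¹ by group, h2, mul_one,
          mul_inv_cancel]
      exact pow_ne_one_of_lt_orderOf (by norm_num : (2 : ℕ) ≠ 0) (by omega) h3
    have hcomm : c⁻¹ * (x : G) * c * (c⁻¹ * u * c) = c⁻¹ * u * c * (c⁻¹ * (x : G) * c) := by
      have hxu : (x : G) * u = u * x := Subgroup.mem_centralizer_singleton_iff.mp x.2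
      calc c⁻¹ * (x : G) * c * (c⁻¹ * u * c) = c⁻¹ * ((x : G) * u) * c := by group
        _ = c⁻¹ * (u * x) * c := by rw [hxu]
        _ = _ := by group
    have h := Q8.quat_centralizer _ (e ⟨_, hb⟩) ha2
      (by rw [← map_mul, ← map_mul]; exact congrArg e (Subtype.ext hcomm))
    simp only [← map_mul] at h
    rw [MulEquiv.map_eq_one_iff] at h
    simp only [e.injective.eq_iff] at h
    have hx' : ∀ i : ℤ, (x : G) = u ^ i → x ∈ Subgroup.zpowers u' := fun i hi =>
      ⟨i, Subtype.ext (by rw [hi]; simp [hu'])⟩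
    rcases h with h | h | h | h <;> have h' := congrArg Subtype.val h <;>
      simp only [Subgroup.coe_mul, Subgroup.coe_one] at h'
    · refine hx' 0 ?_
      rw [zpow_zero, show (x : G) = c * (c⁻¹ * (x : G) * c) * c⁻¹ by group, h']; group
    · refine hx' 1 ?_
      rw [show (x : G) = c * (c⁻¹ * (x : G) * c) * c⁻¹ by group, h']; group
    · refine hx' 2 ?_
      rw [show (x : G) = c * (c⁻¹ * (x : G) * c) * c⁻¹ by group, h']; group
      simp [pow_succ, zpow_two, mul_assoc]
    · refine hx' 3 ?_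
      rw [show (x : G) = c * (c⁻¹ * (x : G) * c) * c⁻¹ by group, h']; group
      simp [pow_succ, zpow_two, mul_assoc]
  have hcyc : IsCyclic (S : Subgroup K) := by
    rw [hSeq]; infer_instance
  have hmin : (Nat.card K).minFac = 2 := (Nat.minFac_eq_two_iff _).mpr (by
    have := orderOf_dvd_natCard u'
    rw [hu'4] at this
    exact dvd_trans (by norm_num) this)
  have hc := IsCyclic.isComplement' (P := S) hmin hcyc
  set N₀ := (MonoidHom.transferSylow S (hcyc.normalizer_le_centralizer hmin)).ker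
  refine ⟨N₀.map K.subtype, fun v => ?_, ?_⟩
  · constructor
    · rintro ⟨n, hn, rfl⟩
      refine ⟨(Subgroup.mem_centralizer_singleton_iff.mp n.2).symm, ?_⟩
      rw [Subgroup.coe_subtype, Subgroup.orderOf_coe]
      exact (Nat.coprime_two_right.mp (Transfer.coprime_card_of_isComplement'_sylow S hc)).of_dvd_nat
        (Subgroup.orderOf_dvd_natCard N₀ hn)
    · rintro ⟨hv, hodd⟩
      refine ⟨⟨v, Subgroup.mem_centralizer_singleton_iff.mpr hv.symm.eq⟩, ?_, rfl⟩
      show _ ∈ N₀
      rw [Transfer.eq_pResidual_of_isComplement'_sylow S hc]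
      exact Transfer.mem_residual_of_coprime (Nat.coprime_two_right.mpr (by
        rwa [← Subgroup.orderOf_coe]))
  · rw [Subgroup.card_map_of_injective K.subtype_injective, ← hc.card_mul_card]
    rw [hSeq, Nat.card_zpowers, hu'4, mul_comm]


end Q8

variable {G : Type u} [Group G] [Finite G] {z : G}

/-- The quaternion case of order eight. -/
structure QuatConfig (z : G) (P : Sylow 2 G) : Prop where
  min : MinConfig z
  only : OnlyInvolution z
  mem : z ∈ P
  quat : Nonempty ((P : Subgroup G) ≃* QuaternionGroup 2)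

namespace QuatConfig

variable {P : Sylow 2 G} (hq : QuatConfig z P)
include hq

theorem exists_mem_order_four : ∃ u ∈ (P : Subgroup G), orderOf u = 4 := by
  obtain ⟨e⟩ := hq.quat
  refine ⟨_, (e.symm (QuaternionGroup.xa 0)).2, ?_⟩
  rw [Subgroup.orderOf_coe, MulEquiv.orderOf_eq, QuaternionGroup.orderOf_xa]

theorem card_sylow : Nat.card (P : Subgroup G) = 8 := by
  obtain ⟨e⟩ := hq.quat
  rw [Nat.card_congr e.toEquiv, Nat.card_eq_fintype_card, QuaternionGroup.card]

theorem cases_sylow {x : G} (hx : x ∈ (P : Subgroup G)) :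
    x = 1 ∨ x = z ∨ (orderOf x = 4 ∧ x * x = z) := by
  obtain ⟨e⟩ := hq.quat
  obtain ⟨-, huniq⟩ := hq.min.sylow_involution_unique hq.only P hq.mem
  have h4 : x ^ 4 = 1 := by
    have h : (e ⟨x, hx⟩) ^ 4 = 1 := by
      have h2 := Monoid.pow_exponent_eq_one (e ⟨x, hx⟩)
      rw [QuaternionGroup.exponent] at h2
      simpa using h2
    rw [← map_pow, MulEquiv.map_eq_one_iff] at h
    exact congrArg Subtype.val h
  obtain ⟨i, hi, hio⟩ := (Nat.dvd_prime_pow Nat.prime_two).mp
    (show orderOf x ∣ 2 ^ 2 from orderOf_dvd_of_pow_eq_one h4)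
  interval_cases i
  · left; rw [← orderOf_eq_one_iff, hio]; norm_num
  · right; left; exact huniq x hx (by rw [hio]; norm_num)
  · right; right
    refine ⟨by rw [hio]; norm_num, huniq _ (mul_mem hx hx) ?_⟩
    rw [← pow_two, orderOf_pow' _ (by norm_num), hio]
    norm_num

theorem sq_eq {u : G} (hu : orderOf u = 4) (huP : u ∈ (P : Subgroup G)) : u * u = z := by
  rcases hq.cases_sylow huP with rfl | rfl | ⟨-, h⟩
  · rw [orderOf_one] at hu; omega
  · rw [hq.min.iso.1] at hu; omega
  · exact h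

theorem commute_of_conj_mem {u g : G} (hu : orderOf u = 4) (huP : u ∈ (P : Subgroup G))
    (hg : g * u * g⁻¹ ∈ (P : Subgroup G)) : Commute g z := by
  have h4 : orderOf (g * u * g⁻¹) = 4 := by
    rw [← MulAut.conj_apply, MulEquiv.orderOf_eq, hu]
  have h := hq.sq_eq h4 hg
  rw [show g * u * g⁻¹ * (g * u * g⁻¹) = g * (u * u) * g⁻¹ by group, hq.sq_eq hu huP,
    mul_inv_eq_iff_eq_mul] at h
  exact h

theorem normal_bot_or_top (N : Subgroup G) [N.Normal] : N = ⊥ ∨ N = ⊤ := by
  haveI : Fact (Nat.Prime 2) := ⟨Nat.prime_two⟩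
  by_cases hodd : Odd (Nat.card N)
  · left
    exact le_bot_iff.mp (hq.min.core ▸ PCore.le_oddCore hodd)
  · right
    obtain ⟨x, hx⟩ := exists_prime_orderOf_dvd_card' (G := N) 2
      (even_iff_two_dvd.mp (Nat.not_odd_iff_even.mp hodd))
    have hx2 : orderOf (x : G) = 2 := by rwa [Subgroup.orderOf_coe]
    have hp : IsPGroup 2 (Subgroup.zpowers (x : G)) :=
      IsPGroup.of_card (n := 1) (by rw [Nat.card_zpowers, hx2, pow_one])
    obtain ⟨Q, hQ⟩ := hp.exists_le_sylow
    obtain ⟨c, rfl⟩ := MulAction.exists_smul_eq G P Q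
    have hm := hQ (Subgroup.mem_zpowers _)
    rw [Sylow.coe_subgroup_smul, Subgroup.mem_pointwise_smul_iff_inv_smul_mem] at hm
    simp only [← map_inv, MulAut.smul_def, MulAut.conj_apply, inv_inv] at hm
    obtain ⟨-, huniq⟩ := hq.min.sylow_involution_unique hq.only P hq.mem
    have hz' : c⁻¹ * (x : G) * c = z := by
      refine huniq _ hm ?_
      have := MulEquiv.orderOf_eq (MulAut.conj c⁻¹) (x : G)
      rw [MulAut.conj_apply, inv_inv] at this
      rw [this, hx2]
    refine hq.min.normal_eq_top (hz' ▸ ?_)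
    simpa using ‹N.Normal›.conj_mem _ x.2 c⁻¹

theorem commutator_eq_top : commutator G = ⊤ := by
  refine (hq.normal_bot_or_top (commutator G)).resolve_left fun h => hq.min.noncentral ?_
  rw [Subgroup.mem_center_iff]
  intro g
  have : ⁅g, z⁆ ∈ commutator G := Subgroup.commutator_mem_commutator trivial trivial
  rw [h, Subgroup.mem_bot, commutatorElement_def, mul_inv_eq_one, mul_inv_eq_iff_eq_mul] at this
  exact this

theorem focal_eq : (P : Subgroup G).focalSubgroup = (P : Subgroup G) := by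
  rw [← Subgroup.commutator_inf_eq_focalSubgroup P, hq.commutator_eq_top, top_inf_eq]

/-- All elements of order four of the Sylow subgroup are conjugate. -/
theorem isConj_of_order_four {x y : G} (hx : orderOf x = 4) (hxP : x ∈ (P : Subgroup G))
    (hy : orderOf y = 4) (hyP : y ∈ (P : Subgroup G)) : IsConj x y := by
  obtain ⟨e⟩ := hq.quat
  by_contra hne
  have hinv : ∀ a ∈ (P : Subgroup G), IsConj a a⁻¹ := by
    intro a ha
    obtain ⟨c, hc⟩ := Q8.quat_inv_conj (e ⟨a, ha⟩)
    have h := congrArg e.symm hc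
    simp only [map_mul, map_inv, MulEquiv.symm_apply_apply] at h
    exact isConj_iff.mpr ⟨_, congrArg Subtype.val h⟩
  have hsq : ∀ {a : G} (ha : a ∈ (P : Subgroup G)), orderOf a = 4 →
      e ⟨a, ha⟩ * e ⟨a, ha⟩ ≠ 1 := by
    intro a ha h4 h
    rw [← map_mul, MulEquiv.map_eq_one_iff] at h
    have h2 := congrArg Subtype.val h
    rw [Subgroup.coe_mul, Subgroup.coe_one, ← pow_two] at h2
    exact pow_ne_one_of_lt_orderOf (by norm_num : (2 : ℕ) ≠ 0) (show 2 < orderOf a by omega) h2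
  have hne' : ∀ {a b : G} (ha : a ∈ (P : Subgroup G)) (hb : b ∈ (P : Subgroup G)),
      b ≠ a → e ⟨b, hb⟩ ≠ e ⟨a, ha⟩ := fun ha hb h he =>
    h (congrArg Subtype.val (e.injective he))
  have hne'' : ∀ {a b : G} (ha : a ∈ (P : Subgroup G)) (hb : b ∈ (P : Subgroup G)),
      b ≠ a⁻¹ → e ⟨b, hb⟩ ≠ (e ⟨a, ha⟩)⁻¹ := fun ha hb h he => by
    rw [← map_inv] at he
    exact h (congrArg Subtype.val (e.injective he))
  -- an element of order four whose conjugates in the Sylow subgroup are itself and its inverse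
  obtain ⟨k, hk4, hkP, hk⟩ : ∃ k, orderOf k = 4 ∧ k ∈ (P : Subgroup G) ∧
      ∀ t ∈ (P : Subgroup G), IsConj k t → t = k ∨ t = k⁻¹ := by
    by_contra hno
    push Not at hno
    obtain ⟨t, htP, hxt, ht1, ht2⟩ := hno x hx hxP
    obtain ⟨s, hsP, hys, hs1, hs2⟩ := hno y hy hyP
    have ht4 : orderOf t = 4 := by
      obtain ⟨c, rfl⟩ := isConj_iff.mp hxt
      rw [← MulAut.conj_apply, MulEquiv.orderOf_eq, hx]
    have hs4 : orderOf s = 4 := by
      obtain ⟨c, rfl⟩ := isConj_iff.mp hys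
      rw [← MulAut.conj_apply, MulEquiv.orderOf_eq, hy]
    have hyx1 : y ≠ x := fun h => hne (h ▸ IsConj.refl x)
    have hyx2 : y ≠ x⁻¹ := fun h => hne (h ▸ hinv x hxP)
    have hty1 : t ≠ y := fun h => hne (h ▸ hxt)
    have hty2 : t ≠ y⁻¹ := fun h => hne ((h ▸ hxt).trans (by
      have := hinv y⁻¹ (inv_mem hyP)
      rwa [inv_inv] at this))
    have hsx1 : s ≠ x := fun h => hne (h ▸ hys).symm
    have hsx2 : s ≠ x⁻¹ := fun h => hne ((hinv x hxP).trans (h ▸ hys).symm)
    have key := Q8.quat_third (e ⟨x, hxP⟩) (e ⟨y, hyP⟩) (e ⟨t, htP⟩) (e ⟨s, hsP⟩)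
      (hsq hxP hx) (hsq hyP hy) (hsq htP ht4) (hsq hsP hs4)
      (hne' hxP hyP hyx1) (hne'' hxP hyP hyx2) (hne' hxP htP ht1) (hne'' hxP htP ht2)
      (hne' hyP htP hty1) (hne'' hyP htP hty2) (hne' hxP hsP hsx1) (hne'' hxP hsP hsx2)
      (hne' hyP hsP hs1) (hne'' hyP hsP hs2)
    rcases key with h | h
    · have h' : s = t := congrArg Subtype.val (e.injective h)
      exact hne (hxt.trans (h' ▸ hys).symm)
    · rw [← map_inv] at h
      have h' : s = t⁻¹ := congrArg Subtype.val (e.injective h)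
      exact hne ((hxt.trans (hinv t htP)).trans (h' ▸ hys).symm)
  -- the focal subgroup lies in the cyclic subgroup generated by `k`
  have hle : (P : Subgroup G).focalSubgroup ≤ Subgroup.zpowers k := by
    rw [Subgroup.focalSubgroup_def, Subgroup.closure_le]
    rintro g ⟨hgP, a, haP, c, rfl⟩
    have hbP : c * a⁻¹ * c⁻¹ ∈ (P : Subgroup G) := by
      have h := mul_mem (inv_mem haP) hgP
      rwa [show a⁻¹ * ⁅a, c⁆ = c * a⁻¹ * c⁻¹ by rw [commutatorElement_def]; group] at h
    have hg : ⁅a, c⁆ = (a⁻¹)⁻¹ * (c * a⁻¹ * c⁻¹) := by rw [commutatorElement_def]; group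
    have hconj : IsConj a⁻¹ (c * a⁻¹ * c⁻¹) := isConj_iff.mpr ⟨c, rfl⟩
    have htP : a⁻¹ ∈ (P : Subgroup G) := inv_mem haP
    rw [SetLike.mem_coe, hg]
    generalize c * a⁻¹ * c⁻¹ = t' at hbP hconj ⊢
    generalize a⁻¹ = t at htP hconj ⊢
    rcases hq.cases_sylow htP with rfl | rfl | ⟨ht4, -⟩
    · rw [isConj_one_right.mp hconj, inv_one, one_mul]
      exact one_mem _
    · have h2 : orderOf t' = 2 := by
        obtain ⟨d, rfl⟩ := isConj_iff.mp hconj
        rw [← MulAut.conj_apply, MulEquiv.orderOf_eq, hq.min.iso.1]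
      rw [(hq.min.sylow_involution_unique hq.only P hq.mem).2 t' hbP h2, inv_mul_cancel]
      exact one_mem _
    · have ht'4 : orderOf t' = 4 := by
        obtain ⟨d, rfl⟩ := isConj_iff.mp hconj
        rw [← MulAut.conj_apply, MulEquiv.orderOf_eq, ht4]
      have hkmem := Subgroup.mem_zpowers k
      by_cases htk : t = k ∨ t = k⁻¹
      · have hkt' : IsConj k t' := by
          rcases htk with rfl | rfl
          · exact hconj
          · exact (hinv k hkP).trans hconj
        refine mul_mem (inv_mem ?_) ?_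
        · rcases htk with rfl | rfl <;> [exact hkmem; exact inv_mem hkmem]
        · rcases hk t' hbP hkt' with rfl | rfl <;> [exact hkmem; exact inv_mem hkmem]
      · push Not at htk
        have hb' : t' ≠ k ∧ t' ≠ k⁻¹ := by
          constructor <;> intro h
          · rcases hk t htP (h ▸ hconj).symm with h' | h'
            · exact htk.1 h'
            · exact htk.2 h'
          · rcases hk t htP ((hinv k hkP).trans (h ▸ hconj).symm) with h' | h'
            · exact htk.1 h'
            · exact htk.2 h'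
        have h := Q8.quat_coset (e ⟨k, hkP⟩) (e ⟨t, htP⟩) (e ⟨t', hbP⟩) (hsq hkP hk4)
          (hsq htP ht4) (hsq hbP ht'4) (hne' hkP htP htk.1) (hne'' hkP htP htk.2)
          (hne' hkP hbP hb'.1) (hne'' hkP hbP hb'.2)
        simp only [← map_inv, ← map_mul] at h
        rw [MulEquiv.map_eq_one_iff] at h
        simp only [e.injective.eq_iff] at h
        rcases h with h | h | h | h <;>
          (have h' := congrArg Subtype.val h
           simp only [Subgroup.coe_mul, Subgroup.coe_inv, Subgroup.coe_one] at h'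
           rw [h'])
        · exact one_mem _
        · exact hkmem
        · exact mul_mem hkmem hkmem
        · exact mul_mem (mul_mem hkmem hkmem) hkmem
  rw [hq.focal_eq] at hle
  have h8 := Subgroup.card_le_of_le hle
  rw [hq.card_sylow, Nat.card_zpowers, hk4] at h8
  omega

/-- Every element of order four is conjugate to a given one. -/
theorem isConj_order_four {u s : G} (hu : orderOf u = 4) (huP : u ∈ (P : Subgroup G))
    (hs : orderOf s = 4) : IsConj u s := by
  haveI : Fact (Nat.Prime 2) := ⟨Nat.prime_two⟩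
  have hp : IsPGroup 2 (Subgroup.zpowers s) :=
    IsPGroup.of_card (n := 2) (by rw [Nat.card_zpowers, hs]; norm_num)
  obtain ⟨Q, hQ⟩ := hp.exists_le_sylow
  obtain ⟨c, rfl⟩ := MulAction.exists_smul_eq G P Q
  have hm := hQ (Subgroup.mem_zpowers _)
  rw [Sylow.coe_subgroup_smul, Subgroup.mem_pointwise_smul_iff_inv_smul_mem] at hm
  simp only [← map_inv, MulAut.smul_def, MulAut.conj_apply, inv_inv] at hm
  have h4 : orderOf (c⁻¹ * s * c) = 4 := by
    have := MulEquiv.orderOf_eq (MulAut.conj c⁻¹) s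
    rw [MulAut.conj_apply, inv_inv] at this
    rw [this, hs]
  exact (hq.isConj_of_order_four hu huP h4 hm).trans (isConj_iff.mpr ⟨c, by group⟩)

/-- Every element of order four centralizing `z` is conjugate to `u` in the centralizer. -/
theorem exists_conj_commute {u s : G} (hu : orderOf u = 4) (huP : u ∈ (P : Subgroup G))
    (hs : orderOf s = 4) (hsz : Commute s z) : ∃ c : G, Commute c z ∧ c * u * c⁻¹ = s := by
  obtain ⟨c, hc⟩ := isConj_iff.mp (hq.isConj_order_four hu huP hs)
  have h2 : s * s = z := hq.only (s * s)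
    (by rw [← pow_two, orderOf_pow' _ (by norm_num), hs]; norm_num) (hsz.mul_left hsz)
  refine ⟨c, ?_, hc⟩
  rw [← hc, show c * u * c⁻¹ * (c * u * c⁻¹) = c * (u * u) * c⁻¹ by group,
    hq.sq_eq hu huP, mul_inv_eq_iff_eq_mul] at h2
  exact h2

/-- The centralizer of an element of order four has a normal 2-complement of index four. -/
theorem exists_centralizer_complement {u : G} (hu : orderOf u = 4) (huP : u ∈ (P : Subgroup G)) :
    ∃ N : Subgroup G, (∀ v, v ∈ N ↔ Commute u v ∧ Odd (orderOf v)) ∧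
      Nat.card (Subgroup.centralizer ({u} : Set G)) = 4 * Nat.card N := by
  obtain ⟨e⟩ := hq.quat
  exact Q8.exists_centralizer_complement P e hu

end QuatConfig

end Cfsg.Agent.ZStar
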