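import Cfsg.Agent.Lib.Char.Generalized
import Cfsg.Agent.Lib.Char.Linear
import Mathlib.GroupTheory.SpecificGroups.Quaternion
import Mathlib.Data.Complex.Basic

/-!
# The virtual character `η - 1 - ω` of a generalized quaternion group

`η` is the two-dimensional character factoring through the quotient by `⟨a^4⟩` and `ω` the linear
character with kernel `⟨a⟩`; the difference is supported on `a k`, `4 ∤ k`, and has norm 3.
-/

set_option linter.style.haveILetI false

namespace Cfsg.Agent.ZStar

open Cfsg
open scoped ComplexConjugate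

universe u v

/-- Pulling back along a surjection preserves inner products. -/
theorem classInner_comp_surjective {G : Type u} [Group G] [Fintype G] {Q : Type v} [Group Q]
    [Fintype Q] (π : G →* Q) (hπ : Function.Surjective π) (f g : Q → ℂ) :
    classInner (fun x => f (π x)) (fun x => g (π x)) = classInner f g := by
  classical
  have hfib : ∀ q : Q, (Finset.univ.filter fun x : G => π x = q).card = Nat.card π.ker := by
    intro q
    obtain ⟨x₀, rfl⟩ := hπ q
    rw [← Fintype.card_subtype, ← Nat.card_eq_fintype_card]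
    refine Nat.card_congr ⟨fun x => ⟨x₀⁻¹ * x.1, by
        rw [MonoidHom.mem_ker, map_mul, map_inv, x.2, inv_mul_cancel]⟩,
      fun k => ⟨x₀ * k.1, by rw [map_mul, MonoidHom.mem_ker.mp k.2, mul_one]⟩,
      fun x => Subtype.ext (mul_inv_cancel_left _ _), fun k => Subtype.ext (inv_mul_cancel_left _ _)⟩
  have hcard : Nat.card G = Nat.card π.ker * Nat.card Q := by
    rw [← Subgroup.card_mul_index π.ker, Subgroup.index_ker, MonoidHom.range_eq_top.mpr hπ,
      Subgroup.card_top]
  simp only [classInner]
  have hfiber := (Finset.sum_fiberwise (Finset.univ : Finset G) π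
    fun x => f (π x) * conj (g (π x))).symm
  rw [hfiber]
  have : ∀ q : Q, ∑ x ∈ Finset.univ.filter (fun x : G => π x = q), f (π x) * conj (g (π x))
      = (Nat.card π.ker : ℂ) * (f q * conj (g q)) := by
    intro q
    rw [Finset.sum_congr rfl (g := fun _ => f q * conj (g q))
      (fun x hx => by rw [(Finset.mem_filter.mp hx).2]), Finset.sum_const, hfib, nsmul_eq_mul]
  rw [Finset.sum_congr rfl fun q _ => this q, ← Finset.mul_sum, hcard, Nat.cast_mul]
  have hk : (Nat.card π.ker : ℂ) ≠ 0 := Nat.cast_ne_zero.mpr Nat.card_pos.ne'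
  field_simp

namespace Quat

variable (N : ℕ)

/-- `a k ↦ I ^ k` on the cyclic subgroup, for `4 ∣ 2 N`. -/
noncomputable def wFun (k : ZMod (2 * N)) : ℂ := Complex.I ^ k.val

variable {N} (hN : 4 ∣ N)
include hN

theorem I_pow_congr {m m' : ℕ} (h : (m : ZMod (2 * N)) = (m' : ZMod (2 * N))) :
    Complex.I ^ m = Complex.I ^ m' := by
  rw [Complex.I_pow_eq_pow_mod (n := m), Complex.I_pow_eq_pow_mod (n := m')]
  congr 1
  have := (ZMod.natCast_eq_natCast_iff' m m' (2 * N)).mp h
  exact (Nat.ModEq.of_dvd (dvd_mul_of_dvd_right hN 2) this : m ≡ m' [MOD 4])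

theorem wFun_natCast [NeZero N] (m : ℕ) : wFun N (m : ZMod (2 * N)) = Complex.I ^ m :=
  I_pow_congr hN (ZMod.natCast_zmod_val _)

theorem wFun_add [NeZero N] (i j : ZMod (2 * N)) :
    wFun N (i + j) = wFun N i * wFun N j := by
  conv_lhs => rw [← ZMod.natCast_zmod_val i, ← ZMod.natCast_zmod_val j, ← Nat.cast_add]
  rw [wFun_natCast hN, pow_add]
  rfl

theorem wFun_N [NeZero N] : wFun N (N : ZMod (2 * N)) = 1 := by
  obtain ⟨k, hk⟩ := hN
  rw [wFun_natCast ⟨k, hk⟩, hk, pow_mul, Complex.I_pow_four, one_pow]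

theorem wFun_zero [NeZero N] : wFun N 0 = 1 := by
  have := wFun_natCast hN 0
  rwa [Nat.cast_zero, pow_zero] at this

theorem wFun_neg [NeZero N] (i : ZMod (2 * N)) : wFun N (-i) = (wFun N i)⁻¹ :=
  eq_inv_of_mul_eq_one_left (by rw [← wFun_add hN, neg_add_cancel, wFun_zero hN])

/-- The two-dimensional matrices. -/
noncomputable def matFun : QuaternionGroup N → Matrix (Fin 2) (Fin 2) ℂ
  | .a k => !![wFun N k, 0; 0, wFun N (-k)]
  | .xa k => !![0, wFun N (-k); wFun N k, 0]

/-- The two-dimensional representation. -/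
noncomputable def matHom [NeZero N] : QuaternionGroup N →* Matrix (Fin 2) (Fin 2) ℂ where
  toFun := matFun
  map_one' := by
    rw [QuaternionGroup.one_def, matFun, neg_zero, wFun_zero hN]
    exact Matrix.one_fin_two.symm
  map_mul' x y := by
    rcases x with i | i <;> rcases y with j | j <;>
      simp only [QuaternionGroup.a_mul_a, QuaternionGroup.a_mul_xa, QuaternionGroup.xa_mul_a,
        QuaternionGroup.xa_mul_xa, matFun, Matrix.mul_fin_two, sub_eq_add_neg, neg_add_rev, neg_neg,
        wFun_add hN, wFun_neg hN, wFun_N hN, inv_one] <;>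
      ext p q <;> fin_cases p <;> fin_cases q <;> simp <;> ring

omit hN in
/-- The sign character, trivial on `⟨a⟩`. -/
noncomputable def sgnHom : QuaternionGroup N →* ℂ where
  toFun
    | .a _ => 1
    | .xa _ => -1
  map_one' := by rw [QuaternionGroup.one_def]
  map_mul' x y := by
    rcases x with i | i <;> rcases y with j | j <;> simp

omit hN in
/-- The virtual character `η - 1 - ω`. -/
noncomputable def theta : QuaternionGroup N → ℂ
  | .a k => wFun N k + wFun N (-k) - 2
  | .xa _ => 0

theorem isGeneralized_theta [NeZero N] :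
    IsGeneralizedCharacter (QuaternionGroup N) (theta (N := N)) := by
  set ρ : Representation ℂ (QuaternionGroup N) (Fin 2 → ℂ) :=
    ((Matrix.toLinAlgEquiv' (R := ℂ) (n := Fin 2)).toAlgHom.toMonoidHom).comp (matHom hN)
  have hρ : ρ.character = fun g => (matHom hN g).trace := by
    funext g
    exact Matrix.trace_toLin'_eq (matHom hN g)
  refine ⟨ρ.character, (fun _ => 1) + ⇑(sgnHom (N := N)), Char.isCharacter_character ρ,
    Char.IsCharacter.add Char.isCharacter_one (Char.irr_isCharacter (Char.linIrr sgnHom)), ?_⟩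
  funext g
  rw [hρ]
  rcases g with k | k <;>
    simp [theta, matHom, matFun, sgnHom, Matrix.trace, Fin.sum_univ_two] <;> ring

theorem sum_wFun_pow_eq_zero [NeZero N] {t : ℕ} (ht : Complex.I ^ t ≠ 1) :
    ∑ k : ZMod (2 * N), wFun N k ^ t = 0 := by
  set S := ∑ k : ZMod (2 * N), wFun N k ^ t
  have hS : Complex.I ^ t * S = S := by
    rw [Finset.mul_sum]
    refine Fintype.sum_equiv (Equiv.addLeft (1 : ZMod (2 * N))) _ _ fun k => ?_
    rw [Equiv.coe_addLeft, wFun_add hN, ← Nat.cast_one, wFun_natCast hN, pow_one, mul_pow]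
  by_contra h
  exact ht (mul_right_cancel₀ h (hS.trans (one_mul S).symm))

theorem sum_theta [NeZero N] :
    (∑ g : QuaternionGroup N, theta g) = -(4 * N : ℂ) ∧
      (∑ g : QuaternionGroup N, theta g * conj (theta g)) = 12 * N := by
  have hI1 : Complex.I ^ 1 ≠ 1 := by
    rw [pow_one]
    intro h
    have := congrArg Complex.im h
    simp at this
  have hI2 : Complex.I ^ 2 ≠ 1 := by
    rw [Complex.I_sq]
    norm_num
  have h1 := sum_wFun_pow_eq_zero hN hI1
  have h2 := sum_wFun_pow_eq_zero hN hI2
  simp only [pow_one] at h1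
  have h1' : ∑ k : ZMod (2 * N), wFun N (-k) = 0 := by
    rw [← h1]
    exact Fintype.sum_equiv (Equiv.neg _) _ _ fun _ => rfl
  have h2' : ∑ k : ZMod (2 * N), wFun N (-k) ^ 2 = 0 := by
    rw [← h2]
    exact Fintype.sum_equiv (Equiv.neg _) _ _ fun _ => rfl
  have hsplit : ∀ f : QuaternionGroup N → ℂ, (∀ k, f (.xa k) = 0) →
      ∑ g, f g = ∑ k : ZMod (2 * N), f (.a k) := by
    intro f hf
    symm
    refine Finset.sum_of_injOn QuaternionGroup.a (fun x _ y _ h => QuaternionGroup.a.inj h)
      (by simp) ?_ (fun _ _ => rfl)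
    intro g _ hg
    rcases g with k | k
    · exact absurd ⟨k, Finset.mem_coe.mpr (Finset.mem_univ _), rfl⟩ hg
    · exact hf k
  have hconj : ∀ k : ZMod (2 * N), conj (wFun N k) = wFun N (-k) := by
    intro k
    rw [wFun_neg hN, wFun, map_pow, ← inv_pow, Complex.conj_I, Complex.inv_I]
  have hcard : ((2 * N : ℕ) : ℂ) = (Finset.univ : Finset (ZMod (2 * N))).card := by
    rw [Finset.card_univ, ZMod.card]
  constructor
  · rw [hsplit _ fun k => rfl]
    simp only [theta, Finset.sum_sub_distrib, Finset.sum_add_distrib, h1, h1', Finset.sum_const,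
      nsmul_eq_mul, ← hcard]
    push_cast
    ring
  · rw [hsplit _ fun k => by simp [theta]]
    have hexp : ∀ k : ZMod (2 * N), theta (QuaternionGroup.a k) * conj (theta (QuaternionGroup.a k))
        = wFun N k ^ 2 + wFun N (-k) ^ 2 + 6 - 4 * wFun N k - 4 * wFun N (-k) := by
      intro k
      simp only [theta, map_sub, map_add, hconj, neg_neg, map_ofNat]
      have h3 : wFun N k * wFun N (-k) = 1 := by rw [← wFun_add hN, add_neg_cancel, wFun_zero hN]
      linear_combination 2 * h3
    simp only [hexp, Finset.sum_sub_distrib, Finset.sum_add_distrib, h1, h1', h2, h2',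
      Finset.sum_const, nsmul_eq_mul, ← Finset.mul_sum, ← hcard]
    push_cast
    ring

theorem classInner_theta [NeZero N] :
    classInner (theta (N := N)) (fun _ => 1) = -1 ∧
      classInner (theta (N := N)) (theta (N := N)) = 3 := by
  obtain ⟨h1, h2⟩ := sum_theta hN
  have hN' : (N : ℂ) ≠ 0 := Nat.cast_ne_zero.mpr (NeZero.ne N)
  have hc : (Nat.card (QuaternionGroup N) : ℂ) = 4 * N := by
    rw [Nat.card_eq_fintype_card, QuaternionGroup.card]; push_cast; ring
  constructor
  · simp only [classInner, map_one, mul_one, h1, hc]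
    field_simp
  · simp only [classInner, h2, hc]
    field_simp
    ring

theorem theta_a_eq_zero [NeZero N] {k : ℕ} (h : 4 ∣ k) :
    theta (QuaternionGroup.a (k : ZMod (2 * N))) = 0 := by
  obtain ⟨j, rfl⟩ := h
  simp only [theta]
  rw [wFun_neg hN, wFun_natCast hN, pow_mul, Complex.I_pow_four, one_pow]
  norm_num

end Quat

end Cfsg.Agent.ZStar
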