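import Cfsg.Agent.Lib.ZStar.RankOne
import Cfsg.Agent.Lib.ZStar.QuaternionChars
import Cfsg.Agent.Lib.CharInt.TI
import Cfsg.Agent.Lib.Transfer.Fusion

/-!
# Rank one, quaternion Sylow 2-subgroups of order at least 16

The classical argument of Brauer and Suzuki with exceptional characters.
-/

set_option linter.style.haveILetI false

namespace Cfsg.Agent.ZStar

open Cfsg
open scoped ComplexConjugate

universe u

/-- Three terms with vanishing zeroth, first and second moment: two coincide. -/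
theorem two_point_moments {s₁ s₂ : ℤ} {x₁ x₂ y₁ y₂ : ℝ} (hs₁ : s₁ = 1 ∨ s₁ = -1)
    (hs₂ : s₂ = 1 ∨ s₂ = -1) (hx₁ : 1 ≤ x₁) (hx₂ : 1 ≤ x₂)
    (h0 : -1 + s₁ * x₁ + s₂ * x₂ = 0) (h1 : -1 + s₁ * y₁ + s₂ * y₂ = 0)
    (h2 : -1 + s₁ * (y₁ * y₁ / x₁) + s₂ * (y₂ * y₂ / x₂) = 0) : y₁ = x₁ ∨ y₂ = x₂ := by
  rcases hs₁ with rfl | rfl <;> rcases hs₂ with rfl | rfl <;> push_cast at h0 h1 h2
  · linarith
  · right
    have hx : x₁ = 1 + x₂ := by linarith
    have hy : y₁ = 1 + y₂ := by linarith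
    rw [hx, hy] at h2
    field_simp at h2
    have h3 : (y₂ - x₂) * (y₂ - x₂) = 0 := by linarith
    linarith [mul_self_eq_zero.mp h3]
  · left
    have hx : x₂ = 1 + x₁ := by linarith
    have hy : y₂ = 1 + y₁ := by linarith
    rw [hx, hy] at h2
    field_simp at h2
    have h3 : (y₁ - x₁) * (y₁ - x₁) = 0 := by linarith
    linarith [mul_self_eq_zero.mp h3]
  · linarith

/-- An integer family of squares summing to 2 has exactly two entries, both `±1`. -/
theorem exists_pair_of_sum_sq {ι : Type*} [DecidableEq ι] (s : Finset ι) (m : ι → ℤ)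
    (h : ∑ i ∈ s, m i * m i = 2) :
    ∃ a b : ι, a ≠ b ∧ a ∈ s ∧ b ∈ s ∧ (m a = 1 ∨ m a = -1) ∧ (m b = 1 ∨ m b = -1) ∧
      ∀ i ∈ s, i ≠ a → i ≠ b → m i = 0 := by
  have hle : ∀ i ∈ s, m i * m i ≤ 2 := fun i hi =>
    h ▸ Finset.single_le_sum (fun j _ => mul_self_nonneg (m j)) hi
  have hval : ∀ i ∈ s, m i ≠ 0 → m i = 1 ∨ m i = -1 := by
    intro i hi hne
    have h1 := hle i hi
    have h2 : m i ≤ 1 := by nlinarith
    have h3 : -1 ≤ m i := by nlinarith
    omega
  set S := s.filter fun i => m i ≠ 0 with hS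
  have hcard : (S.card : ℤ) = 2 := by
    rw [← h, ← Finset.sum_filter_add_sum_filter_not s (fun i => m i ≠ 0)]
    have h0 : ∑ i ∈ s.filter (fun i => ¬ m i ≠ 0), m i * m i = 0 :=
      Finset.sum_eq_zero fun i hi => by simp [not_not.mp (Finset.mem_filter.mp hi).2]
    rw [h0, add_zero, Finset.card_eq_sum_ones, Nat.cast_sum]
    refine Finset.sum_congr rfl fun i hi => ?_
    obtain ⟨hi, hne⟩ := Finset.mem_filter.mp hi
    rcases hval i hi hne with h1 | h1 <;> simp [h1]
  obtain ⟨a, b, hab, hS2⟩ := Finset.card_eq_two.mp (show S.card = 2 by exact_mod_cast hcard)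
  have ha : a ∈ s ∧ m a ≠ 0 := Finset.mem_filter.mp (show a ∈ S by simp [hS2])
  have hb : b ∈ s ∧ m b ≠ 0 := Finset.mem_filter.mp (show b ∈ S by simp [hS2])
  refine ⟨a, b, hab, ha.1, hb.1, hval a ha.1 ha.2, hval b hb.1 hb.2, fun i hi h1 h2 => ?_⟩
  by_contra hne
  have : i ∈ S := Finset.mem_filter.mpr ⟨hi, hne⟩
  simp [hS2, h1, h2] at this

variable {G : Type u} [Group G] [Finite G] {z : G}

/-- The value of a character at an involution is real. -/
theorem apply_involution_im {x : G} (hx : x * x = 1) (χ : IrrCharacter G) :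
    (χ.1 x).im = 0 := by
  have h := CharInt.char_inv (Char.irr_isCharacter χ) x
  rw [Involution.Isolated.inv_mul_self_eq hx] at h
  exact Complex.conj_eq_iff_im.mp h.symm

theorem MinConfig.false_of_quaternion_large (hz : MinConfig z) (h1 : OnlyInvolution z)
    (P : Sylow 2 G) (hzP : z ∈ P) {n : ℕ} (hn : 2 ≤ n)
    (e : (P : Subgroup G) ≃* QuaternionGroup (2 ^ n)) : False := by
  classical
  haveI : Fact (Nat.Prime 2) := ⟨Nat.prime_two⟩
  haveI := Fintype.ofFinite G
  haveI : NeZero (2 ^ n) := ⟨by positivity⟩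
  set N := 2 ^ n with hN
  have hN4 : 4 ∣ N := by rw [hN]; exact pow_dvd_pow 2 hn
  obtain ⟨K, hK⟩ := hN4
  have hKpos : 0 < K := Nat.pos_of_ne_zero fun h => NeZero.ne N (by simp [hK, h])
  -- the element of order four
  set q₀ : QuaternionGroup N := QuaternionGroup.a ((2 * K : ℕ) : ZMod (2 * N)) with hq₀
  have hq₀ord : orderOf q₀ = 4 := by
    rw [hq₀, QuaternionGroup.orderOf_a, ZMod.val_natCast_of_lt (by omega),
      show 2 * N = (2 * K) * 4 by omega, Nat.gcd_comm, Nat.gcd_mul_right_right,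
      Nat.mul_div_cancel_left _ (by omega)]
  set u₀ : G := ((e.symm q₀ : (P : Subgroup G)) : G) with hu₀
  have hu₀P : u₀ ∈ (P : Subgroup G) := (e.symm q₀).2
  have hu₀ord : orderOf u₀ = 4 := by rw [hu₀, Subgroup.orderOf_coe, MulEquiv.orderOf_eq, hq₀ord]
  set H := Subgroup.normalizer ((Subgroup.zpowers u₀ : Subgroup G) : Set G) with hH
  have hconjq : ∀ q : QuaternionGroup N, q * q₀ * q⁻¹ = q₀ ∨ q * q₀ * q⁻¹ = q₀⁻¹ := by
    intro q
    rcases q with k | k
    · left
      rw [mul_inv_eq_iff_eq_mul, hq₀, QuaternionGroup.a_mul_a, QuaternionGroup.a_mul_a, add_comm]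
    · right
      rw [mul_inv_eq_iff_eq_mul, eq_inv_mul_iff_mul_eq, hq₀, QuaternionGroup.xa_mul_a,
        QuaternionGroup.a_mul_xa, add_sub_cancel_right]
  have hPconj : ∀ x ∈ (P : Subgroup G), x * u₀ * x⁻¹ = u₀ ∨ x * u₀ * x⁻¹ = u₀⁻¹ := by
    intro x hx
    rcases hconjq (e ⟨x, hx⟩) with h | h
    · left
      have h' := congrArg e.symm h
      simp only [map_mul, map_inv, MulEquiv.symm_apply_apply] at h'
      exact congrArg Subtype.val h'
    · right
      have h' := congrArg e.symm h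
      simp only [map_mul, map_inv, MulEquiv.symm_apply_apply] at h'
      exact congrArg Subtype.val h'
  have hmemH : ∀ {x : G}, x * u₀ * x⁻¹ = u₀ ∨ x * u₀ * x⁻¹ = u₀⁻¹ → x ∈ H := by
    intro x hx
    refine Transfer.mem_normalizer_of_conj_mem fun w hw => ?_
    obtain ⟨i, rfl⟩ := Subgroup.mem_zpowers_iff.mp hw
    rcases hx with h | h <;> rw [← conj_zpow, h]
    · exact zpow_mem (Subgroup.mem_zpowers _) i
    · exact zpow_mem (inv_mem (Subgroup.mem_zpowers _)) i
  have hPH : (P : Subgroup G) ≤ H := fun x hx => hmemH (hPconj x hx)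
  set PH : Sylow 2 H := P.subtype hPH with hPH'
  -- the odd part of `H` centralizes `u₀`
  have hHconj : ∀ x ∈ H, x * u₀ * x⁻¹ = u₀ ∨ x * u₀ * x⁻¹ = u₀⁻¹ := by
    intro x hx
    have h2 : orderOf (x * u₀ * x⁻¹) = 4 := by
      rw [← MulAut.conj_apply, MulEquiv.orderOf_eq, hu₀ord]
    obtain ⟨i, hi⟩ := Subgroup.mem_zpowers_iff.mp
      ((Subgroup.mem_normalizer_iff.mp hx u₀).mp (Subgroup.mem_zpowers u₀))
    have hi' : u₀ ^ (i % 4).toNat = x * u₀ * x⁻¹ := by
      rw [← hi, ← zpow_natCast, Int.toNat_of_nonneg (Int.emod_nonneg _ (by norm_num))]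
      have := zpow_mod_orderOf u₀ i
      rwa [hu₀ord] at this
    have hlt : (i % 4).toNat < 4 := by omega
    rcases (show (i % 4).toNat = 0 ∨ (i % 4).toNat = 1 ∨ (i % 4).toNat = 2 ∨ (i % 4).toNat = 3 by
      omega) with h | h | h | h <;> rw [h] at hi'
    · rw [← hi', pow_zero, orderOf_one] at h2; omega
    · left; rw [← hi', pow_one]
    · rw [← hi', orderOf_pow' _ (by norm_num), hu₀ord] at h2; norm_num at h2
    · right
      rw [← hi']
      refine eq_inv_of_mul_eq_one_left ?_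
      rw [← pow_succ, show 3 + 1 = orderOf u₀ by omega, pow_orderOf_eq_one]
  have hodd_cent : ∀ x ∈ H, Odd (orderOf x) → Commute x u₀ := by
    intro x hx ⟨j, hj⟩
    have h2 : Commute (x ^ 2) u₀ := by
      have h3 : x ^ 2 * u₀ * (x ^ 2)⁻¹ = u₀ := by
        have h4 : x ^ 2 * u₀ * (x ^ 2)⁻¹ = x * (x * u₀ * x⁻¹) * x⁻¹ := by rw [pow_two]; group
        rw [h4]
        rcases hHconj x hx with h | h
        · rw [h, h]
        · rw [h, ← inv_inj, ← conj_inv, inv_inv, h]
      exact mul_inv_eq_iff_eq_mul.mp h3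
    have : x = (x ^ 2) ^ (j + 1) := by
      rw [← pow_mul, show 2 * (j + 1) = orderOf x + 1 by omega, pow_succ, pow_orderOf_eq_one, one_mul]
    rw [this]; exact h2.pow_left _
  -- `H` has a normal 2-complement
  set C₀ := (Subgroup.centralizer ({u₀} : Set G)).subgroupOf H with hC₀
  haveI hC₀n : C₀.Normal := ⟨fun c hc x => by
    rw [hC₀, Subgroup.mem_subgroupOf, Involution.Isolated.mem_centralizer_iff_commute] at hc ⊢
    simp only [Subgroup.coe_mul, Subgroup.coe_inv]
    have hx' := hHconj (x : G)⁻¹ (inv_mem x.2)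
    rw [inv_inv] at hx'
    have hw : Commute (c : G) ((x : G)⁻¹ * u₀ * (x : G)) := by
      rcases hx' with h | h <;> rw [h]
      · exact hc
      · exact hc.inv_right
    show (x : G) * c * (x : G)⁻¹ * u₀ = u₀ * ((x : G) * c * (x : G)⁻¹)
    calc (x : G) * c * (x : G)⁻¹ * u₀ = x * (c * ((x : G)⁻¹ * u₀ * x)) * (x : G)⁻¹ := by group
      _ = x * ((x : G)⁻¹ * u₀ * x * c) * (x : G)⁻¹ := by rw [hw.eq]
      _ = u₀ * (x * c * (x : G)⁻¹) := by group⟩
  have hPcyc : IsCyclic ((PH : Subgroup H) ⊓ C₀ : Subgroup H) := by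
    let f : ((PH : Subgroup H) ⊓ C₀ : Subgroup H) →* QuaternionGroup N :=
      MonoidHom.mk' (fun x => e ⟨((x : H) : G), x.2.1⟩) (fun x y => by
        rw [← map_mul]; rfl)
    have hf : Function.Injective f := fun x y h => by
      have h' := congrArg Subtype.val (e.injective h)
      exact Subtype.ext (Subtype.ext h')
    have hrange : f.range ≤ Subgroup.zpowers (QuaternionGroup.a (1 : ZMod (2 * N))) := by
      rintro q ⟨x, rfl⟩
      rcases hq : f x with k | k
      · exact ⟨(k.val : ℤ), by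
          show QuaternionGroup.a (1 : ZMod (2 * N)) ^ (k.val : ℤ) = _
          rw [zpow_natCast, QuaternionGroup.a_one_pow, ZMod.natCast_zmod_val]⟩
      · exfalso
        have hc : Commute ((x : H) : G) u₀ := Involution.Isolated.mem_centralizer_iff_commute.mp x.2.2
        have h' : e ⟨((x : H) : G), x.2.1⟩ * q₀ = q₀ * e ⟨((x : H) : G), x.2.1⟩ := by
          apply e.symm.injective
          rw [map_mul, map_mul, MulEquiv.symm_apply_apply]
          exact Subtype.ext hc.eq
        have hq' : e ⟨((x : H) : G), x.2.1⟩ = QuaternionGroup.xa k := hq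
        rw [hq', hq₀, QuaternionGroup.xa_mul_a, QuaternionGroup.a_mul_xa] at h'
        have h'' := QuaternionGroup.xa.inj h'
        rw [sub_eq_add_neg, add_left_cancel_iff, eq_neg_iff_add_eq_zero, ← Nat.cast_add,
          ZMod.natCast_eq_zero_iff] at h''
        have := Nat.le_of_dvd (by omega) h''
        omega
    haveI : IsCyclic f.range := by
      refine isCyclic_of_injective (Subgroup.inclusion hrange) (Subgroup.inclusion_injective hrange)
    exact isCyclic_of_injective f.rangeRestrict (fun a b h => hf (congrArg Subtype.val h))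
  have hC₀nc : HasNormalPComplement 2 C₀ := by
    obtain ⟨Q, hQ⟩ : ∃ Q : Sylow 2 C₀, (Q : Subgroup C₀) = (PH : Subgroup H).subgroupOf C₀ := by
      refine ⟨((PH.2.comap_subtype (K := C₀))).toSylow ?_, rfl⟩
      show ¬ 2 ∣ (PH : Subgroup H).relIndex C₀
      refine fun h => PH.not_dvd_index (h.trans ?_)
      have e1 := Subgroup.relIndex_mul_index (inf_le_right : (PH : Subgroup H) ⊓ C₀ ≤ C₀)
      have e2 := Subgroup.relIndex_mul_index
        (inf_le_left : (PH : Subgroup H) ⊓ C₀ ≤ (PH : Subgroup H))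
      rw [Subgroup.inf_relIndex_right] at e1
      rw [Subgroup.inf_relIndex_left, ← e1] at e2
      obtain ⟨m, hm⟩ : C₀.relIndex (PH : Subgroup H) ∣ C₀.index :=
        Subgroup.relIndex_dvd_index_of_normal _ _
      have hpos : 0 < C₀.relIndex (PH : Subgroup H) := Nat.pos_of_ne_zero
        Subgroup.index_ne_zero_of_finite
      rw [hm] at e2
      exact ⟨m, Nat.eq_of_mul_eq_mul_left hpos (by rw [e2]; ring)⟩
    have hQcyc : IsCyclic (Q : Subgroup C₀) := by
      haveI := hPcyc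
      rw [hQ]
      refine isCyclic_of_injective (MonoidHom.mk' (fun x : ((PH : Subgroup H).subgroupOf C₀) =>
        (⟨((x : C₀) : H), x.2, (x : C₀).2⟩ : ((PH : Subgroup H) ⊓ C₀ : Subgroup H)))
        (fun x y => rfl)) (fun x y h => ?_)
      exact Subtype.ext (Subtype.ext (congrArg Subtype.val h :))
    refine ⟨Q, _, inferInstance, IsCyclic.isComplement' ?_ hQcyc⟩
    refine (Nat.minFac_eq_two_iff _).mpr ?_
    have h2 : (⟨⟨u₀, hPH hu₀P⟩, Involution.Isolated.mem_centralizer_iff_commute.mpr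
      (Commute.refl u₀)⟩ : C₀) ^ 4 = 1 := by
      refine Subtype.ext (Subtype.ext ?_)
      show u₀ ^ 4 = 1
      rw [← hu₀ord, pow_orderOf_eq_one]
    have h3 := orderOf_dvd_natCard (⟨⟨u₀, hPH hu₀P⟩,
      Involution.Isolated.mem_centralizer_iff_commute.mpr (Commute.refl u₀)⟩ : C₀)
    rw [← Subgroup.orderOf_coe, ← Subgroup.orderOf_coe] at h3
    simp only [hu₀ord] at h3
    exact dvd_trans (by norm_num) h3
  set K' := pResidual 2 H with hK'
  have hK'odd : ¬ 2 ∣ Nat.card K' := by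
    have hle : K' ≤ (pResidual 2 C₀).map C₀.subtype := by
      rw [hK', pResidual, Subgroup.closure_le]
      intro x hx
      have hxC : x ∈ C₀ := by
        rw [hC₀, Subgroup.mem_subgroupOf, Involution.Isolated.mem_centralizer_iff_commute]
        refine hodd_cent _ x.2 (Nat.coprime_two_right.mp ?_)
        rw [Subgroup.orderOf_coe]; exact hx
      refine ⟨⟨x, hxC⟩, Subgroup.subset_closure ?_, rfl⟩
      show Nat.Coprime (orderOf (⟨x, hxC⟩ : C₀)) 2
      rw [Subgroup.orderOf_mk]; exact hx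
    intro h
    have h' := h.trans (Subgroup.card_dvd_of_le hle)
    rw [Subgroup.card_map_of_injective C₀.subtype_injective] at h'
    exact (Transfer.hasNormalPComplement_iff).mp hC₀nc h'
  haveI : K'.Normal := Transfer.pResidual_normal 2
  have hcompl : K'.IsComplement' (PH : Subgroup H) := Transfer.isComplement'_pResidual PH hK'odd
  -- the projection onto the quaternion group
  let e' : (PH : Subgroup H) ≃* QuaternionGroup N :=
    (Subgroup.subgroupOfEquivOfLe hPH).trans e
  let E : H ⧸ K' ≃* (PH : Subgroup H) := hcompl.symm.QuotientMulEquiv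
  let π : H →* QuaternionGroup N :=
    (e'.toMonoidHom.comp E.toMonoidHom).comp (QuotientGroup.mk' K')
  have hπsurj : Function.Surjective π :=
    (e'.surjective.comp E.surjective).comp (QuotientGroup.mk'_surjective K')
  have hπP : ∀ (x : G) (hx : x ∈ (P : Subgroup G)), π ⟨x, hPH hx⟩ = e ⟨x, hx⟩ := by
    intro x hx
    have hE : E ((QuotientGroup.mk' K') ⟨x, hPH hx⟩) = (⟨⟨x, hPH hx⟩, hx⟩ : (PH : Subgroup H)) := by
      show hcompl.symm.QuotientMulEquiv _ = _
      apply hcompl.symm.QuotientMulEquiv.symm.injective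
      rw [MulEquiv.symm_apply_apply]
      rfl
    show e' (E ((QuotientGroup.mk' K') ⟨x, hPH hx⟩)) = _
    rw [hE]
    rfl
  have hπker : ∀ x : H, π x = 1 → Odd (orderOf x) := by
    intro x hx
    have hxK : x ∈ K' := by
      have h : e' (E ((QuotientGroup.mk' K') x)) = 1 := hx
      rw [MulEquiv.map_eq_one_iff, MulEquiv.map_eq_one_iff] at h
      exact (QuotientGroup.eq_one_iff x).mp h
    have h2 := orderOf_dvd_natCard (⟨x, hxK⟩ : K')
    rw [Subgroup.orderOf_mk] at h2
    exact (Nat.odd_iff.mpr (by omega : Nat.card K' % 2 = 1)).of_dvd_nat h2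
  set θ : H → ℂ := fun x => Quat.theta (π x) with hθ
  have hN4 : 4 ∣ N := ⟨K, hK⟩
  have hθgen : IsGeneralizedCharacter H θ :=
    Char.IsGeneralizedCharacter.comp (Quat.isGeneralized_theta hN4) π
  set S : Set G := {g | ∃ hg : g ∈ H, θ ⟨g, hg⟩ ≠ 0} with hS
  have hθS : ∀ x : H, (x : G) ∉ S → θ x = 0 := fun x hx => by
    by_contra h; exact hx ⟨x.2, h⟩
  -- a power of a point of the support is `u₀` or its inverse
  have hsupp : ∀ s ∈ S, 4 ∣ orderOf s ∧
      (s ^ (orderOf s / 4) = u₀ ∨ s ^ (orderOf s / 4) = u₀⁻¹) := by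
    rintro s ⟨hsH, hs⟩
    obtain ⟨k, hk, hk4⟩ : ∃ k : ℕ, π ⟨s, hsH⟩ = QuaternionGroup.a (k : ZMod (2 * N)) ∧ ¬ 4 ∣ k := by
      rcases hq : π ⟨s, hsH⟩ with k | k
      · refine ⟨k.val, by rw [ZMod.natCast_zmod_val], fun h => hs ?_⟩
        show Quat.theta (π ⟨s, hsH⟩) = 0
        rw [hq, ← ZMod.natCast_zmod_val k]
        exact Quat.theta_a_eq_zero hN4 h
      · exact absurd (show Quat.theta (π ⟨s, hsH⟩) = 0 by rw [hq]; rfl) hs
    have hord : orderOf (π ⟨s, hsH⟩) ∣ orderOf s := by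
      have := orderOf_map_dvd π (⟨s, hsH⟩ : H)
      rwa [Subgroup.orderOf_mk] at this
    obtain ⟨d, hd⟩ : 4 ∣ orderOf (π ⟨s, hsH⟩) := by
      have h2 : (π ⟨s, hsH⟩) ^ orderOf (π ⟨s, hsH⟩) = 1 := pow_orderOf_eq_one _
      set o := orderOf (π ⟨s, hsH⟩)
      rw [hk, ← QuaternionGroup.a_one_pow, ← pow_mul, QuaternionGroup.a_one_pow,
        QuaternionGroup.one_def] at h2
      have h4 : 2 * N ∣ k * o :=
        (ZMod.natCast_eq_zero_iff _ _).mp (QuaternionGroup.a.inj h2)
      have h8 : 2 ^ 3 ∣ k * o := dvd_trans ⟨K, by omega⟩ h4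
      by_contra hne
      have hk2 : (k * o) % 8 = 0 := Nat.mod_eq_zero_of_dvd h8
      have hka : k % 4 ≠ 0 := fun h => hk4 (Nat.dvd_of_mod_eq_zero h)
      have hob : o % 4 ≠ 0 := fun h => hne (Nat.dvd_of_mod_eq_zero h)
      rw [Nat.mul_mod] at hk2
      have : k % 8 < 8 := Nat.mod_lt _ (by norm_num)
      have : o % 8 < 8 := Nat.mod_lt _ (by norm_num)
      have hk' : k % 8 % 4 = k % 4 := Nat.mod_mod_of_dvd _ (by norm_num)
      have ho' : o % 8 % 4 = o % 4 := Nat.mod_mod_of_dvd _ (by norm_num)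
      interval_cases hk8 : k % 8 <;> interval_cases ho8 : o % 8 <;> omega
    obtain ⟨t, ht⟩ : 4 ∣ orderOf s := dvd_trans ⟨d, hd⟩ hord
    refine ⟨⟨t, ht⟩, ?_⟩
    have hpos := orderOf_pos s
    rw [ht, Nat.mul_div_cancel_left _ (by norm_num)]
    set w : H := ⟨s, hsH⟩ ^ t with hw
    have hw4 : orderOf w = 4 := by
      rw [hw, orderOf_pow' _ (by omega), Subgroup.orderOf_mk, ht, Nat.gcd_mul_left_left,
        Nat.mul_div_cancel _ (by omega)]
    -- the image of `w` has order four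
    have hπw : orderOf (π w) = 4 := by
      have h1 : orderOf (π w) ∣ 4 := hw4 ▸ orderOf_map_dvd π w
      obtain ⟨i, hi, hie⟩ := (Nat.dvd_prime_pow Nat.prime_two).mp
        (show orderOf (π w) ∣ 2 ^ 2 by norm_num; exact h1)
      rw [hie]
      by_contra hne
      have hi1 : i ≤ 1 := by
        by_contra hh
        apply hne
        rw [show i = 2 by omega]
        norm_num
      have h2 : π (w ^ 2) = 1 := by
        rw [map_pow, ← orderOf_dvd_iff_pow_eq_one, hie]
        simpa using pow_dvd_pow 2 hi1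
      have h3 := hπker _ h2
      rw [orderOf_pow' _ (by norm_num), hw4] at h3
      exact absurd h3 (by decide)
    have hπw' : π w = q₀ ∨ π w = q₀⁻¹ := by
      rw [hw, map_pow, hk, ← QuaternionGroup.a_one_pow, ← pow_mul,
        QuaternionGroup.a_one_pow] at hπw ⊢
      generalize k * t = j at hπw ⊢
      rw [QuaternionGroup.orderOf_a, ZMod.val_natCast] at hπw
      have hg : Nat.gcd (2 * N) (j % (2 * N)) = 2 * K := by
        have hd := Nat.gcd_dvd_left (2 * N) (j % (2 * N))
        have h5 := Nat.div_mul_cancel hd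
        rw [hπw] at h5
        omega
      obtain ⟨c, hc⟩ : 2 * K ∣ j % (2 * N) := hg ▸ Nat.gcd_dvd_right _ _
      have hlt : j % (2 * N) < 2 * N := Nat.mod_lt _ (by omega)
      have hc4 : c < 4 := by
        by_contra h6
        have : 2 * K * 4 ≤ 2 * K * c := Nat.mul_le_mul_left _ (by omega)
        omega
      have hj : (j : ZMod (2 * N)) = ((2 * K * c : ℕ) : ZMod (2 * N)) := by
        rw [← hc, ZMod.natCast_mod]
      rw [hj]
      rw [hc, show 2 * N = 2 * K * 4 by omega, Nat.gcd_mul_left] at hg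
      interval_cases c
      · rw [Nat.gcd_zero_right] at hg; omega
      · left; rw [mul_one, hq₀]
      · rw [show Nat.gcd 4 2 = 2 by decide] at hg; omega
      · right
        refine eq_inv_of_mul_eq_one_left ?_
        rw [hq₀, QuaternionGroup.a_mul_a, ← Nat.cast_add, show 2 * K * 3 + 2 * K = 2 * N by omega,
          ZMod.natCast_self, QuaternionGroup.a_zero]
    set uH : H := ⟨u₀, hPH hu₀P⟩ with huH
    have hπu : π uH = q₀ := by
      rw [huH, hπP u₀ hu₀P]
      exact e.apply_symm_apply q₀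
    have hwu : Commute w uH := by
      obtain ⟨x, hx, hxw⟩ : ∃ x : H, Commute (x : G) u₀ ∧ π x = π w := by
        rcases hπw' with h | h
        · exact ⟨uH, Commute.refl u₀, by rw [hπu, h]⟩
        · exact ⟨uH⁻¹, (Commute.refl u₀).inv_left, by rw [map_inv, hπu, h]⟩
      have h5 := hodd_cent _ (w * x⁻¹).2 (by
        rw [Subgroup.orderOf_coe]
        exact hπker _ (by rw [map_mul, map_inv, hxw, mul_inv_cancel]))
      refine Subtype.ext ?_
      have : (w : G) = ((w * x⁻¹ : H) : G) * (x : G) := by simp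
      show (w : G) * u₀ = u₀ * (w : G)
      rw [this]
      exact (h5.mul_left hx).eq
    have huord : orderOf uH = 4 := by rw [huH, Subgroup.orderOf_mk, hu₀ord]
    have key : ∀ x : H, Commute w x → orderOf x = 4 → π x = π w → w = x := by
      intro x hcx hx4 hπx
      have h5 : π (w * x⁻¹) = 1 := by rw [map_mul, map_inv, hπx, mul_inv_cancel]
      have h6 : orderOf (w * x⁻¹) ∣ 4 := by
        refine orderOf_dvd_of_pow_eq_one ?_
        rw [hcx.inv_right.mul_pow, inv_pow,
          show w ^ 4 = 1 by rw [← hw4, pow_orderOf_eq_one],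
          show x ^ 4 = 1 by rw [← hx4, pow_orderOf_eq_one]]
        simp
      have h7 := Nat.eq_one_of_dvd_coprimes (Nat.Coprime.pow_right 2
        (Nat.coprime_two_right.mpr (hπker _ h5))) dvd_rfl (show orderOf (w * x⁻¹) ∣ 2 ^ 2 by
          norm_num; exact h6)
      exact mul_inv_eq_one.mp (orderOf_eq_one_iff.mp h7)
    rcases hπw' with h | h
    · left
      exact congrArg Subtype.val (key uH hwu huord (hπu.trans h.symm))
    · right
      exact congrArg Subtype.val (key uH⁻¹ hwu.inv_right (by rw [orderOf_inv, huord])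
        (by rw [map_inv, hπu, h]))
  -- `S` is a TI set
  have hTI : ∀ g : G, ∀ s ∈ S, g⁻¹ * s * g ∈ S → g ∈ H := by
    intro g s hs hs'
    obtain ⟨-, h1⟩ := hsupp s hs
    obtain ⟨-, h2⟩ := hsupp _ hs'
    have hord : orderOf (g⁻¹ * s * g) = orderOf s := by
      have h5 := MulEquiv.orderOf_eq (MulAut.conj g⁻¹) s
      rwa [MulAut.conj_apply, inv_inv] at h5
    have hpow : (g⁻¹ * s * g) ^ (orderOf s / 4) = g⁻¹ * s ^ (orderOf s / 4) * g := by
      have h5 := conj_pow (i := orderOf s / 4) (a := g⁻¹) (b := s)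
      rwa [inv_inv] at h5
    rw [hord, hpow] at h2
    rw [← inv_mem_iff (x := g)]
    refine hmemH ?_
    rw [inv_inv]
    rcases h1 with h1 | h1 <;> rw [h1] at h2
    · exact h2
    · have h3 : g⁻¹ * u₀ * g = (g⁻¹ * u₀⁻¹ * g)⁻¹ := by group
      rw [h3]
      rcases h2 with h2 | h2 <;> rw [h2]
      · exact Or.inr rfl
      · exact Or.inl (inv_inv _)
  set Θ := indFun H θ with hΘ
  have hΘgen : IsGeneralizedCharacter G Θ := Char.isGeneralizedCharacter_indFun H hθgen
  have hΘzero : ∀ g : G, ¬ 4 ∣ orderOf g → Θ g = 0 := by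
    intro g hg
    refine CharInt.indFun_eq_zero_of_support hθS fun x hx => hg ?_
    obtain ⟨h4, -⟩ := hsupp _ hx
    have h5 := MulEquiv.orderOf_eq (MulAut.conj x⁻¹) g
    rw [MulAut.conj_apply, inv_inv] at h5
    rwa [h5] at h4
  obtain ⟨hin1, hnorm⟩ := Quat.classInner_theta hN4
  have hΘ1 : classInner Θ (fun _ => 1) = -1 := by
    rw [hΘ, Char.classInner_indFun H θ (fun _ _ => rfl)]
    have h5 := classInner_comp_surjective π hπsurj (Quat.theta (N := N)) (fun _ => 1)
    exact h5.trans hin1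
  have hΘΘ : classInner Θ Θ = 3 := by
    rw [hΘ, CharInt.classInner_indFun_ti hTI hθS
      (Char.IsGeneralizedCharacter.isClassFunction hθgen) hθS]
    exact (classInner_comp_surjective π hπsurj (Quat.theta (N := N)) (Quat.theta (N := N))).trans
      hnorm
  obtain ⟨m, hm, hmi⟩ := Char.IsGeneralizedCharacter.exists_decomp hΘgen
  have hsq : ∑ χ : IrrCharacter G, m χ * m χ = 3 := by
    have h5 : classInner Θ Θ = ∑ χ : IrrCharacter G, ((m χ * m χ : ℤ) : ℂ) := by
      conv_lhs => arg 1; rw [hm]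
      rw [Char.classInner_sum_left]
      refine Finset.sum_congr rfl fun χ _ => ?_
      rw [Char.classInner_smul_left, ← Char.conj_classInner, hmi χ]
      simp
    rw [hΘΘ] at h5
    exact_mod_cast h5.symm
  have hmt : m (Char.trivialChar G) = -1 := by
    have h5 : classInner Θ (fun _ => 1) = (m (Char.trivialChar G) : ℂ) := hmi (Char.trivialChar G)
    rw [hΘ1] at h5
    exact_mod_cast h5.symm
  rw [← Finset.add_sum_erase _ _ (Finset.mem_univ (Char.trivialChar G)), hmt] at hsq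
  obtain ⟨χ₁, χ₂, h12, hχ₁, hχ₂, hm₁, hm₂, hrest⟩ :=
    exists_pair_of_sum_sq (Finset.univ.erase (Char.trivialChar G)) m (by omega)
  have hval : ∀ g, Θ g = -1 + (m χ₁ : ℂ) * χ₁.1 g + (m χ₂ : ℂ) * χ₂.1 g := by
    intro g
    conv_lhs => rw [hm]
    rw [Finset.sum_apply, ← Finset.add_sum_erase _ _ (Finset.mem_univ (Char.trivialChar G)),
      ← Finset.add_sum_erase _ _ hχ₁, ← Finset.add_sum_erase _ _
        (Finset.mem_erase.mpr ⟨h12.symm, hχ₂⟩), Finset.sum_eq_zero]
    · simp [hmt]; ring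
    · intro χ hχ
      simp only [Finset.mem_erase, Finset.mem_univ, and_true] at hχ
      simp [hrest χ (Finset.mem_erase.mpr ⟨hχ.2.2, Finset.mem_univ _⟩) hχ.2.1 hχ.1]
  -- the three relations
  have hE0 := hval 1
  rw [hΘzero 1 (by simp)] at hE0
  have hE1 := hval z
  rw [hΘzero z (by rw [hz.iso.1]; norm_num)] at hE1
  have hE2 : -1 + (m χ₁ : ℂ) * (χ₁.1 z * χ₁.1 z / χ₁.1 1) +
      (m χ₂ : ℂ) * (χ₂.1 z * χ₂.1 z / χ₂.1 1) = 0 := by
    have h5 := sum_coeff_mul_apply_div_eq_zero (Finset.univ : Finset (Fin 3))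
      ![(-1 : ℂ), m χ₁, m χ₂] ![Char.trivialChar G, χ₁, χ₂] (a := z) (b := z) (fun x y hx hy => by
        have hodd := Involution.Isolated.odd_orderOf_mul hz.iso hx hy
        have h6 := hval (x * y)
        rw [hΘzero _ (fun h => Nat.not_even_iff_odd.mpr hodd
          (even_iff_two_dvd.mpr (dvd_trans (by norm_num) h)))] at h6
        simpa [Fin.sum_univ_three] using h6.symm)
    simpa [Fin.sum_univ_three] using h5
  have hre : ∀ χ : IrrCharacter G, χ.1 z = ((χ.1 z).re : ℂ) := fun χ => Complex.ext (by simp)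
    (by simp [apply_involution_im (Involution.Isolated.mul_self hz.iso) χ])
  have hdeg : ∀ χ : IrrCharacter G, ∃ x : ℝ, 1 ≤ x ∧ χ.1 1 = (x : ℂ) := fun χ => by
    obtain ⟨d, hd, hd1⟩ := Char.IsIrrCharacter.exists_degree χ.2
    exact ⟨d, by exact_mod_cast hd, by rw [hd1]; norm_cast⟩
  obtain ⟨x₁, hx₁, hd₁⟩ := hdeg χ₁
  obtain ⟨x₂, hx₂, hd₂⟩ := hdeg χ₂
  rw [hd₁, hd₂] at hE0 hE2
  rw [hre χ₁, hre χ₂] at hE1 hE2
  have hne₁ := (Finset.mem_erase.mp hχ₁).1
  have hne₂ := (Finset.mem_erase.mp hχ₂).1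
  rcases two_point_moments hm₁ hm₂ hx₁ hx₂ (by exact_mod_cast hE0.symm)
      (by exact_mod_cast hE1.symm) (by exact_mod_cast hE2) with h | h
  · exact hne₁ (hz.eq_trivial_of_apply_eq (by rw [hre χ₁, hd₁, h]))
  · exact hne₂ (hz.eq_trivial_of_apply_eq (by rw [hre χ₂, hd₂, h]))

end Cfsg.Agent.ZStar
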