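import Cfsg.Agent.Lib.ZStar.Q8Identities
import Cfsg.Agent.Lib.ZStar.Q8Group
import Cfsg.Agent.Lib.ZStar.Q8Algebra
import Cfsg.Agent.Lib.ZStar.RankOneLarge
import Cfsg.Agent.Lib.CharInt.TI

/-!
# Rank one: quaternion Sylow 2-subgroups of order eight, and the conclusion
-/

set_option linter.style.haveILetI false

namespace Cfsg.Agent.ZStar

open Cfsg
open scoped ComplexConjugate

universe u

variable {G : Type u} [Group G] [Fintype G] {z : G} {P : Sylow 2 G}

namespace QuatConfig

variable (hq : QuatConfig z P)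
include hq

theorem fourData {u : G} (hu : orderOf u = 4) (huP : u ∈ (P : Subgroup G)) : FourData u :=
  ⟨hu, hq.exists_centralizer_complement hu huP, fun _ hs => hq.isConj_order_four hu huP hs⟩

theorem centralData {u : G} (hu : orderOf u = 4) (huP : u ∈ (P : Subgroup G))
    [Fintype (Subgroup.centralizer ({z} : Set G))]
    (hzC : z ∈ Subgroup.centralizer ({z} : Set G))
    (huC : u ∈ Subgroup.centralizer ({z} : Set G)) :
    CentralData (⟨z, hzC⟩ : Subgroup.centralizer ({z} : Set G)) ⟨u, huC⟩ := by
  haveI : Fact (Nat.Prime 2) := ⟨Nat.prime_two⟩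
  set C := Subgroup.centralizer ({z} : Set G) with hC
  have hsq := hq.sq_eq hu huP
  refine ⟨⟨?_, ?_, ?_⟩, Subtype.ext hsq, fun g => Subtype.ext
    (Subgroup.mem_centralizer_singleton_iff.mp g.2).symm, ?_⟩
  · rw [← Subgroup.orderOf_coe]; exact hu
  · obtain ⟨N, hN, hc⟩ := hq.exists_centralizer_complement hu huP
    have hle : Subgroup.centralizer ({u} : Set G) ≤ C := fun x hx => by
      have hxu : Commute x u := Subgroup.mem_centralizer_singleton_iff.mp hx
      rw [hC, Subgroup.mem_centralizer_singleton_iff, ← hsq]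
      exact (hxu.mul_right hxu).eq
    have hNle : N ≤ C := fun v hv =>
      hle (Subgroup.mem_centralizer_singleton_iff.mpr ((hN v).mp hv).1.symm.eq)
    refine ⟨N.subgroupOf C, fun v => ?_, ?_⟩
    · rw [Subgroup.mem_subgroupOf, hN, Subgroup.orderOf_coe]
      exact and_congr_left' ⟨fun h => Subtype.ext h.eq, fun h => congrArg Subtype.val h.eq⟩
    · have e : Subgroup.centralizer ({(⟨u, huC⟩ : C)} : Set C) =
          (Subgroup.centralizer ({u} : Set G)).subgroupOf C := by
        ext x
        rw [Subgroup.mem_subgroupOf, Subgroup.mem_centralizer_singleton_iff,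
          Subgroup.mem_centralizer_singleton_iff]
        exact ⟨fun h => congrArg Subtype.val h, fun h => Subtype.ext h⟩
      rw [e, Nat.card_congr (Subgroup.subgroupOfEquivOfLe hle).toEquiv,
        Nat.card_congr (Subgroup.subgroupOfEquivOfLe hNle).toEquiv]
      exact hc
  · intro s hs
    obtain ⟨c, hcz, hc⟩ := hq.exists_conj_commute hu huP (s := (s : G))
      (by rw [Subgroup.orderOf_coe, hs]) (Subgroup.mem_centralizer_singleton_iff.mp s.2)
    exact isConj_iff.mpr ⟨⟨c, Subgroup.mem_centralizer_singleton_iff.mpr hcz.eq⟩, Subtype.ext hc⟩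
  · intro s hs
    obtain ⟨k, hk⟩ := hs
    rw [← Subgroup.orderOf_coe] at hk
    have hp : IsPGroup 2 (Subgroup.zpowers (s : G)) :=
      IsPGroup.of_card (n := k) (by rw [Nat.card_zpowers, hk])
    obtain ⟨Q, hQ⟩ := hp.exists_le_sylow
    obtain ⟨c, rfl⟩ := MulAction.exists_smul_eq G P Q
    have hm := hQ (Subgroup.mem_zpowers _)
    rw [Sylow.coe_subgroup_smul, Subgroup.mem_pointwise_smul_iff_inv_smul_mem] at hm
    simp only [← map_inv, MulAut.smul_def, MulAut.conj_apply, inv_inv] at hm
    have hord : orderOf (c⁻¹ * (s : G) * c) = orderOf (s : G) := by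
      have h5 := MulEquiv.orderOf_eq (MulAut.conj c⁻¹) (s : G)
      rwa [MulAut.conj_apply, inv_inv] at h5
    rcases hq.cases_sylow hm with h | h | ⟨h, -⟩
    · left
      rw [h, orderOf_one] at hord
      exact Subtype.ext (orderOf_eq_one_iff.mp hord.symm)
    · right; left
      rw [h, hq.min.iso.1] at hord
      exact Subtype.ext (hq.only _ hord.symm (Subgroup.mem_centralizer_singleton_iff.mp s.2))
    · right; right
      rw [← Subgroup.orderOf_coe, ← hord, h]

theorem eq_trivial_of_degree_one {χ : IrrCharacter G} (h1 : χ.1 1 = 1) :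
    χ = Char.trivialChar G := by
  obtain ⟨lam, hl⟩ := Char.IsCharacter.exists_monoidHom (Char.irr_isCharacter χ) h1
  refine eq_trivialChar_of_const fun g => ?_
  have h := Abelianization.commutator_subset_ker lam.toHomUnits
    (hq.commutator_eq_top ▸ Subgroup.mem_top g)
  have h' := congrArg Units.val (MonoidHom.mem_ker.mp h)
  rw [h1, ← hl]
  simpa using h'

/-- The case of a quaternion Sylow subgroup of order eight is impossible. -/
theorem false_of_secondPrincipal (hS : SecondPrincipal.{u}) : False := by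
  classical
  haveI : Fact (Nat.Prime 2) := ⟨Nat.prime_two⟩
  obtain ⟨M, hM⟩ := exists_isPModular_two
  haveI := hM.2.1
  obtain ⟨u, huP, hu⟩ := hq.exists_mem_order_four
  set C := Subgroup.centralizer ({z} : Set G) with hCdef
  haveI := Fintype.ofFinite C
  have hzC : z ∈ C := Subgroup.mem_centralizer_singleton_iff.mpr rfl
  have huC : u ∈ C := Subgroup.mem_centralizer_singleton_iff.mpr
    ((hq.min.sylow_involution_unique hq.only P hq.mem).1 u huP).eq
  set zC : C := ⟨z, hzC⟩ with hzCdef
  have hz2 : z * z = 1 := Involution.Isolated.mul_self hq.min.iso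
  have hF := hq.fourData hu huP
  have hCD := hq.centralData hu huP hzC huC
  obtain ⟨T⟩ := hCD.exists_triple hS hM
  obtain ⟨w, hw, hwB, hwN, hwphi, hw4, hwo⟩ := hF.exists_weights hS hM
  obtain ⟨e, he, hesum, heodd⟩ := T.exists_e
  -- the support
  set S : Set G := {g | ∃ hg : g ∈ C, zC * ⟨g, hg⟩ ∈ regularSet C} with hSdef
  have hθS : ∀ j (x : C), (x : G) ∉ S → T.lift j x = 0 := fun j x hx =>
    T.lift_eq_zero fun hr => hx ⟨x.2, hr⟩
  have hpart : ∀ g ∈ S, IsPPart 2 g z := by
    rintro g ⟨hg, hr⟩
    refine ⟨((zC * ⟨g, hg⟩ : C) : G), ?_, ?_, ⟨1, by rw [hq.min.iso.1, pow_one]⟩, ?_⟩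
    · rw [Subgroup.coe_mul]
      show z * (z * g) = g
      rw [← mul_assoc, hz2, one_mul]
    · exact (Subgroup.mem_centralizer_singleton_iff.mp (zC * ⟨g, hg⟩ : C).2).symm
    · rw [Subgroup.orderOf_coe]
      exact mem_regularSet.mp hr
  have hTI : ∀ g : G, ∀ s ∈ S, g⁻¹ * s * g ∈ S → g ∈ C := by
    intro g s hs hs'
    have h1 := Blocks.IsPPart.conj (hpart s hs) g⁻¹
    rw [inv_inv] at h1
    have h2 := Blocks.IsPPart.unique h1 (hpart _ hs')
    rw [mul_assoc, inv_mul_eq_iff_eq_mul] at h2
    exact Subgroup.mem_centralizer_singleton_iff.mpr h2.symm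
  -- the induced functions
  set Θ : Fin 3 → G → ℂ := fun j => indFun C (T.lift j) with hΘ
  have hΘgen : ∀ j, IsGeneralizedCharacter G (Θ j) := fun j =>
    Char.isGeneralizedCharacter_indFun C (T.isGeneralized_lift j)
  have hint : ∀ j (χ : IrrCharacter G), ∃ k : ℤ, classInner χ.1 (Θ j) = (k : ℂ) := fun j χ =>
    Char.IsGeneralizedCharacter.exists_int_classInner (Char.irr_isGeneralized χ) (hΘgen j)
  choose n hn using hint
  have hΘcf : ∀ j, IsClassFunction G (Θ j) := fun j => Char.isClassFunction_indFun C _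
  have hΘsum : ∀ j g, ∑ χ, (n j χ : ℂ) * χ.1 g = Θ j g := by
    intro j g
    have hexp : Θ j = ∑ χ, (n j χ : ℂ) • χ.1 := by
      conv_lhs => rw [Char.eq_sum_classInner_smul (hΘcf j)]
      refine Finset.sum_congr rfl fun χ _ => ?_
      rw [← Char.conj_classInner χ.1 (Θ j), hn, map_intCast]
    conv_rhs => rw [hexp]
    simp [Finset.sum_apply]
  have hvanish : ∀ j g, (∀ c : G, ¬ IsPPart 2 (c⁻¹ * g * c) z) → Θ j g = 0 := fun j g hg =>
    CharInt.indFun_eq_zero_of_support (hθS j) fun c hc => hg c (hpart _ hc)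
  have hnΘ : ∀ i j, ∑ χ, (n i χ : ℂ) * (n j χ : ℂ) = classInner (Θ i) (Θ j) := by
    intro i j
    rw [Char.classInner_eq_sum (hΘcf i)]
    refine Finset.sum_congr rfl fun χ _ => ?_
    rw [hn, ← Char.conj_classInner χ.1 (Θ i), hn, map_intCast]
  have hΘΘ : ∀ i j, classInner (Θ i) (Θ j) = 2 * (1 + if i = j then 1 else 0) := fun i j => by
    rw [hΘ, CharInt.classInner_indFun_ti hTI (hθS i) (T.isClassFunction_lift j) (hθS j),
      T.classInner_lift]
  have hno : ∀ j, n j (Char.trivialChar G) = 1 := by
    intro j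
    have h1 := hn j (Char.trivialChar G)
    rw [← Char.conj_classInner (Θ j), hΘ, Char.classInner_indFun C _ (fun _ _ => rfl)] at h1
    rw [show (fun h : C => (Char.trivialChar G).1 (h : G)) = (Char.trivialChar C).1 from rfl,
      T.classInner_lift_one, map_one] at h1
    exact_mod_cast h1.symm
  have hmult : ∀ j (χ : IrrCharacter G),
      (n j χ : ℂ) = T.mult (fun x : C => χ.1 ((zC * x : C) : G)) j := by
    intro j χ
    rw [← hn, ← Char.conj_classInner (Θ j), hΘ,
      Char.classInner_indFun C _ (Blocks.irr_classFun χ), Char.conj_classInner, classInner,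
      hCD.sum_split]
    have z1 : ∀ v ∈ regularSet C, χ.1 (v : G) * conj (T.lift j v) = 0 := fun v hv => by
      rw [T.lift_eq_zero (hCD.not_regular_z_mul hv), map_zero, mul_zero]
    have z2 : ∀ g ∈ twoSection (⟨u, huC⟩ : C), χ.1 (g : G) * conj (T.lift j g) = 0 := fun g hg => by
      rw [T.lift_eq_zero (fun hr => by
        have h5 := (hCD.not_twoSection_of_regular hr).2
        rw [hCD.z_mul_z_mul] at h5
        exact h5 hg), map_zero, mul_zero]
    rw [Finset.sum_eq_zero z1, Finset.sum_eq_zero z2, Triple.mult, zero_add, add_zero,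
      Finset.sum_congr rfl (g := fun v => 2 * (χ.1 ((zC * v : C) : G) * conj (T.twist j v)))
        (fun v hv => by rw [T.lift_z_mul hv, map_mul, map_ofNat]; ring), ← Finset.mul_sum]
    ring
  have hcf : ∀ χ : IrrCharacter G, IsClassFunction C (fun x : C => χ.1 ((zC * x : C) : G)) := by
    intro χ x c
    show χ.1 ((zC * (c * x * c⁻¹) : C) : G) = χ.1 ((zC * x : C) : G)
    rw [show zC * (c * x * c⁻¹) = c * (zC * x) * c⁻¹ by
      have hcz : c * zC = zC * c := (hCD.central c).symm.eq
      simp only [← mul_assoc, hcz]]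
    exact Blocks.irr_classFun χ ((zC * x : C) : G) (c : G)
  have hsec := fun χ => hS G M hM z ⟨1, by rw [hq.min.iso.1, pow_one]⟩ χ
  have hout : ∀ χ : IrrCharacter G, χ ∉ principalBlock M G → ∀ j, n j χ = 0 := by
    intro χ hχ j
    have h1 := hmult j χ
    rw [T.mult_eq_zero hM (hcf χ) (fun v hv => ?_) j] at h1
    · exact_mod_cast h1
    · have h2 := (hsec χ v (Nat.not_even_iff_odd.mp fun hev =>
        mem_regularSet.mp hv (even_iff_two_dvd.mp hev))).2 hχ
      rw [finsum_eq_sum_of_fintype] at h2
      exact h2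
  have hin : ∀ χ : IrrCharacter G, χ ∈ principalBlock M G →
      χ.1 z = ∑ j, (n j χ : ℂ) * (e j : ℂ) := by
    intro χ hχ
    have h2 := (hsec χ 1 (by simp)).1 hχ
    rw [finsum_eq_sum_of_fintype] at h2
    simp only [mul_one, Subgroup.coe_one] at h2
    have h3 := T.sum_blockCoeff_eq hM (fun x : C => χ.1 ((zC * x : C) : G))
    rw [← h2]
    refine h3.trans (Finset.sum_congr rfl fun j _ => ?_)
    rw [he, hmult]; ring
  have hrow : ∀ χ : IrrCharacter G, ((∃ j, n j χ ≠ 0) ∨ w χ ≠ 0) → χ ∈ principalBlock M G := by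
    intro χ h
    by_contra hχ
    rcases h with ⟨j, hj⟩ | h
    · exact hj (hout χ hχ j)
    · exact h (hwN χ hχ)
  have hprod : ∀ x y : G, IsConj z x → IsConj z y →
      (∀ j, Θ j (x * y) = 0) ∧ hF.phi (x * y) = 0 := by
    intro x y hx hy
    have hodd := Involution.Isolated.odd_orderOf_mul hq.min.iso hx hy
    have hpp : ∀ g : G, Odd (orderOf g) → IsPPart 2 g 1 := fun g hg => by
      simpa using Blocks.isPPart_mul (G := G) (Commute.one_left g) (p := 2) ⟨0, by simp⟩
        (fun h => Nat.not_even_iff_odd.mpr hg (even_iff_two_dvd.mpr h))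
    refine ⟨fun j => hvanish j _ fun c hc => ?_, ?_⟩
    · have hc' : Odd (orderOf (c⁻¹ * (x * y) * c)) := by
        have h5 := MulEquiv.orderOf_eq (MulAut.conj c⁻¹) (x * y)
        rw [MulAut.conj_apply, inv_inv] at h5
        rwa [h5]
      have h5 := Blocks.IsPPart.unique hc (hpp _ hc')
      have h6 := hq.min.iso.1
      rw [h5, orderOf_one] at h6
      omega
    · have : x * y ∉ twoSection u := fun hm => by
        obtain ⟨s, hs, hp⟩ := mem_twoSection.mp hm
        rw [Blocks.IsPPart.unique hp (hpp _ hodd)] at hs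
        rw [isConj_one_left.mp hs, orderOf_one] at hu
        omega
      simp [FourData.phi, this]
  have hΘ1 : ∀ j, Θ j 1 = 0 := fun j => hvanish j 1 fun c hc => by
    rw [mul_one, inv_mul_cancel] at hc
    have h5 := Blocks.IsPPart.unique hc
      (show IsPPart 2 (1 : G) 1 from ⟨1, mul_one 1, Commute.one_left 1, ⟨0, by simp⟩, by simp⟩)
    have h6 := hq.min.iso.1
    rw [h5, orderOf_one] at h6
    omega
  have hphi1 : hF.phi 1 = 0 := by
    have : (1 : G) ∉ twoSection u := fun hm => by
      obtain ⟨s, hs, hp⟩ := mem_twoSection.mp hm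
      rw [Blocks.IsPPart.unique hp (show IsPPart 2 (1 : G) 1 from
        ⟨1, mul_one 1, Commute.one_left 1, ⟨0, by simp⟩, by simp⟩)] at hs
      rw [isConj_one_left.mp hs, orderOf_one] at hu
      omega
    simp [FourData.phi, this]
  refine Q8.false_of_data (ι := IrrCharacter G)
    { o := Char.trivialChar G
      n := n
      w := w
      d := fun χ => Char.degree χ
      y := fun χ => χ.1 z
      e := e
      n_o := hno
      w_o := hwo
      d_o := by
        have h : (Char.degree (Char.trivialChar G) : ℂ) = ((1 : ℕ) : ℂ) := by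
          rw [← Char.apply_one_eq_degree]; simp [Char.trivialChar]
        exact_mod_cast h
      y_o := by simp [Char.trivialChar]
      d_pos := fun χ => (Char.degree_pos χ).ne'
      d_one := fun χ h => hq.eq_trivial_of_degree_one (by
        rw [Char.apply_one_eq_degree, h, Nat.cast_one])
      y_ne := fun χ hne h => hne (hq.min.eq_trivial_of_apply_eq (by
        rw [Char.apply_one_eq_degree]; exact h))
      n_self := fun j => by
        have h := (hnΘ j j).trans (hΘΘ j j)
        rw [if_pos rfl] at h
        have h' : ((∑ χ, n j χ * n j χ : ℤ) : ℂ) = ((4 : ℤ) : ℂ) := by push_cast; rw [h]; norm_num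
        exact_mod_cast h'
      n_n := fun j k hjk => by
        have h := (hnΘ j k).trans (hΘΘ j k)
        rw [if_neg hjk] at h
        have h' : ((∑ χ, n j χ * n k χ : ℤ) : ℂ) = ((2 : ℤ) : ℂ) := by push_cast; rw [h]; norm_num
        exact_mod_cast h'
      w_self := hw4
      n_w := fun j => by
        have h : classInner (Θ j) hF.phi = 0 := by
          rw [classInner]
          refine mul_eq_zero_of_right _ (Finset.sum_eq_zero fun g _ => ?_)
          by_cases hg : g ∈ twoSection u
          · rw [hvanish j g fun c hc => ?_, zero_mul]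
            obtain ⟨s, hs, hp⟩ := mem_twoSection.mp hg
            have h5 := Blocks.IsPPart.conj hp c⁻¹
            rw [inv_inv] at h5
            have h6 := Blocks.IsPPart.unique hc h5
            obtain ⟨d, hd⟩ := isConj_iff.mp hs
            have h7 : orderOf (c⁻¹ * s * c) = 4 := by
              have h8 := MulEquiv.orderOf_eq (MulAut.conj c⁻¹) s
              rw [MulAut.conj_apply, inv_inv] at h8
              rw [h8, ← hd, ← MulAut.conj_apply, MulEquiv.orderOf_eq, hu]
            rw [← h6, hq.min.iso.1] at h7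
            omega
          · simp [FourData.phi, hg]
        rw [Char.classInner_eq_sum (hΘcf j)] at h
        have h' : ((∑ χ, n j χ * w χ : ℤ) : ℂ) = ((0 : ℤ) : ℂ) := by
          push_cast
          rw [← h]
          refine Finset.sum_congr rfl fun χ _ => ?_
          rw [hw, ← Char.conj_classInner χ.1 (Θ j), hn, map_intCast]
        exact_mod_cast h'
      parity := fun χ => by
        by_cases hχ : χ ∈ principalBlock M G
        · obtain ⟨x, a, -, hx, ha, -⟩ := hF.exists_values (Char.irr_isCharacter χ)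
          have h1 := hin χ hχ
          rw [← hq.sq_eq hu huP, ha, Fin.sum_univ_three] at h1
          have hxw : x = w χ := by
            have := hx.symm.trans (hwB χ hχ)
            exact_mod_cast this
          have h2 : x + 2 * a = n 0 χ * e 0 + n 1 χ * e 1 + n 2 χ * e 2 := by exact_mod_cast h1
          have hmod : ∀ a b : ℤ, b % 2 = 1 → (a * b) % 2 = a % 2 := fun a b hb => by
            rw [Int.mul_emod, hb, mul_one, Int.emod_emod]
          have q0 := hmod (n 0 χ) _ (heodd 0)
          have q1 := hmod (n 1 χ) _ (heodd 1)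
          have q2 := hmod (n 2 χ) _ (heodd 2)
          omega
        · simp [hout χ hχ, hwN χ hχ]
      e_sum := hesum
      y_eq := fun χ h => hin χ (hrow χ h)
      deg_n := fun j => by
        rw [← hΘ1 j, ← hΘsum j]
        simp [Char.apply_one_eq_degree]
      deg_w := by
        rw [← hphi1, ← hwphi]
        simp [Char.apply_one_eq_degree]
      sq_n := fun j => by
        have h := sum_coeff_mul_apply_div_eq_zero Finset.univ (fun χ => (n j χ : ℂ)) id (a := z)
          (b := z) (fun x y hx hy => (hΘsum j _).trans ((hprod x y hx hy).1 j))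
        simpa [Char.apply_one_eq_degree] using h
      sq_w := by
        have h := sum_coeff_mul_apply_div_eq_zero Finset.univ (fun χ => (w χ : ℂ)) id (a := z)
          (b := z) (fun x y hx hy => (hwphi _).trans (hprod x y hx hy).2)
        simpa [Char.apply_one_eq_degree] using h }

end QuatConfig

/-- Minimal counterexamples have 2-rank at least two. -/
theorem rankOneCase_of (hS : SecondPrincipal.{u}) : RankOneCase.{u} := by
  intro G _ _ z hz
  by_contra hno
  push Not at hno
  have h1 : OnlyInvolution z := hno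
  obtain ⟨P, hzP, n, hn, ⟨e⟩⟩ := hz.exists_quaternion h1
  rcases (show n = 1 ∨ 2 ≤ n by omega) with rfl | hn2
  · haveI := Fintype.ofFinite G
    have hq : QuatConfig z P := ⟨hz, h1, hzP, ⟨e⟩⟩
    exact hq.false_of_secondPrincipal hS
  · exact hz.false_of_quaternion_large h1 P hzP hn2 e

/-- The Z*-theorem from the second main theorem. -/
theorem zStarThm_of_secondPrincipal (hS : SecondPrincipal.{u}) : ZStarThm.{u} :=
  zStarThm_of (principalConst_of hS) (rankOneCase_of hS)

end Cfsg.Agent.ZStar
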