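import Cfsg.Agent.Lib.ZStar.SecondMain
import Cfsg.Agent.Lib.ZStar.Q8Case
import Cfsg.Agent.Lib.ZStar.Consumers

/-!
# Glauberman's Z*-theorem
-/

namespace Cfsg.Agent.ZStar

open Cfsg

universe u

/-- **Glauberman's Z*-theorem**: an isolated involution is central modulo the odd core. -/
theorem inZStar {G : Type u} [Group G] [Finite G] {z : G} (hz : IsIsolatedInvolution z) :
    InZStar 2 z :=
  zStarThm_of_secondPrincipal secondPrincipal G z hz

theorem zStarThm : ZStarThm.{u} := fun _ _ _ _ hz => inZStar hz

end Cfsg.Agent.ZStar
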