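import Cfsg.Agent.Lib.Blocks.CentralChar
import Cfsg.Agent.Lib.CharInt.Basic

/-!
# Products of two class sums evaluated on characters

If a character is constant on the set of products of the elements of two classes, its values at
the two classes multiply; and a virtual character vanishing on all those products gives a
relation between the values at the two classes.
-/

set_option linter.style.haveILetI false

namespace Cfsg.Agent.ZStar

open Cfsg Cfsg.Agent.Blocks
open scoped Classical

universe u

variable {G : Type u} [Group G] [Finite G]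

/-- The conjugates of `g`, as a finset. -/
noncomputable def conjFinset (g : G) : Finset G :=
  haveI := Fintype.ofFinite G
  Finset.univ.filter fun x => IsConj g x

theorem mem_conjFinset {g x : G} : x ∈ conjFinset g ↔ IsConj g x := by
  simp [conjFinset]

theorem card_conjFinset (g : G) :
    ((conjFinset g).card : ℂ) = ((Subgroup.centralizer ({g} : Set G)).index : ℂ) := by
  haveI := Fintype.ofFinite G
  rw [← card_isConj_eq_index, Nat.card_eq_fintype_card, Fintype.card_subtype]
  exact congrArg (fun s : Finset G => ((s.card : ℕ) : ℂ))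
    (Finset.ext fun x => by simp [mem_conjFinset])

theorem classSum_eq_sum_single (g : G) :
    classSum ℂ g = ∑ x ∈ conjFinset g, MonoidAlgebra.single x 1 := by
  refine alg_ext fun y => ?_
  rw [coeff_classSum, MonoidAlgebra.coeff_sum, Finset.sum_apply']
  simp [MonoidAlgebra.coeff_single, Finsupp.single_apply, mem_conjFinset]

theorem chiL_classSum_mul (θ : G → ℂ) (a b : G) :
    chiL θ (classSum ℂ a * classSum ℂ b) =
      ∑ x ∈ conjFinset a, ∑ y ∈ conjFinset b, θ (x * y) := by
  rw [classSum_eq_sum_single, classSum_eq_sum_single, Finset.sum_mul, chiL_sum]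
  refine Finset.sum_congr rfl fun x _ => ?_
  rw [Finset.mul_sum, chiL_sum]
  refine Finset.sum_congr rfl fun y _ => ?_
  rw [MonoidAlgebra.single_mul_single, one_mul, chiL_single, one_mul]

theorem centralChar_mul (χ : IrrCharacter G) (a b : G) :
    ((conjFinset a).card : ℂ) * χ.1 a * (((conjFinset b).card : ℂ) * χ.1 b) =
      χ.1 1 * ∑ x ∈ conjFinset a, ∑ y ∈ conjFinset b, χ.1 (x * y) := by
  have h1 := irr_one_ne_zero χ
  rw [← chiL_classSum_mul, chiL_mul_of_central χ (isCentralElt_classSum a), omega,
    chiL_classSum (irr_classFun χ), chiL_classSum (irr_classFun χ), card_conjFinset,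
    card_conjFinset]
  field_simp

/-- A character constant on the products of two classes. -/
theorem apply_mul_apply_eq (χ : IrrCharacter G) {a b : G} {c : ℂ}
    (h : ∀ x y : G, IsConj a x → IsConj b y → χ.1 (x * y) = c) :
    χ.1 a * χ.1 b = χ.1 1 * c := by
  have h0 := centralChar_mul χ a b
  rw [Finset.sum_congr rfl (fun x hx => Finset.sum_congr rfl
      (fun y hy => h x y (mem_conjFinset.mp hx) (mem_conjFinset.mp hy)))] at h0
  simp only [Finset.sum_const, nsmul_eq_mul] at h0
  have hne : ((conjFinset a).card : ℂ) * ((conjFinset b).card : ℂ) ≠ 0 := by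
    refine mul_ne_zero ?_ ?_ <;>
      exact Nat.cast_ne_zero.mpr (Finset.card_ne_zero.mpr ⟨_, mem_conjFinset.mpr (IsConj.refl _)⟩)
  exact mul_left_cancel₀ hne (by linear_combination h0)

/-- A virtual character vanishing on the products of two classes. -/
theorem sum_coeff_mul_apply_div_eq_zero {ι : Type*} (s : Finset ι) (c : ι → ℂ)
    (χ : ι → IrrCharacter G) {a b : G}
    (h : ∀ x y : G, IsConj a x → IsConj b y → ∑ i ∈ s, c i * (χ i).1 (x * y) = 0) :
    ∑ i ∈ s, c i * ((χ i).1 a * (χ i).1 b / (χ i).1 1) = 0 := by
  have hne : ((conjFinset a).card : ℂ) * ((conjFinset b).card : ℂ) ≠ 0 := by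
    refine mul_ne_zero ?_ ?_ <;>
      exact Nat.cast_ne_zero.mpr (Finset.card_ne_zero.mpr ⟨_, mem_conjFinset.mpr (IsConj.refl _)⟩)
  have key : ((conjFinset a).card : ℂ) * ((conjFinset b).card : ℂ) *
      ∑ i ∈ s, c i * ((χ i).1 a * (χ i).1 b / (χ i).1 1) =
      ∑ x ∈ conjFinset a, ∑ y ∈ conjFinset b, ∑ i ∈ s, c i * (χ i).1 (x * y) := by
    rw [Finset.mul_sum, Finset.sum_congr rfl (fun x _ => Finset.sum_comm), Finset.sum_comm]
    refine Finset.sum_congr rfl fun i _ => ?_
    have h1 := irr_one_ne_zero (χ i)
    have h0 := centralChar_mul (χ i) a b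
    simp only [← Finset.mul_sum]
    field_simp
    linear_combination c i * h0
  have hzero : ∑ x ∈ conjFinset a, ∑ y ∈ conjFinset b, ∑ i ∈ s, c i * (χ i).1 (x * y) = 0 :=
    Finset.sum_eq_zero fun x hx => Finset.sum_eq_zero fun y hy =>
      h x y (mem_conjFinset.mp hx) (mem_conjFinset.mp hy)
  rw [hzero] at key
  exact (mul_eq_zero.mp key).resolve_left hne

end Cfsg.Agent.ZStar
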