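import Cfsg.Agent.Lib.ZStar.SecondMain

/-!
# Characters of the principal block are constant on `u O_{p'}(C(u))`
-/

set_option linter.style.haveILetI false

namespace Cfsg.Agent.ZStar

open Cfsg
open scoped ComplexConjugate

universe u

variable {G : Type u} [Group G] [Finite G] {p : ℕ} [hp : Fact p.Prime] {M : Ideal AlgInt}

/-- Characters of the principal block have the normal `p'`-subgroups in their kernel. -/
theorem trivOn_of_mem_principalBlock_of_coprime (hM : IsPModular p M) {N : Subgroup G} [N.Normal]
    (hN : (Nat.card N).Coprime p) {χ : IrrCharacter G} (hχ : χ ∈ principalBlock M G) :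
    Char.TrivOn N χ.1 := by
  classical
  haveI := Fintype.ofFinite G
  by_contra h
  refine BlockCount.pregSum_restrict_ne_zero N hM hχ ?_
  have h2 := Char.sum_coset_eq_zero_of_not_trivOn N χ h 1
  simp only [one_mul] at h2
  rw [← h2, BlockCount.pregSum, Finset.filter_true_of_mem]
  intro g _ hd
  exact (Nat.Prime.coprime_iff_not_dvd hp.out).mp hN.symm (hd.trans (orderOf_dvd_natCard g))

/-- Constancy on `u O_{p'}(C(u))`. -/
theorem apply_mul_pPrimeCore (hM : IsPModular p M) {u : G} (hu : ∃ k : ℕ, orderOf u = p ^ k) {v : G}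
    (hv : v ∈ centralizerPPrimeCore p u) {χ : IrrCharacter G} (hχ : χ ∈ principalBlock M G) :
    χ.1 (u * v) = χ.1 u := by
  haveI := hM.2.1
  obtain ⟨v', hv', rfl⟩ := Subgroup.mem_map.mp hv
  set N := pPrimeCore p (Subgroup.centralizer ({u} : Set G))
  have hcop : (Nat.card N).Coprime p := PCore.coprime_card_pPrimeCore
  have hvo : ¬ p ∣ orderOf v' := fun hd =>
    (Nat.Prime.coprime_iff_not_dvd hp.out).mp hcop.symm
      (hd.trans (Subgroup.orderOf_dvd_natCard N hv'))
  have h1 := (sum_principal_blockCoeff hM.2.2 hu χ v' hvo).1 hχ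
  have h0 := (sum_principal_blockCoeff hM.2.2 hu χ 1 (by simp [hp.out.ne_one])).1 hχ
  show χ.1 (u * (v' : G)) = χ.1 u
  rw [← h1]
  have h0' : χ.1 (u * ((1 : Subgroup.centralizer ({u} : Set G)) : G)) = χ.1 u := by simp
  rw [← h0', ← h0]
  refine finsum_eq_of_bijective (fun k => k * v') (Group.mulRight_bijective v') fun k => ?_
  have hk : blockCoeff (principalBlock M (Subgroup.centralizer ({u} : Set G))) (k * v') =
      blockCoeff (principalBlock M (Subgroup.centralizer ({u} : Set G))) k := by
    haveI := Fintype.ofFinite (Subgroup.centralizer ({u} : Set G))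
    unfold blockCoeff
    congr 1
    refine finsum_mem_congr rfl fun ξ hξ => ?_
    rw [Char.apply_mul_of_trivOn (trivOn_of_mem_principalBlock_of_coprime hM hcop hξ) k hv']
  rw [hk, mul_one]

end Cfsg.Agent.ZStar
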