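import Cfsg.Agent.Lib.ZStar.SecondPrincipal
import Cfsg.Agent.Lib.BlockCount.CentralizerBlocks
import Cfsg.Agent.Lib.Blocks.NagaoTrace
import Cfsg.Agent.Lib.Blocks.PPart

/-!
# The second main theorem for the principal block

With `f` the principal idempotent of the centralizer of a `p`-element `u` and `e` the one of `G`,
`e` restricted to the centralizer is congruent to `f`; the trace lemma then shows that the
characters vanish exactly on `(1 - e) f h` and on `e (1 - f) h` when `u` is the `p`-part of `h`.
-/

set_option linter.style.haveILetI false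
set_option linter.unusedSectionVars false

namespace Cfsg.Agent.ZStar

open Cfsg Cfsg.Agent.Blocks MonoidAlgebra
open scoped ComplexConjugate

universe u

variable {G : Type u} [Group G] [Finite G] {M : Ideal AlgInt} {H : Subgroup G}

/-- The inclusion of the group algebra of a subgroup. -/
noncomputable def inclH (H : Subgroup G) : MonoidAlgebra ℂ H →+* MonoidAlgebra ℂ G :=
  MonoidAlgebra.mapDomainRingHom ℂ H.subtype

theorem coeff_inclH (z : MonoidAlgebra ℂ H) (h : H) : (inclH H z).coeff (h : G) = z.coeff h :=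
  Finsupp.mapDomain_apply H.subtype_injective z.coeff h

theorem coeff_inclH_of_notMem (z : MonoidAlgebra ℂ H) {g : G} (hg : g ∉ H) :
    (inclH H z).coeff g = 0 :=
  Finsupp.mapDomain_of_notMem_range (f := (H.subtype : H → G)) z.coeff g
    (fun ⟨h, hh⟩ => hg (hh ▸ h.2))

theorem inclH_single (h : H) (r : ℂ) :
    inclH H (MonoidAlgebra.single h r) = MonoidAlgebra.single (h : G) r := by
  simp [inclH]

theorem scoeff_inclH [M.IsPrime] {z : MonoidAlgebra ℂ H} (hz : SCoeff M z) :
    SCoeff M (inclH H z) := fun g => by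
  by_cases hg : g ∈ H
  · simpa [coeff_inclH z ⟨g, hg⟩] using (coeff_inclH z ⟨g, hg⟩).symm ▸ hz ⟨g, hg⟩
  · rw [coeff_inclH_of_notMem z hg]
    exact memLocalRing_zero

theorem resH_mul_inclH (z : MonoidAlgebra ℂ G) (w : MonoidAlgebra ℂ H) :
    resH H (z * inclH H w) = resH H z * w := by
  classical
  haveI := Fintype.ofFinite G
  haveI := Fintype.ofFinite H
  refine alg_ext fun h => ?_
  rw [coeff_resH, coeff_mul_eq_sum, coeff_mul_eq_sum]
  symm
  refine Fintype.sum_of_injective (Subtype.val : H → G) Subtype.val_injective _ _ (fun x hx => ?_)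
    (fun y => ?_)
  · rw [coeff_inclH_of_notMem w, mul_zero]
    intro hm
    refine hx ⟨⟨x, ?_⟩, rfl⟩
    have h2 := H.inv_mem (H.mul_mem hm (H.inv_mem h.2))
    simpa using h2
  · rw [coeff_resH, ← coeff_inclH w (y⁻¹ * h)]
    rfl

variable {p : ℕ} [hp : Fact p.Prime]

/-- A central element annihilated modulo `M` on restriction kills the twisted trace. -/
theorem chiL_mul_inclH_single_eq_zero [M.IsMaximal] (hpM : (p : AlgInt) ∈ M) {χ : G → ℂ}
    (hχ : IsClassFunction G χ) (hχS : ∀ g, MemLocalRing M (χ g)) {u : G}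
    (hu : ∃ k, orderOf u = p ^ k) {h : Subgroup.centralizer ({u} : Set G)}
    (huh : u ∈ Subgroup.zpowers (h : G)) {E : MonoidAlgebra ℂ G}
    {f : MonoidAlgebra ℂ (Subgroup.centralizer ({u} : Set G))}
    (hE : IsCentralElt E) (hES : SCoeff M E) (hEE : E * E = E)
    (hf : IsCentralElt f) (hfS : SCoeff M f) (hff : f * f = f)
    (hm : MCoeff M (resH (Subgroup.centralizer ({u} : Set G)) E * f))
    (hcent : Commute (MonoidAlgebra.single (h : G) (1 : ℂ)) (inclH _ f)) :
    chiL χ (E * inclH _ f * MonoidAlgebra.single (h : G) 1) = 0 := by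
  classical
  haveI := Fintype.ofFinite (Subgroup.centralizer ({u} : Set G))
  set m := resH (Subgroup.centralizer ({u} : Set G)) E * f with hmdef
  have hmc : IsCentralElt m := IsCentralElt.mul (isCentralElt_resH hE) hf
  have h1c : IsCentralElt (1 - m) := IsCentralElt.sub isCentralElt_one hmc
  have h1S : SCoeff M (1 - m) := SCoeff.sub scoeff_one (MCoeff.scoeff hm)
  obtain ⟨w, hw, hwS, hw1⟩ := exists_mul_eq_blockIdem (A := (Set.univ : Set (IrrCharacter (Subgroup.centralizer ({u} : Set G)))))
    h1c h1S (fun ξ _ hI => not_memLocalIdeal_one (M := M) (by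
      have h2 := MemLocalIdeal.add hI (memLocalIdeal_omega ξ hmc hm)
      rwa [Blocks.omega_sub, sub_add_cancel, omega_one] at h2))
    (fun ξ h => absurd (Set.mem_univ ξ) h)
  rw [blockIdem_univ] at hw1
  set a := E * inclH (Subgroup.centralizer ({u} : Set G)) f with ha
  set X := a - inclH (Subgroup.centralizer ({u} : Set G)) m with hX
  have hEc : ∀ y, Commute E y := IsCentralElt.commute hE
  have haa : a * a = a := by
    rw [ha]
    calc E * inclH (Subgroup.centralizer ({u} : Set G)) f * (E * inclH (Subgroup.centralizer ({u} : Set G)) f) = E * (inclH (Subgroup.centralizer ({u} : Set G)) f * E) * inclH (Subgroup.centralizer ({u} : Set G)) f := by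
          simp only [mul_assoc]
      _ = E * E * (inclH (Subgroup.centralizer ({u} : Set G)) f * inclH (Subgroup.centralizer ({u} : Set G)) f) := by
          rw [← (hEc (inclH (Subgroup.centralizer ({u} : Set G)) f)).eq]; simp only [mul_assoc]
      _ = E * inclH (Subgroup.centralizer ({u} : Set G)) f := by rw [hEE, ← map_mul, hff]
  have hafm : a * inclH (Subgroup.centralizer ({u} : Set G)) f = a := by rw [ha, mul_assoc, ← map_mul, hff]
  have hcomm_a : ∀ y : MonoidAlgebra ℂ (Subgroup.centralizer ({u} : Set G)), IsCentralElt y → Commute a (inclH (Subgroup.centralizer ({u} : Set G)) y) := fun y hy => by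
    rw [ha]
    refine Commute.mul_left (hEc _) ?_
    show inclH (Subgroup.centralizer ({u} : Set G)) f * inclH (Subgroup.centralizer ({u} : Set G)) y = inclH (Subgroup.centralizer ({u} : Set G)) y * inclH (Subgroup.centralizer ({u} : Set G)) f
    rw [← map_mul, ← map_mul, (IsCentralElt.commute hy f).eq]
  have hsh : ∀ y : MonoidAlgebra ℂ (Subgroup.centralizer ({u} : Set G)), IsCentralElt y →
      Commute (inclH (Subgroup.centralizer ({u} : Set G)) y) (MonoidAlgebra.single (h : G) (1 : ℂ)) := fun y hy => by
    show inclH (Subgroup.centralizer ({u} : Set G)) y * _ = _ * inclH (Subgroup.centralizer ({u} : Set G)) y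
    rw [← inclH_single h, ← map_mul, ← map_mul, (IsCentralElt.commute hy _).eq]
  have hah : Commute a (MonoidAlgebra.single (h : G) (1 : ℂ)) :=
    Commute.mul_left (hEc _) hcent.symm
  have haX : a * X = a * inclH (Subgroup.centralizer ({u} : Set G)) (1 - m) := by
    rw [hX, mul_sub, haa, map_sub, map_one, mul_sub, mul_one]
  have hqX : a * inclH _ w * X = a := by
    rw [hX, mul_sub, mul_assoc a (inclH _ w) a, ← (hcomm_a w hw).eq, ← mul_assoc, haa,
      mul_assoc a (inclH _ w) (inclH _ m), ← map_mul, ← mul_sub, ← map_sub,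
      show w - w * m = (1 - m) * w by rw [sub_mul, one_mul, (IsCentralElt.commute hmc w).eq],
      hw1, map_one, mul_one]
  have hsupp : ∀ x, X.coeff x ≠ 0 → ¬ Commute u x := by
    intro x hx hc
    apply hx
    have hxC : x ∈ (Subgroup.centralizer ({u} : Set G)) := Subgroup.mem_centralizer_singleton_iff.mpr hc.symm.eq
    have h1 : a.coeff x = m.coeff ⟨x, hxC⟩ := by
      rw [hmdef, ← resH_mul_inclH, coeff_resH]
    rw [hX, MonoidAlgebra.coeff_sub, Finsupp.sub_apply, h1]
    exact sub_eq_zero.mpr (coeff_inclH m ⟨x, hxC⟩).symm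
  have key := chiL_mul_single_eq_zero (p := p) hpM hχ hχS (h := (h : G)) (z := u) huh hu
    (q := a * inclH (Subgroup.centralizer ({u} : Set G)) w) (X := X)
    (SCoeff.mul (SCoeff.mul hES (scoeff_inclH hfS)) (scoeff_inclH hwS))
    (SCoeff.sub (SCoeff.mul hES (scoeff_inclH hfS)) (scoeff_inclH (MCoeff.scoeff hm)))
    (Commute.mul_left hah (hsh w hw)) (Commute.sub_left hah (hsh m hmc))
    (by rw [hqX, haa]) hsupp
  rwa [hqX] at key

/-- The principal idempotent restricts to the principal idempotent of a centralizer modulo `M`. -/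
theorem redA_resH_principal [M.IsMaximal] (hpM : (p : AlgInt) ∈ M) {u : G}
    (hu : ∃ k, orderOf u = p ^ k) :
    redA M (resH (Subgroup.centralizer ({u} : Set G)) (blockIdem (principalBlock M G))) =
      redA M (blockIdem (principalBlock M (Subgroup.centralizer ({u} : Set G)))) := by
  classical
  obtain ⟨hC, hQ⟩ := BlockCount.zpowers_facts u
  obtain ⟨k, hk⟩ := hu
  set C := Subgroup.centralizer ({u} : Set G) with hCdef
  set Q := Subgroup.zpowers u with hQdef
  haveI := Fintype.ofFinite C
  have hP : IsPGroup p Q := IsPGroup.of_card (n := k) (by rw [Nat.card_zpowers, hk])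
  have hCH : Subgroup.centralizer (Q : Set G) ≤ C := hC ▸ le_rfl
  have hHN : C ≤ Subgroup.normalizer (Q : Set G) :=
    hC ▸ Subgroup.centralizer_le_normalizer _
  have hB := isPBlock_principalBlock (M := M) (G := G) hpM
  have hb := isPBlock_principalBlock (M := M) (G := C) hpM
  have hbr : ∀ z : MonoidAlgebra ℂ G, brH Q C z = resH C z := fun z => alg_ext fun x => by
    rw [coeff_brH, coeff_resH, if_pos (hC ▸ x.2)]
  set e := resH C (blockIdem (principalBlock M G)) with he
  set f := blockIdem (principalBlock M C) with hf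
  have heC : IsCentralElt e := isCentralElt_resH (isCentralElt_blockIdem _)
  have hfC : IsCentralElt f := isCentralElt_blockIdem _
  have heS : SCoeff M e := scoeff_resH (scoeff_blockIdem hB)
  have hfS : SCoeff M f := scoeff_blockIdem hb
  have hall : ∀ ξ : IrrCharacter C, MemLocalIdeal M (omega ξ.1 (e - f)) := fun ξ => by
    rw [Blocks.omega_sub, hf, omega_blockIdem]
    split_ifs with hξ
    · obtain ⟨χ, hχ⟩ := block_nonempty hB
      have hi := (BlockCount.isInducedBlock_principal_iff hpM hP hC hQ hb).2 rfl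
      have h1 := IsInducedBlock.omega_sub hi hξ hχ (isCentralElt_blockIdem (principalBlock M G))
        (scoeff_blockIdem hB)
      rw [omega_blockIdem, if_pos hχ] at h1
      exact h1
    · rw [sub_zero]
      by_contra hI
      have hi := isInducedBlock_of_omega hpM hP hCH hHN hQ (isPBlock_blockOf ξ) (mem_blockOf_self ξ)
        hB (by rwa [hbr])
      exact hξ ((BlockCount.isInducedBlock_principal_iff hpM hP hC hQ (isPBlock_blockOf ξ)).1 hi ▸
        mem_blockOf_self ξ)
  have hN := mcoeff_pow_of_omega (IsCentralElt.sub heC hfC) (SCoeff.sub heS hfS) hall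
  rw [← redA_eq_zero_iff (SCoeff.pow (SCoeff.sub heS hfS) _), redA_pow (SCoeff.sub heS hfS)] at hN
  have hee : redA M e * redA M e = redA M e := by
    rw [he, ← hbr, ← redA_brH_mul hpM hP hCH (isCentralElt_blockIdem _) (isCentralElt_blockIdem _)
      (scoeff_blockIdem hB) (scoeff_blockIdem hB), blockIdem_mul_self]
  have hff : redA M f * redA M f = redA M f := by
    rw [← redA_mul hfS hfS, hf, blockIdem_mul_self]
  have hidem : ∀ (x : MonoidAlgebra (AlgInt ⧸ M) C), x * x = x → ∀ k, 1 ≤ k → x ^ k = x :=
    fun x hx k hk => by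
    induction k, hk using Nat.le_induction with
    | base => rw [pow_one]
    | succ k _ ih => rw [pow_succ, ih, hx]
  set N := Fintype.card (IrrCharacter C)
  haveI : CharP (AlgInt ⧸ M) p := Blocks.charP_residue hpM
  haveI : CharP (MonoidAlgebra (AlgInt ⧸ M) C) p :=
    charP_of_injective_algebraMap (algebraMap (AlgInt ⧸ M) _).injective p
  have hpow : redA M (e - f) ^ p ^ N = 0 := pow_eq_zero_of_le (Nat.lt_pow_self hp.out.one_lt).le hN
  have hk1 : 1 ≤ p ^ N := Nat.one_le_pow _ _ hp.out.pos
  rwa [redA_sub heS hfS, sub_pow_char_pow_of_commute (p := p) (n := N)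
    (h := IsCentralElt.commute (isCentralElt_redA heC) _), hidem _ hee _ hk1, hidem _ hff _ hk1,
    sub_eq_zero] at hpow

theorem chiL_mul_blockIdem (χ : IrrCharacter G) {A : Set (IrrCharacter G)} [DecidablePred (· ∈ A)]
    (Y : MonoidAlgebra ℂ G) :
    chiL χ.1 (blockIdem A * Y) = if χ ∈ A then chiL χ.1 Y else 0 := by
  rw [chiL_mul_of_central χ (isCentralElt_blockIdem A), omega_blockIdem]
  split_ifs <;> simp

/-- **The second main theorem**, principal block, idempotent form. -/
theorem sum_principal_blockCoeff [M.IsMaximal] (hpM : (p : AlgInt) ∈ M) {u : G}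
    (hu : ∃ k, orderOf u = p ^ k) (χ : IrrCharacter G)
    (y : Subgroup.centralizer ({u} : Set G)) (hy : ¬ p ∣ orderOf y) :
    (χ ∈ principalBlock M G →
      ∑ᶠ k : Subgroup.centralizer ({u} : Set G),
        blockCoeff (principalBlock M (Subgroup.centralizer ({u} : Set G))) k *
          χ.1 (u * ((k * y : Subgroup.centralizer ({u} : Set G)) : G)) = χ.1 (u * (y : G))) ∧
    (χ ∉ principalBlock M G →
      ∑ᶠ k : Subgroup.centralizer ({u} : Set G),
        blockCoeff (principalBlock M (Subgroup.centralizer ({u} : Set G))) k *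
          χ.1 (u * ((k * y : Subgroup.centralizer ({u} : Set G)) : G)) = 0) := by
  classical
  haveI := Fintype.ofFinite (Subgroup.centralizer ({u} : Set G))
  set uC : (Subgroup.centralizer ({u} : Set G)) := ⟨u, Subgroup.mem_centralizer_singleton_iff.mpr rfl⟩
  set h : (Subgroup.centralizer ({u} : Set G)) := uC * y with hh
  set e := blockIdem (principalBlock M G) with he
  set f := blockIdem (principalBlock M (Subgroup.centralizer ({u} : Set G))) with hf
  have hB := isPBlock_principalBlock (M := M) (G := G) hpM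
  have hb := isPBlock_principalBlock (M := M) (G := (Subgroup.centralizer ({u} : Set G))) hpM
  have hcy : Commute u (y : G) := (Subgroup.mem_centralizer_singleton_iff.mp y.2).symm
  have huh : u ∈ Subgroup.zpowers (h : G) :=
    IsPPart.mem_zpowers (isPPart_mul hcy hu (by rw [IsPRegular, Subgroup.orderOf_coe]; exact hy))
  have hcentral : ∀ z : MonoidAlgebra ℂ (Subgroup.centralizer ({u} : Set G)), IsCentralElt z →
      Commute (MonoidAlgebra.single (h : G) (1 : ℂ)) (inclH (Subgroup.centralizer ({u} : Set G)) z) := fun z hz => by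
    show _ * inclH (Subgroup.centralizer ({u} : Set G)) z = inclH (Subgroup.centralizer ({u} : Set G)) z * _
    rw [← inclH_single h, ← map_mul, ← map_mul, (IsCentralElt.commute hz _).symm.eq]
  have hS : ∀ g, MemLocalRing M (χ.1 g) := fun g =>
    memLocalRing_of_isIntegral (CharInt.isIntegral_char (Char.irr_isCharacter χ) g)
  have hred := redA_resH_principal hpM hu (G := G) (M := M)
  have hfS := scoeff_blockIdem hb
  have heS := scoeff_blockIdem hB
  have hff : f * f = f := blockIdem_mul_self _
  have hee : e * e = e := blockIdem_mul_self _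
  have hrr : redA M f * redA M f = redA M f := by rw [← redA_mul hfS hfS, hff]
  have h1 := chiL_mul_inclH_single_eq_zero hpM (Blocks.irr_classFun χ) hS hu (h := h) huh
    (E := 1 - e) (f := f) (IsCentralElt.sub isCentralElt_one (isCentralElt_blockIdem _))
    (SCoeff.sub scoeff_one heS) (by rw [mul_sub, sub_mul, sub_mul, one_mul, mul_one, hee]; simp)
    (isCentralElt_blockIdem _) hfS hff (by
      have hS1 : SCoeff M (resH (Subgroup.centralizer ({u} : Set G)) (1 - e)) := scoeff_resH (SCoeff.sub scoeff_one heS)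
      rw [← redA_eq_zero_iff (SCoeff.mul hS1 hfS), redA_mul hS1 hfS, resH_sub, resH_one,
        redA_sub scoeff_one (scoeff_resH heS), redA_one, hred, sub_mul, one_mul, hrr, sub_self])
    (hcentral f (isCentralElt_blockIdem _))
  have h2 := chiL_mul_inclH_single_eq_zero hpM (Blocks.irr_classFun χ) hS hu (h := h) huh
    (E := e) (f := 1 - f) (isCentralElt_blockIdem _) heS hee
    (IsCentralElt.sub isCentralElt_one (isCentralElt_blockIdem _)) (SCoeff.sub scoeff_one hfS)
    (by rw [mul_sub, sub_mul, sub_mul, one_mul, mul_one, hff]; simp) (by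
      have hS1 : SCoeff M (resH (Subgroup.centralizer ({u} : Set G)) e) := scoeff_resH heS
      have hS2 : SCoeff M (1 - f) := SCoeff.sub scoeff_one hfS
      rw [← redA_eq_zero_iff (SCoeff.mul hS1 hS2), redA_mul hS1 hS2,
        redA_sub scoeff_one hfS, redA_one, hred, mul_sub, mul_one, hrr, sub_self])
    (hcentral (1 - f) (IsCentralElt.sub isCentralElt_one (isCentralElt_blockIdem _)))
  -- the left-hand side is the value on `f h`
  have hL : ∑ᶠ k : (Subgroup.centralizer ({u} : Set G)), blockCoeff (principalBlock M (Subgroup.centralizer ({u} : Set G))) k * χ.1 (u * ((k * y : (Subgroup.centralizer ({u} : Set G))) : G)) =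
      chiL χ.1 (inclH (Subgroup.centralizer ({u} : Set G)) f * MonoidAlgebra.single (h : G) 1) := by
    rw [finsum_eq_sum_of_fintype]
    conv_rhs => rw [hf, eq_sum_single (blockIdem (principalBlock M (Subgroup.centralizer ({u} : Set G)))), map_sum, Finset.sum_mul,
      chiL_sum]
    refine Finset.sum_congr rfl fun k _ => ?_
    rw [inclH_single, MonoidAlgebra.single_mul_single, mul_one, chiL_single, coeff_blockIdem]
    congr 2
    simp only [hh, uC, Subgroup.coe_mul]
    have hk : (k : G) * u = u * (k : G) := Subgroup.mem_centralizer_singleton_iff.mp k.2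
    rw [← mul_assoc, ← mul_assoc, hk]
  rw [hL]
  refine ⟨fun hχ => ?_, fun hχ => ?_⟩
  · have e2 : chiL χ.1 ((1 - inclH (Subgroup.centralizer ({u} : Set G)) f) * MonoidAlgebra.single (h : G) 1) = 0 := by
      rw [← h2, mul_assoc, chiL_mul_blockIdem, if_pos hχ, map_sub, map_one]
    rw [sub_mul, one_mul, Blocks.chiL_sub, sub_eq_zero] at e2
    rw [← e2, chiL_single, one_mul]
    rfl
  · rw [← h1, mul_assoc (1 - e), sub_mul (1 : MonoidAlgebra ℂ G), one_mul, Blocks.chiL_sub,
      he, chiL_mul_blockIdem, if_neg hχ, sub_zero]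

theorem secondPrincipal : SecondPrincipal.{u} := by
  intro G _ _ M hM u hu χ y hy
  haveI : Fact (Nat.Prime 2) := ⟨Nat.prime_two⟩
  haveI := hM.2.1
  exact sum_principal_blockCoeff hM.2.2 hu χ y
    (fun h2 => Nat.not_even_iff_odd.mpr hy (even_iff_two_dvd.mpr h2))

end Cfsg.Agent.ZStar
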