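import Cfsg.Agent.Lib.ZStar.SectionAverage
import Cfsg.Agent.Lib.ZStar.SecondMain
import Cfsg.Agent.Lib.Transfer.Burnside
import Cfsg.Agent.Lib.Char.Generalized
import Cfsg.Agent.Lib.BlockCount.Criterion
import Mathlib.GroupTheory.SpecificGroups.KleinFour

/-!
# The principal 2-block of a group with Klein four Sylow 2-subgroups and one class of involutions
-/

set_option linter.style.haveILetI false

namespace Cfsg.Agent.ZStar

open Cfsg
open scoped ComplexConjugate

universe u

variable {G : Type u} [Group G] [Fintype G] {M : Ideal AlgInt}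

/-- Klein four Sylow 2-subgroups, one class of involutions, seen from an involution. -/
structure InvData (t : G) : Prop where
  ord : orderOf t = 2
  compl : ∃ N : Subgroup G, (∀ v, v ∈ N ↔ Commute t v ∧ Odd (orderOf v)) ∧
    Nat.card (Subgroup.centralizer ({t} : Set G)) = 4 * Nat.card N
  isConj_inv : ∀ s : G, orderOf s = 2 → IsConj t s
  two_elem : ∀ g : G, (∃ k : ℕ, orderOf g = 2 ^ k) → g = 1 ∨ orderOf g = 2

/-- In a group with Klein four Sylow 2-subgroup an element normalizing it and fixing one of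
its involutions centralizes it. -/
theorem commute_of_normalizer_fix {H : Type*} [Group H] [Finite H] {P : Sylow 2 H}
    (hP : IsKleinFour (P : Subgroup H)) {t n : H} (htP : t ∈ P) (ht1 : t ≠ 1) (htn : Commute n t)
    (hn : n ∈ Subgroup.normalizer (P : Set H)) : ∀ a ∈ P, Commute n a := by
  haveI : Fact (Nat.Prime 2) := ⟨Nat.prime_two⟩
  haveI := hP
  have h2 : ∀ a ∈ P, a * a = 1 := fun a ha => by
    simpa using congrArg Subtype.val (IsKleinFour.mul_self (⟨a, ha⟩ : (P : Subgroup H)))
  have hcomm : ∀ a ∈ P, ∀ b ∈ P, Commute a b := fun a ha b hb => by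
    have hai : a⁻¹ = a := inv_eq_of_mul_eq_one_right (h2 a ha)
    have hbi : b⁻¹ = b := inv_eq_of_mul_eq_one_right (h2 b hb)
    have hab : (a * b)⁻¹ = a * b := inv_eq_of_mul_eq_one_right (h2 _ (mul_mem ha hb))
    show a * b = b * a
    rw [← hab, mul_inv_rev, hai, hbi]
  have hsq : ∀ a ∈ P, Commute (n * n) a := by
    intro a ha
    by_cases ha1 : a = 1
    · rw [ha1]; exact Commute.one_right _
    by_cases hat : a = t
    · rw [hat]; exact htn.mul_left htn
    have hmem : n * a * n⁻¹ ∈ P := (Subgroup.mem_normalizer_iff.mp hn a).mp ha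
    have hfour : (⟨n * a * n⁻¹, hmem⟩ : (P : Subgroup H)) = 1 ∨
        (⟨n * a * n⁻¹, hmem⟩ : (P : Subgroup H)) = ⟨t, htP⟩ ∨
        (⟨n * a * n⁻¹, hmem⟩ : (P : Subgroup H)) = ⟨a, ha⟩ ∨
        (⟨n * a * n⁻¹, hmem⟩ : (P : Subgroup H)) = ⟨a, ha⟩ * ⟨t, htP⟩ := by
      classical
      haveI := Fintype.ofFinite (P : Subgroup H)
      have h := IsKleinFour.eq_finset_univ (x := (⟨a, ha⟩ : (P : Subgroup H))) (y := ⟨t, htP⟩)
        (fun h => ha1 (congrArg Subtype.val h)) (fun h => ht1 (congrArg Subtype.val h))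
        (fun h => hat (congrArg Subtype.val h))
      have h' := h.symm ▸ Finset.mem_univ (⟨n * a * n⁻¹, hmem⟩ : (P : Subgroup H))
      simp only [Finset.mem_insert, Finset.mem_singleton] at h'
      tauto
    rcases hfour with h | h | h | h <;> replace h := congrArg Subtype.val h <;>
      simp only [Subgroup.coe_one, Subgroup.coe_mul] at h
    · exact absurd (conj_eq_one_iff.mp h) ha1
    · refine absurd ?_ hat
      have : n * a * n⁻¹ = n * t * n⁻¹ := by rw [h, htn.eq, mul_inv_cancel_right]
      exact mul_left_cancel (mul_right_cancel this)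
    · have : Commute n a := mul_inv_eq_iff_eq_mul.mp h
      exact this.mul_left this
    · have h' : n * a = a * t * n := mul_inv_eq_iff_eq_mul.mp h
      show n * n * a = a * (n * n)
      calc n * n * a = n * (n * a) := mul_assoc _ _ _
        _ = n * (a * t * n) := by rw [h']
        _ = n * a * (t * n) := by simp only [mul_assoc]
        _ = a * (t * (n * t)) * n := by rw [h']; simp only [mul_assoc]
        _ = a * (t * t * n) * n := by rw [htn.eq]; simp only [mul_assoc]
        _ = a * (n * n) := by rw [h2 t htP, one_mul, mul_assoc]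
  obtain ⟨k, o, ho, hk⟩ := Nat.exists_eq_pow_mul_and_not_dvd (n := orderOf n)
    (orderOf_pos n).ne' 2 (by norm_num)
  obtain ⟨j, hj⟩ := Nat.not_even_iff_odd.mp (fun he => ho (even_iff_two_dvd.mp he))
  have hm2 : IsPGroup 2 (Subgroup.zpowers (n ^ o)) := by
    refine IsPGroup.of_card (n := k) ?_
    rw [Nat.card_zpowers, orderOf_pow, hk,
      Nat.gcd_eq_right (Dvd.intro_left _ rfl), Nat.mul_div_cancel _ (by omega)]
  have hsup : IsPGroup 2 ((P : Subgroup H) ⊔ Subgroup.zpowers (n ^ o) : Subgroup H) :=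
    P.2.to_sup_of_normal_left' hm2 (Subgroup.zpowers_le.mpr (pow_mem hn o))
  have hPeq := P.3 hsup le_sup_left
  have hnoP : n ^ o ∈ P := by
    have : n ^ o ∈ (P : Subgroup H) ⊔ Subgroup.zpowers (n ^ o) :=
      Subgroup.mem_sup_right (Subgroup.mem_zpowers _)
    rwa [hPeq] at this
  intro a ha
  have e : n = ((n * n) ^ j)⁻¹ * n ^ o := by
    rw [hj, pow_succ, pow_mul, pow_two, inv_mul_cancel_left]
  rw [e]
  exact ((hsq a ha).pow_left j).inv_left.mul_left (hcomm _ hnoP a ha)

theorem exists_invData (P : Sylow 2 G) (hP : IsKleinFour (P : Subgroup G))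
    (hone : ∀ s t : G, orderOf s = 2 → orderOf t = 2 → IsConj s t) :
    ∃ t : G, t ∈ P ∧ InvData t := by
  classical
  haveI : Fact (Nat.Prime 2) := ⟨Nat.prime_two⟩
  haveI := hP
  have hcard : Nat.card (P : Subgroup G) = 4 := IsKleinFour.card_four
  obtain ⟨t₀, ht₀⟩ := exists_prime_orderOf_dvd_card' (G := (P : Subgroup G)) 2
    (by rw [hcard]; norm_num)
  set t : G := (t₀ : G) with htdef
  have htP : t ∈ P := t₀.2
  have hto : orderOf t = 2 := by rw [htdef, Subgroup.orderOf_coe]; exact ht₀
  have ht1 : t ≠ 1 := fun h => by rw [h, orderOf_one] at hto; norm_num at hto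
  refine ⟨t, htP, hto, ?_, fun s hs => hone t s hto hs, ?_⟩
  · have hle : (P : Subgroup G) ≤ Subgroup.centralizer ({t} : Set G) := fun a ha =>
      Subgroup.mem_centralizer_singleton_iff.mpr (by
        have e1 : a * a = 1 := by
          simpa using congrArg Subtype.val (IsKleinFour.mul_self (⟨a, ha⟩ : (P : Subgroup G)))
        have e2 : t * t = 1 := by
          simpa using congrArg Subtype.val (IsKleinFour.mul_self (⟨t, htP⟩ : (P : Subgroup G)))
        have e3 : (a * t) * (a * t) = 1 := by
          simpa using congrArg Subtype.val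
            (IsKleinFour.mul_self (⟨a, ha⟩ * ⟨t, htP⟩ : (P : Subgroup G)))
        rw [← inv_eq_of_mul_eq_one_right e3, mul_inv_rev, inv_eq_of_mul_eq_one_right e1,
          inv_eq_of_mul_eq_one_right e2])
    set Q : Sylow 2 (Subgroup.centralizer ({t} : Set G)) := P.subtype hle with hQdef
    have hQmem : ∀ x : Subgroup.centralizer ({t} : Set G), x ∈ Q ↔ (x : G) ∈ P := fun x => Iff.rfl
    have hN : Subgroup.normalizer (Q : Set (Subgroup.centralizer ({t} : Set G))) ≤
        Subgroup.centralizer (Q : Set (Subgroup.centralizer ({t} : Set G))) := by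
      intro n hn
      rw [Subgroup.mem_centralizer_iff]
      intro a ha
      refine Subtype.ext ?_
      show (a : G) * n = n * a
      refine (commute_of_normalizer_fix hP htP ht1 (Subgroup.mem_centralizer_singleton_iff.mp n.2)
        ?_ (a : G) ha).symm.eq
      refine Subgroup.mem_normalizer_iff.mpr ?_
      intro x
      constructor
      · intro hx
        exact (Subgroup.mem_normalizer_iff.mp hn ⟨x, hle hx⟩).mp hx
      · intro hx
        have hx' : x ∈ Subgroup.centralizer ({t} : Set G) := by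
          have := mul_mem (mul_mem (inv_mem n.2) (hle hx)) n.2
          simpa [mul_assoc] using this
        exact (Subgroup.mem_normalizer_iff.mp hn ⟨x, hx'⟩).mpr hx
    obtain ⟨Q', N', hN'n, hcompl⟩ := Transfer.hasNormalPComplement_of_normalizer_le_centralizer Q hN
    haveI := hN'n
    have hQ' : Nat.card (Q' : Subgroup (Subgroup.centralizer ({t} : Set G))) = 4 := by
      rw [Q'.card_eq_multiplicity, ← Q.card_eq_multiplicity, hQdef, Sylow.coe_subtype,
        Nat.card_congr (Subgroup.subgroupOfEquivOfLe hle).toEquiv, hcard]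
    have hidx : N'.index = 4 := by rw [hcompl.symm.index_eq_card, hQ']
    have hNodd : Odd (Nat.card N') := by
      rw [← Nat.not_even_iff_odd, even_iff_two_dvd, ← hcompl.index_eq_card]
      exact Q'.not_dvd_index
    refine ⟨N'.map (Subgroup.centralizer ({t} : Set G)).subtype, fun v => ⟨?_, ?_⟩, ?_⟩
    · rintro ⟨w, hw, rfl⟩
      refine ⟨(Subgroup.mem_centralizer_singleton_iff.mp w.2).symm, ?_⟩
      show Odd (orderOf (w : G))
      rw [Subgroup.orderOf_coe]
      exact hNodd.of_dvd_nat (Subgroup.orderOf_dvd_natCard N' hw)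
    · rintro ⟨hc, ho⟩
      set w : Subgroup.centralizer ({t} : Set G) :=
        ⟨v, Subgroup.mem_centralizer_singleton_iff.mpr hc.symm.eq⟩ with hwdef
      refine ⟨w, ?_, rfl⟩
      have e1 : orderOf (w : Subgroup.centralizer ({t} : Set G) ⧸ N') ∣ orderOf w :=
        orderOf_map_dvd (QuotientGroup.mk' N') w
      have e2 : orderOf (w : Subgroup.centralizer ({t} : Set G) ⧸ N') ∣ 2 ^ 2 := by
        rw [show 2 ^ 2 = N'.index by rw [hidx]; norm_num, Subgroup.index_eq_card]
        exact orderOf_dvd_natCard _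
      have e3 : Nat.Coprime (2 ^ 2) (orderOf w) :=
        Nat.Coprime.pow_left _ (Nat.coprime_two_left.mpr (by rw [← Subgroup.orderOf_coe]; exact ho))
      exact (QuotientGroup.eq_one_iff w).1
        (orderOf_eq_one_iff.1 (Nat.eq_one_of_dvd_coprimes e3 e2 e1))
    · rw [Subgroup.card_map_of_injective (Subtype.val_injective), ← hidx,
        Subgroup.index_mul_card]
  · rintro g ⟨k, hk⟩
    have hg : IsPGroup 2 (Subgroup.zpowers g) :=
      IsPGroup.of_card (n := k) (by rw [Nat.card_zpowers, hk])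
    obtain ⟨R, hR⟩ := hg.exists_le_sylow
    have e1 := IsKleinFour.mul_self ((Sylow.equiv R P) ⟨g, hR (Subgroup.mem_zpowers g)⟩)
    rw [← map_mul, MulEquiv.map_eq_one_iff] at e1
    have e2 : g * g = 1 := congrArg Subtype.val e1
    have hd : orderOf g ∣ 2 := orderOf_dvd_of_pow_eq_one (by rw [pow_two, e2])
    rcases (Nat.dvd_prime Nat.prime_two).mp hd with h | h
    · exact Or.inl (orderOf_eq_one_iff.mp h)
    · exact Or.inr h

namespace InvData

variable {t : G} (ht : InvData t)
include ht

theorem two_pow : ∃ k : ℕ, orderOf t = 2 ^ k := ⟨1, by rw [ht.ord]; norm_num⟩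

theorem four_mul_card : 4 * ((twoSection t).card : ℂ) = (Nat.card G : ℂ) := by
  classical
  obtain ⟨N, hN, hc⟩ := ht.compl
  have h := sum_twoSection ht.two_pow (f := fun _ => (1 : ℂ)) (fun _ _ => rfl)
  simp only [Finset.sum_const, nsmul_eq_mul, mul_one] at h
  have hcard : (oddCentralizing t).card = Nat.card N := by
    rw [Nat.card_eq_fintype_card]
    exact (Fintype.card_of_subtype _ fun v => by rw [mem_oddCentralizing, hN]).symm
  have h2 := Subgroup.card_mul_index (Subgroup.centralizer ({t} : Set G))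
  rw [hc] at h2
  rw [h, hcard, ← h2]
  push_cast
  ring

/-- The elements outside the section are those of odd order. -/
theorem mem_twoSection_iff {g : G} : g ∈ twoSection t ↔ 2 ∣ orderOf g := by
  haveI : Fact (Nat.Prime 2) := ⟨Nat.prime_two⟩
  obtain ⟨x, hx⟩ := Blocks.exists_isPPart (p := 2) g
  have hdvd : orderOf x ∣ orderOf g := by
    obtain ⟨i, hi⟩ := Blocks.IsPPart.mem_zpowers hx
    rw [← hi]
    exact orderOf_dvd_of_pow_eq_one (by rw [← zpow_natCast, ← zpow_mul, mul_comm, zpow_mul, zpow_natCast, pow_orderOf_eq_one, one_zpow])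
  constructor
  · intro h
    obtain ⟨s, hs, hp⟩ := mem_twoSection.mp h
    obtain rfl := Blocks.IsPPart.unique hx hp
    obtain ⟨c, hc⟩ := isConj_iff.mp hs
    rwa [← hc, ← MulAut.conj_apply, MulEquiv.orderOf_eq, ht.ord] at hdvd
  · intro h
    obtain ⟨y, hxy, hc, hk, hy⟩ := hx
    rcases ht.two_elem x hk with h1 | h1
    · rw [h1, one_mul] at hxy
      exact absurd (hxy ▸ h) hy
    · exact mem_twoSection.mpr ⟨x, ht.isConj_inv x h1, y, hxy, hc, hk, hy⟩

theorem exists_values {χ : G → ℂ} (hχ : IsCharacter G χ) : ∃ x : ℤ, χ t = x := by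
  obtain ⟨n, μ, -, hμ, hk⟩ := CharInt.exists_roots hχ t
  rw [ht.ord] at hμ
  have hm : ∀ i, ∃ r : ℤ, μ i = r := fun i => by
    rcases sq_eq_one_iff.mp (hμ i) with h | h
    · exact ⟨1, by simp [h]⟩
    · exact ⟨-1, by simp [h]⟩
  choose r hr using hm
  exact ⟨∑ i, r i, by simpa [Finset.sum_congr rfl fun i _ => hr i] using hk 1⟩

theorem sum_section_apply (hS : SecondPrincipal.{u}) (hM : IsPModular 2 M) (χ : IrrCharacter G) :
    (χ ∈ principalBlock M G → ∑ g ∈ twoSection t, χ.1 g = ((twoSection t).card : ℂ) * χ.1 t) ∧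
      (χ ∉ principalBlock M G → ∑ g ∈ twoSection t, χ.1 g = 0) := by
  obtain ⟨N, hN, -⟩ := ht.compl
  have h := sum_twoSection ht.two_pow (Blocks.irr_classFun χ)
  have h1 := sum_twoSection ht.two_pow (f := fun _ => (1 : ℂ)) (fun _ _ => rfl)
  simp only [Finset.sum_const, nsmul_eq_mul, mul_one] at h1
  obtain ⟨e1, e2⟩ := sum_oddCentralizing_apply hS hM ht.two_pow hN χ
  refine ⟨fun hχ => ?_, fun hχ => ?_⟩
  · rw [h, e1 hχ, h1, mul_assoc]
  · rw [h, e2 hχ, mul_zero]

theorem ne_zero_of_mem (hS : SecondPrincipal.{u}) (hM : IsPModular 2 M) {χ : IrrCharacter G}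
    (hχ : χ ∈ principalBlock M G) : χ.1 t ≠ 0 := by
  classical
  haveI : Fact (Nat.Prime 2) := ⟨Nat.prime_two⟩
  intro h0
  by_cases h1 : χ = Char.trivialChar G
  · rw [h1] at h0
    simp [Char.trivialChar] at h0
  refine BlockCount.pregSum_ne_zero hM hχ ?_
  have hz : ∑ g ∈ twoSection t, χ.1 g = 0 := by rw [(ht.sum_section_apply hS hM χ).1 hχ, h0, mul_zero]
  have hs : Finset.univ.filter (fun g : G => ¬ 2 ∣ orderOf g) = (twoSection t)ᶜ := by
    ext g; simp [ht.mem_twoSection_iff]
  have hall : ∑ g : G, χ.1 g = 0 := by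
    have := Char.classInner_irr_of_ne χ.2 (Char.trivialChar G).2 (fun he => h1 (Subtype.ext he))
    simpa [classInner, Char.trivialChar, Char.card_ne_zero] using this
  rw [BlockCount.pregSum, hs]
  have := Finset.sum_add_sum_compl (twoSection t) χ.1
  rw [hz, zero_add, hall] at this
  exact this

/-- Four times the indicator of the section. -/
noncomputable def phi (_ht : InvData t) : G → ℂ := fun g => by
  classical exact if g ∈ twoSection t then 4 else 0

theorem isClassFunction_phi : IsClassFunction G ht.phi := by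
  intro g c
  have h : c * g * c⁻¹ ∈ twoSection t ↔ g ∈ twoSection t :=
    ⟨fun h => by simpa [mul_assoc] using isPPart_conj_mem h c⁻¹, fun h => isPPart_conj_mem h c⟩
  by_cases hg : g ∈ twoSection t <;> simp [phi, hg, h]

theorem classInner_phi (f : G → ℂ) :
    classInner f ht.phi = (Nat.card G : ℂ)⁻¹ * (4 * ∑ g ∈ twoSection t, f g) := by
  classical
  rw [classInner]
  congr 1
  rw [Finset.mul_sum]
  have hc : ∀ g, f g * conj (ht.phi g) = if g ∈ twoSection t then 4 * f g else 0 := fun g => by
    simp only [phi]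
    split_ifs <;> simp [mul_comm, map_ofNat]
  simp only [hc, Finset.sum_ite_mem, Finset.univ_inter]

theorem exists_weights (hS : SecondPrincipal.{u}) (hM : IsPModular 2 M) :
    ∃ w : IrrCharacter G → ℤ,
      (∀ χ, χ ∈ principalBlock M G → χ.1 t = (w χ : ℂ)) ∧
      (∀ χ, χ ∈ principalBlock M G ↔ w χ ≠ 0) ∧
      (∀ y : G, Odd (orderOf y) → ∑ χ, (w χ : ℂ) * χ.1 y = 0) ∧
      (∑ χ, w χ * w χ = 4) ∧ w (Char.trivialChar G) = 1 := by
  classical
  have hmain : ∀ χ : IrrCharacter G,
      (χ ∈ principalBlock M G → classInner χ.1 ht.phi = χ.1 t) ∧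
        (χ ∉ principalBlock M G → classInner χ.1 ht.phi = 0) := by
    intro χ
    obtain ⟨e1, e2⟩ := ht.sum_section_apply hS hM χ
    refine ⟨fun h => ?_, fun h => ?_⟩
    · rw [ht.classInner_phi, e1 h, ← mul_assoc 4, ht.four_mul_card, ← mul_assoc,
        inv_mul_cancel₀ Char.card_ne_zero, one_mul]
    · rw [ht.classInner_phi, e2 h, mul_zero, mul_zero]
  have hint : ∀ χ : IrrCharacter G, ∃ k : ℤ, classInner χ.1 ht.phi = (k : ℂ) := by
    intro χ
    by_cases h : χ ∈ principalBlock M G
    · obtain ⟨x, hx⟩ := ht.exists_values (Char.irr_isCharacter χ)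
      exact ⟨x, by rw [(hmain χ).1 h, hx]⟩
    · exact ⟨0, by rw [(hmain χ).2 h, Int.cast_zero]⟩
  choose w hw using hint
  have hwB : ∀ χ, χ ∈ principalBlock M G → χ.1 t = (w χ : ℂ) := fun χ h =>
    ((hmain χ).1 h).symm.trans (hw χ)
  have hphi : ht.phi = ∑ χ, (w χ : ℂ) • χ.1 := by
    conv_lhs => rw [Char.eq_sum_classInner_smul ht.isClassFunction_phi]
    refine Finset.sum_congr rfl fun χ _ => ?_
    rw [← Char.conj_classInner χ.1 ht.phi, hw, map_intCast]
  refine ⟨w, hwB, fun χ => ⟨fun h h0 => ?_, fun h => ?_⟩, fun y hy => ?_, ?_, ?_⟩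
  · refine ht.ne_zero_of_mem hS hM h ?_
    rw [hwB χ h, h0, Int.cast_zero]
  · by_contra hn
    have := (hw χ).symm.trans ((hmain χ).2 hn)
    exact h (by exact_mod_cast this)
  · have e := congrFun hphi y
    have hn : y ∉ twoSection t := by
      rw [ht.mem_twoSection_iff]
      exact not_two_dvd_iff_odd.mpr hy
    simp only [phi, hn, if_false, Finset.sum_apply, Pi.smul_apply, smul_eq_mul] at e
    exact e.symm
  · have h := Char.IsGeneralizedCharacter.classInner_self_eq_sum hphi
    have h2 : classInner ht.phi ht.phi = 4 := by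
      rw [ht.classInner_phi, Finset.sum_congr rfl (g := fun _ => (4 : ℂ)) (fun g hg => by
        simp [phi, hg]), Finset.sum_const, nsmul_eq_mul, mul_comm _ (4 : ℂ), ht.four_mul_card]
      field_simp [Char.card_ne_zero (G := G)]
    rw [h2] at h
    have : (∑ χ, w χ ^ 2 : ℤ) = 4 := by exact_mod_cast h.symm
    simpa [pow_two] using this
  · haveI := hM.2.1
    have h := hwB (Char.trivialChar G) (Blocks.mem_blockOf_self (Char.trivialChar G))
    have h' : ((w (Char.trivialChar G) : ℤ) : ℂ) = ((1 : ℤ) : ℂ) := by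
      rw [← h]; simp [Char.trivialChar]
    exact_mod_cast h'

/-- The congruence for the degree. -/
theorem four_dvd_degree_sub (P : Sylow 2 G) (hP : IsKleinFour (P : Subgroup G))
    (χ : IrrCharacter G) {x : ℤ} (hx : χ.1 t = x) :
    (4 : ℤ) ∣ (charDegree χ.1 : ℤ) - x := by
  classical
  haveI := hP
  haveI := Fintype.ofFinite (P : Subgroup G)
  obtain ⟨k, hk⟩ := Char.IsGeneralizedCharacter.exists_int_classInner
    (Char.IsCharacter.isGeneralized (Char.IsCharacter.comp (Char.irr_isCharacter χ)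
      (P : Subgroup G).subtype)) (Char.irr_isGeneralized (Char.trivialChar (P : Subgroup G)))
  have hcard : Fintype.card (P : Subgroup G) = 4 := by
    rw [← Nat.card_eq_fintype_card]; exact IsKleinFour.card_four
  have hval : ∀ a : (P : Subgroup G), a ≠ 1 → χ.1 (a : G) = x := fun a ha => by
    have ho : orderOf (a : G) = 2 := by
      rw [Subgroup.orderOf_coe]
      exact orderOf_eq_prime (by rw [pow_two, IsKleinFour.mul_self]) ha
    obtain ⟨c, hc⟩ := isConj_iff.mp (ht.isConj_inv _ ho)
    rw [← hc, Blocks.irr_classFun χ, hx]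
  have hsum : ∑ a : (P : Subgroup G), χ.1 (a : G) = (charDegree χ.1 : ℂ) + 3 * x := by
    rw [← Finset.add_sum_erase _ _ (Finset.mem_univ (1 : (P : Subgroup G))),
      Finset.sum_congr rfl (g := fun _ => (x : ℂ)) (fun a ha => hval a (Finset.ne_of_mem_erase ha)),
      Finset.sum_const, Finset.card_erase_of_mem (Finset.mem_univ _), Finset.card_univ, hcard,
      Subgroup.coe_one, ← Char.charDegree_cast]
    simp [nsmul_eq_mul]
  rw [classInner, Nat.card_eq_fintype_card, hcard] at hk
  simp only [Function.comp, Subgroup.coe_subtype, Char.trivialChar, map_one, mul_one] at hk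
  rw [hsum] at hk
  have hk' : (charDegree χ.1 : ℤ) + 3 * x = 4 * k := by
    have : (((charDegree χ.1 : ℤ) + 3 * x : ℤ) : ℂ) = ((4 * k : ℤ) : ℂ) := by
      push_cast at hk ⊢
      linear_combination 4 * hk
    exact_mod_cast this
  exact ⟨k - x, by linarith⟩

end InvData

end Cfsg.Agent.ZStar
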