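import Cfsg.Agent.Lib.ZStar.Induction
import Cfsg.Agent.Lib.Blocks.Core
import Cfsg.Prelude.Def_Local

/-!
# The Z*-theorem: the principal 2-block as a principal set
-/

set_option linter.style.haveILetI false

namespace Cfsg.Agent.ZStar

open Cfsg
open scoped ComplexConjugate

universe u

/-- Characters of the principal 2-block are constant on the odd parts in the core of the
centralizer of an involution. -/
def PrincipalConst : Prop :=
  ∀ (G : Type u) [Group G] [Finite G] (M : Ideal AlgInt), IsPModular 2 M →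
    ∀ u : G, orderOf u = 2 → ∀ v ∈ centralizerPPrimeCore 2 u,
      ∀ χ : IrrCharacter G, χ ∈ principalBlock M G → χ.1 (u * v) = χ.1 u

theorem exists_isPModular_two : ∃ M : Ideal AlgInt, IsPModular 2 M := by
  obtain ⟨M, hM, hle⟩ := Ideal.exists_le_maximal (Ideal.span {((2 : ℕ) : AlgInt)}) (fun h => by
    rw [Ideal.span_singleton_eq_top] at h
    obtain ⟨c, hc⟩ := h.exists_left_inv
    have hc' : (c : ℂ) * 2 = 1 := by
      have h2 : (((2 : ℕ) : AlgInt) : ℂ) = 2 := map_natCast (algebraMap AlgInt ℂ) 2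
      rw [← h2]
      exact congrArg (fun t : AlgInt => (t : ℂ)) hc
    have hi : IsIntegral ℤ ((1 / 2 : ℚ) : ℂ) := by
      have : ((1 / 2 : ℚ) : ℂ) = (c : ℂ) := by
        push_cast
        linear_combination (-1 / 2 : ℂ) * hc'
      rw [this]
      exact c.2
    obtain ⟨n, hn⟩ := IsIntegrallyClosed.isIntegral_iff.mp
      ((isIntegral_algebraMap_iff (A := ℚ) (B := ℂ) (algebraMap ℚ ℂ).injective).mp hi)
    have hn' : (n : ℚ) * 2 = 1 := by
      rw [show (n : ℚ) = 1 / 2 from hn]
      norm_num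
    norm_cast at hn'
    omega)
  exact ⟨M, Nat.prime_two, hM, hle (Ideal.mem_span_singleton_self _)⟩

theorem hasPrincipalSets_of_const (hC : PrincipalConst.{u}) : HasPrincipalSets.{u} := by
  intro G _ _
  classical
  obtain ⟨M, hM⟩ := exists_isPModular_two
  obtain ⟨-, hmax, hpM⟩ := id hM
  haveI := hmax
  haveI : Fact (Nat.Prime 2) := ⟨Nat.prime_two⟩
  refine ⟨Finset.univ.filter (· ∈ principalBlock M G), ⟨?_, ?_, ?_⟩⟩
  · exact Finset.mem_filter.mpr ⟨Finset.mem_univ _, Blocks.mem_blockOf_self (Char.trivialChar G)⟩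
  · exact fun χ hχ u hu v hv => hC G M hM u hu v hv χ (Finset.mem_filter.mp hχ).2
  · intro s hs
    refine Blocks.weak_orthogonality hpM (Blocks.isPBlock_principalBlock hpM) (x := 1) ?_ ?_
    · simp [IsPRegular]
    · simp [IsPRegular, hs]

/-- The Z*-theorem. -/
def ZStarThm : Prop :=
  ∀ (G : Type u) [Group G] [Finite G] (z : G), IsIsolatedInvolution z → InZStar 2 z

theorem zStarThm_of (hC : PrincipalConst.{u}) (hR : RankOneCase.{u}) : ZStarThm.{u} :=
  fun _ _ _ _ hz => inZStar_of_steps (hasPrincipalSets_of_const hC) hR hz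

end Cfsg.Agent.ZStar
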