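import Cfsg.Agent.Lib.ZStar.HomocyclicLinear
import Cfsg.Agent.Lib.ZStar.SecondMain
import Cfsg.Agent.Lib.ZStar.Assemble
import Cfsg.Agent.Lib.SmallSimple.ThreeInvolutions
import Cfsg.Agent.Lib.Transfer.Burnside

/-!
# Brauer's theorem on homocyclic Sylow 2-subgroups of rank two
-/

set_option linter.style.haveILetI false

namespace Cfsg.Agent.ZStar

open Cfsg
open Subgroup (normalizer centralizer)

universe u

variable {G : Type u} [Group G] [Fintype G]

/-- The automorphism induced by an element of the normalizer. -/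
def conjOfNormalizer (P : Subgroup G) (n : normalizer (P : Set G)) : P ≃* P where
  toFun x := ⟨(n : G) * x * (n : G)⁻¹, (Subgroup.mem_normalizer_iff.mp n.2 x).mp x.2⟩
  invFun x := ⟨(n : G)⁻¹ * x * n, (Subgroup.mem_normalizer_iff''.mp n.2 x).mp x.2⟩
  left_inv x := Subtype.ext (by show (n : G)⁻¹ * ((n : G) * x * (n : G)⁻¹) * n = x; group)
  right_inv x := Subtype.ext (by show (n : G) * ((n : G)⁻¹ * x * n) * (n : G)⁻¹ = x; group)
  map_mul' x y := Subtype.ext (by
    show (n : G) * ((x : G) * y) * (n : G)⁻¹ = (n : G) * x * (n : G)⁻¹ * ((n : G) * y * (n : G)⁻¹)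
    group)

theorem exists_threeData (P : Sylow 2 G)
    (hab : ∀ x ∈ (P : Subgroup G), ∀ y ∈ (P : Subgroup G), x * y = y * x)
    (h3 : Nat.card {x : G // x ∈ (P : Subgroup G) ∧ orderOf x = 2} = 3)
    (hcard : ∃ k : ℕ, 4 ≤ k ∧ Nat.card (P : Subgroup G) = 2 ^ k)
    (hne : (centralizer ((P : Subgroup G) : Set G)).relIndex
      (normalizer ((P : Subgroup G) : Set G)) ≠ 1) :
    ∃ σ : (P : Subgroup G) ≃* (P : Subgroup G), ThreeData (P : Subgroup G) σ := by
  classical
  haveI : Fact (Nat.Prime 2) := ⟨Nat.prime_two⟩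
  obtain ⟨hor, hrest⟩ := SmallSimple.automizer_three P hab h3
  obtain ⟨-, hfpf⟩ := hrest hne
  set N := normalizer ((P : Subgroup G) : Set G) with hN
  set C' := (centralizer ((P : Subgroup G) : Set G)).subgroupOf N with hC'
  haveI : C'.Normal := by
    rw [hC', hN, ← Subgroup.normalizerMonoidHom_ker]
    exact MonoidHom.normal_ker _
  have hidx : Nat.card (N ⧸ C') = 3 := by
    rw [← Subgroup.index_eq_card]
    exact hor.resolve_left hne
  haveI := Fintype.ofFinite (N ⧸ C')
  obtain ⟨q, hq⟩ : ∃ q : N ⧸ C', q ≠ 1 := by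
    haveI : Nontrivial (N ⧸ C') := Finite.one_lt_card_iff_nontrivial.mp (by omega)
    exact exists_ne 1
  obtain ⟨n, rfl⟩ := QuotientGroup.mk'_surjective C' q
  have hn : (n : G) ∉ centralizer ((P : Subgroup G) : Set G) := fun h =>
    hq ((QuotientGroup.eq_one_iff n).mpr h)
  have hord : orderOf (QuotientGroup.mk' C' n) = 3 := by
    refine ((Nat.dvd_prime Nat.prime_three).mp (hidx ▸ orderOf_dvd_natCard _)).resolve_left ?_
    exact fun h => hq (orderOf_eq_one_iff.mp h)
  have hall : ∀ g : N, ∃ i : ℕ, i < 3 ∧ n ^ i * g⁻¹ ∈ C' := by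
    intro g
    have h1 : (Finset.image ((QuotientGroup.mk' C' n) ^ ·) (Finset.range 3)) = Finset.univ := by
      refine Finset.eq_univ_of_card _ ?_
      rw [Finset.card_image_of_injOn, Finset.card_range, ← Nat.card_eq_fintype_card, hidx]
      intro a ha b hb e
      simp only [Finset.coe_range, Set.mem_Iio] at ha hb
      exact pow_injOn_Iio_orderOf (by rw [hord]; exact ha) (by rw [hord]; exact hb) e
    obtain ⟨i, hi, e⟩ := Finset.mem_image.mp (h1 ▸ Finset.mem_univ (QuotientGroup.mk' C' g))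
    refine ⟨i, Finset.mem_range.mp hi, (QuotientGroup.eq_one_iff _).mp ?_⟩
    show QuotientGroup.mk' C' (n ^ i * g⁻¹) = 1
    rw [map_mul, map_pow, map_inv, e, mul_inv_cancel]
  have hcube : n ^ 3 ∈ C' := by
    have := Subgroup.pow_index_mem C' n
    rwa [Subgroup.index_eq_card, hidx] at this
  have hact : ∀ c : N, c ∈ C' → ∀ x : (P : Subgroup G), (c : G) * x * (c : G)⁻¹ = x := by
    intro c hc x
    rw [hC', Subgroup.mem_subgroupOf, Subgroup.mem_centralizer_iff] at hc
    rw [← hc x x.2, mul_inv_cancel_right]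
  set σ := conjOfNormalizer (P : Subgroup G) n with hσ
  have hσapp : ∀ x : (P : Subgroup G), (σ x : G) = (n : G) * x * (n : G)⁻¹ := fun x => rfl
  refine ⟨σ, ⟨fun x y => Subtype.ext (hab _ x.2 _ y.2), hcard,
    fun x => isConj_iff.mpr ⟨n, rfl⟩, fun x y hxy => ?_, fun x => ?_, fun x hx => ?_,
    fun S hS => ?_, fun x hx => ?_⟩⟩
  · -- fusion
    haveI : IsMulCommutative (P : Subgroup G) := ⟨⟨fun a b => Subtype.ext (hab _ a.2 _ b.2)⟩⟩
    obtain ⟨g, hg⟩ := isConj_iff.mp hxy
    have hy : g⁻¹⁻¹ * (x : G) * g⁻¹ ∈ P := by rw [inv_inv, hg]; exact y.2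
    obtain ⟨k, hk, e⟩ := Sylow.conj_eq_normalizer_conj_of_mem P (x : G) g⁻¹ x.2 hy
    rw [inv_inv, hg] at e
    obtain ⟨i, hi, hc⟩ := hall (⟨k, hk⟩⁻¹)
    rw [inv_inv] at hc
    have hyx : ∀ i : ℕ, (n ^ i * ⟨k, hk⟩ : N) ∈ C' → (y : G) = (n : G) ^ i * x * ((n : G) ^ i)⁻¹ := by
      intro i hc
      have h1 := hact _ hc y
      rw [e] at h1
      simp only [Subgroup.coe_mul, SubgroupClass.coe_pow] at h1
      rw [e]
      calc k⁻¹ * (x : G) * k = (n : G) ^ i * k * (k⁻¹ * x * k) * ((n : G) ^ i * k)⁻¹ := h1.symm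
        _ = _ := by group
    have h2 := hyx i hc
    interval_cases i
    · left; exact Subtype.ext (by simpa using h2)
    · right; left; exact Subtype.ext (by rw [hσapp, h2, pow_one])
    · right; right; exact Subtype.ext (by rw [hσapp, hσapp, h2, pow_two]; group)
  · -- cube
    refine Subtype.ext ?_
    rw [hσapp, hσapp, hσapp]
    have := hact _ hcube x
    simp only [SubgroupClass.coe_pow, pow_succ, pow_zero, one_mul, mul_inv_rev] at this
    simpa [mul_assoc] using this
  · -- fixed point free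
    by_contra hx1
    refine hn (hfpf x x.2 (fun h => hx1 (Subtype.ext h)) n n.2 ?_)
    have h1 : (n : G) * x * (n : G)⁻¹ = x := congrArg Subtype.val hx
    exact mul_inv_eq_iff_eq_mul.mp h1
  · -- Sylow
    obtain ⟨Q, hQ⟩ := hS.exists_le_sylow
    obtain ⟨g, hg⟩ := MulAction.exists_smul_eq G Q P
    refine ⟨g, fun s hs => ?_⟩
    rw [← hg, Sylow.coe_subgroup_smul, Subgroup.mem_pointwise_smul_iff_inv_smul_mem]
    simpa [MulAut.smul_def, mul_assoc] using hQ hs
  · -- centralizers
    have hle : (P : Subgroup G) ≤ centralizer ({(x : G)} : Set G) := fun a ha =>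
      Subgroup.mem_centralizer_singleton_iff.mpr (hab _ ha _ x.2)
    set Q : Sylow 2 (centralizer ({(x : G)} : Set G)) := P.subtype hle with hQdef
    have hNC : normalizer (Q : Set (centralizer ({(x : G)} : Set G))) ≤
        centralizer (Q : Set (centralizer ({(x : G)} : Set G))) := by
      intro k hk
      rw [Subgroup.mem_centralizer_iff]
      intro a ha
      refine Subtype.ext ?_
      have hkN : (k : G) ∈ N := by
        refine Subgroup.mem_normalizer_iff.mpr ?_
        intro z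
        constructor
        · intro hz
          exact (Subgroup.mem_normalizer_iff.mp hk ⟨z, hle hz⟩).mp hz
        · intro hz
          have hz' : z ∈ centralizer ({(x : G)} : Set G) := by
            have := mul_mem (mul_mem (inv_mem k.2) (hle hz)) k.2
            simpa [mul_assoc] using this
          exact (Subgroup.mem_normalizer_iff.mp hk ⟨z, hz'⟩).mpr hz
      have h1 := hfpf x x.2 (fun h => hx (Subtype.ext h)) k hkN
        (Subgroup.mem_centralizer_singleton_iff.mp k.2)
      exact Subgroup.mem_centralizer_iff.mp h1 (a : G) ha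
    obtain ⟨Q', N', hN'n, hcompl⟩ := Transfer.hasNormalPComplement_of_normalizer_le_centralizer Q hNC
    haveI := hN'n
    have hQ' : Nat.card (Q' : Subgroup (centralizer ({(x : G)} : Set G))) =
        Nat.card (P : Subgroup G) := by
      rw [Q'.card_eq_multiplicity, ← Q.card_eq_multiplicity, hQdef, Sylow.coe_subtype,
        Nat.card_congr (Subgroup.subgroupOfEquivOfLe hle).toEquiv]
    have hidx' : N'.index = Nat.card (P : Subgroup G) := by rw [hcompl.symm.index_eq_card, hQ']
    have hNodd : Odd (Nat.card N') := by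
      rw [← Nat.not_even_iff_odd, even_iff_two_dvd, ← hcompl.index_eq_card]
      exact Q'.not_dvd_index
    refine ⟨N'.map (centralizer ({(x : G)} : Set G)).subtype, fun v => ⟨?_, ?_⟩, ?_⟩
    · rintro ⟨w, hw, rfl⟩
      refine ⟨(Subgroup.mem_centralizer_singleton_iff.mp w.2).symm, ?_⟩
      show Odd (orderOf (w : G))
      rw [Subgroup.orderOf_coe]
      exact hNodd.of_dvd_nat (Subgroup.orderOf_dvd_natCard N' hw)
    · rintro ⟨hc, ho⟩
      set w : centralizer ({(x : G)} : Set G) :=
        ⟨v, Subgroup.mem_centralizer_singleton_iff.mpr hc.symm.eq⟩ with hwdef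
      refine ⟨w, ?_, rfl⟩
      obtain ⟨k, -, hk⟩ := hcard
      have e1 : orderOf (w : centralizer ({(x : G)} : Set G) ⧸ N') ∣ orderOf w :=
        orderOf_map_dvd (QuotientGroup.mk' N') w
      have e2 : orderOf (w : centralizer ({(x : G)} : Set G) ⧸ N') ∣ 2 ^ k := by
        rw [← hk, ← hidx', Subgroup.index_eq_card]
        exact orderOf_dvd_natCard _
      have e3 : Nat.Coprime (2 ^ k) (orderOf w) :=
        Nat.Coprime.pow_left _ (Nat.coprime_two_left.mpr (by rw [← Subgroup.orderOf_coe]; exact ho))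
      exact (QuotientGroup.eq_one_iff w).1
        (orderOf_eq_one_iff.1 (Nat.eq_one_of_dvd_coprimes e3 e2 e1))
    · rw [Subgroup.card_map_of_injective Subtype.val_injective, ← hidx', Subgroup.index_mul_card]

theorem normal_homocyclic_aux (m : ℕ) (hm : 2 ≤ m) :
    ∀ (n : ℕ) (G : Type u) [Group G] [Finite G], Nat.card G = n → ∀ P : Sylow 2 G,
      Nonempty ((P : Subgroup G) ≃* Multiplicative (ZMod (2 ^ m) × ZMod (2 ^ m))) →
      oddCore G = ⊥ → (P : Subgroup G).Normal := by
  intro n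
  induction n using Nat.strong_induction_on with
  | _ n ih =>
  intro G _ _ hn P he hO
  obtain ⟨e⟩ := he
  haveI := Fintype.ofFinite G
  haveI : Fact (Nat.Prime 2) := ⟨Nat.prime_two⟩
  obtain ⟨hab, h3⟩ := SmallSimple.homocyclic_two_data (P : Subgroup G) m (by omega) e
  obtain ⟨hor, -⟩ := SmallSimple.automizer_three P hab h3
  by_cases h1 : (centralizer ((P : Subgroup G) : Set G)).relIndex
      (normalizer ((P : Subgroup G) : Set G)) = 1
  · obtain ⟨Q, K, hK, hc⟩ := Transfer.hasNormalPComplement_of_normalizer_le_centralizer P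
      (Subgroup.relIndex_eq_one.mp h1)
    haveI := hK
    have hodd : Odd (Nat.card K) := by
      rw [← Nat.not_even_iff_odd, even_iff_two_dvd, ← hc.index_eq_card]
      exact Q.not_dvd_index
    have hK1 : K = ⊥ := le_bot_iff.mp (hO ▸ PCore.le_oddCore hodd)
    have hcard := hc.card_mul_card
    rw [hK1, Subgroup.card_bot, one_mul, Q.card_eq_multiplicity, ← P.card_eq_multiplicity] at hcard
    rw [(Subgroup.card_eq_iff_eq_top _).mp hcard]
    infer_instance
  haveI : NeZero (2 ^ m) := ⟨by positivity⟩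
  have hPcard : Nat.card (P : Subgroup G) = 2 ^ (2 * m) := by
    rw [Nat.card_congr e.toEquiv, Nat.card_congr Multiplicative.toAdd, Nat.card_prod, Nat.card_zmod,
      ← pow_add]
    congr 1; omega
  obtain ⟨σ, hσ⟩ := exists_threeData P hab h3 ⟨2 * m, by omega, hPcard⟩ h1
  have hm2 : ¬ (2 ^ m ∣ 2) := fun hd => absurd (Nat.le_of_dvd (by norm_num) hd)
    (not_le.mpr (lt_of_lt_of_le (by norm_num) (Nat.pow_le_pow_right (by norm_num : 0 < 2) hm)))
  set x := e.symm (Multiplicative.ofAdd ((1 : ZMod (2 ^ m)), (0 : ZMod (2 ^ m)))) with hxdef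
  have hx : x * x ≠ 1 := by
    intro h
    rw [hxdef, ← map_mul, MulEquiv.map_eq_one_iff, ← ofAdd_add, ofAdd_eq_one, Prod.mk_add_mk,
      Prod.mk_eq_zero, one_add_one_eq_two] at h
    exact hm2 ((ZMod.natCast_eq_zero_iff 2 _).mp (by exact_mod_cast h.1))
  obtain ⟨t, ht⟩ := exists_prime_orderOf_dvd_card' (G := (P : Subgroup G)) 2
    (by rw [hPcard]; exact dvd_pow_self 2 (by omega))
  have ht1 : t ≠ 1 := fun h => by rw [h, orderOf_one] at ht; norm_num at ht
  have htt : t * t = 1 := by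
    have := pow_orderOf_eq_one t
    rwa [ht, pow_two] at this
  haveI := Fintype.ofFinite (P : Subgroup G)
  obtain ⟨M, hM⟩ := exists_isPModular_two
  obtain ⟨χ, hχne, hχ1, hχP⟩ := hσ.exists_linear secondPrincipal hM hx htt ht1
  obtain ⟨l, hl⟩ := Char.IsCharacter.exists_monoidHom (Char.irr_isCharacter χ) hχ1
  set K := l.toHomUnits.ker with hKdef
  have hPK : (P : Subgroup G) ≤ K := fun a ha => by
    rw [hKdef, MonoidHom.mem_ker]
    refine Units.ext ?_
    rw [MonoidHom.coe_toHomUnits, hl]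
    exact hχP ⟨a, ha⟩
  have hKne : K ≠ ⊤ := by
    intro hK
    refine hχne (Subtype.ext (funext fun g => ?_))
    have : g ∈ K := hK ▸ Subgroup.mem_top g
    rw [hKdef, MonoidHom.mem_ker, Units.ext_iff, MonoidHom.coe_toHomUnits, hl] at this
    rw [this, Char.trivialChar_apply]
    rfl
  haveI hKn : K.Normal := MonoidHom.normal_ker _
  have hlt : Nat.card K < n := by
    rw [← hn]
    exact lt_of_le_of_ne (Subgroup.card_le_card_group K) fun h =>
      hKne ((Subgroup.card_eq_iff_eq_top _).mp h)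
  have hKP := ih _ hlt K rfl (P.subtype hPK)
    ⟨(Subgroup.subgroupOfEquivOfLe hPK).trans e⟩ (PCore.pPrimeCore_eq_bot_of_normal K hO)
  haveI := hKP
  -- a normal Sylow subgroup of a normal subgroup is normal
  refine ⟨fun a ha g => ?_⟩
  have hgK : g * a * g⁻¹ ∈ K := hKn.conj_mem a (hPK ha) g
  have hpe : ∃ k : ℕ, orderOf (g * a * g⁻¹) = 2 ^ k := by
    obtain ⟨k, hk⟩ := IsPGroup.iff_orderOf.mp P.2 ⟨a, ha⟩
    exact ⟨k, by rw [← MulAut.conj_apply, MulEquiv.orderOf_eq, ← hk, Subgroup.orderOf_mk]⟩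
  obtain ⟨k, hk⟩ := hpe
  have hz : IsPGroup 2 (Subgroup.zpowers (⟨g * a * g⁻¹, hgK⟩ : K)) :=
    IsPGroup.of_card (n := k) (by rw [Nat.card_zpowers, Subgroup.orderOf_mk, hk])
  obtain ⟨R, hR⟩ := hz.exists_le_sylow
  haveI := Sylow.unique_of_normal (P.subtype hPK) hKP
  rw [Subsingleton.elim R (P.subtype hPK)] at hR
  exact hR (Subgroup.mem_zpowers _)

/-- Brauer: a homocyclic Sylow 2-subgroup of rank two, exponent at least four, is normal when
`O(G) = 1`. -/
theorem normal_homocyclic {G : Type u} [Group G] [Finite G] (P : Sylow 2 G) (m : ℕ) (hm : 2 ≤ m)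
    (e : (P : Subgroup G) ≃* Multiplicative (ZMod (2 ^ m) × ZMod (2 ^ m))) (hO : oddCore G = ⊥) :
    (P : Subgroup G).Normal :=
  normal_homocyclic_aux m hm _ G rfl P ⟨e⟩ hO

end Cfsg.Agent.ZStar
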