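import Cfsg.Prelude.Def_FusionSystem
import Cfsg.Agent.Lib.ZStar.Consumers
import Cfsg.Agent.Lib.Coprime.Basic

/-!
# The centre of the fusion system of a group at the prime two

* `mem_of_mem_sup`: an element fused only to itself in `S` stays so modulo a normal subgroup
* `inZStar_of_fixed`: 2-elements whose powers are fused only to themselves lie in `Z*`
* `center_eq`: the centre of the fusion system is `S ∩ Z*`
-/

set_option autoImplicit false
set_option linter.style.haveILetI false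
set_option linter.unusedSectionVars false

namespace Cfsg.Agent.ZStar.FusionCentre

open Cfsg
open scoped Pointwise

universe u

variable {G : Type u} [Group G] [Finite G]

/-- Fusion of `x` in `S N` for normal `N` is congruence modulo `N`. -/
theorem mem_of_mem_sup {S : Sylow 2 G} {x : G} (hxS : x ∈ (S : Subgroup G))
    (hfix : ∀ g : G, g * x * g⁻¹ ∈ (S : Subgroup G) → g * x * g⁻¹ = x)
    (N : Subgroup G) [N.Normal] {g : G} (hg : g * x * g⁻¹ ∈ (S : Subgroup G) ⊔ N) :
    g * x * g⁻¹ * x⁻¹ ∈ N := by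
  haveI : Fact (Nat.Prime 2) := ⟨Nat.prime_two⟩
  set y := g * x * g⁻¹ with hy
  set K := (S : Subgroup G) ⊔ N with hK
  have hxp : IsPGroup 2 (Subgroup.zpowers x) :=
    S.2.to_le (Subgroup.zpowers_le.2 hxS)
  have hyp : IsPGroup 2 ((Subgroup.zpowers y).subgroupOf K) := by
    have h1 : IsPGroup 2 (Subgroup.zpowers y) := by
      have := hxp.map (MulAut.conj g).toMonoidHom
      rwa [MonoidHom.map_zpowers] at this
    exact h1.of_equiv (Subgroup.subgroupOfEquivOfLe (Subgroup.zpowers_le.2 hg)).symm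
  obtain ⟨Q, hQ⟩ := hyp.exists_le_sylow
  obtain ⟨k, hk⟩ := MulAction.exists_smul_eq K Q (S.subtype le_sup_left)
  have hk' : (k : G) * y * (k : G)⁻¹ ∈ (S : Subgroup G) := by
    have h1 : (⟨y, hg⟩ : K) ∈ (Q : Subgroup K) := hQ (Subgroup.mem_zpowers y)
    have h2 : k * ⟨y, hg⟩ * k⁻¹ ∈ ((k • Q : Sylow 2 K) : Subgroup K) :=
      ⟨⟨y, hg⟩, h1, rfl⟩
    rw [hk] at h2
    exact h2
  obtain ⟨k, hkK⟩ := k
  obtain ⟨s, hs, n, hn, hsn⟩ := Subgroup.mem_sup_of_normal_right.1 hkK
  have hny : n * y * n⁻¹ ∈ (S : Subgroup G) := by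
    have e : n * y * n⁻¹ = s⁻¹ * (k * y * k⁻¹) * s := by rw [← hsn]; group
    rw [e]
    exact mul_mem (mul_mem (inv_mem hs) hk') hs
  have h := hfix (n * g) (by
    have e : n * g * x * (n * g)⁻¹ = n * y * n⁻¹ := by rw [hy]; group
    rwa [e])
  have e : y * x⁻¹ = n⁻¹ * (x * n * x⁻¹) := by
    calc y * x⁻¹ = n⁻¹ * (n * g * x * (n * g)⁻¹) * n * x⁻¹ := by rw [hy]; group
      _ = n⁻¹ * x * n * x⁻¹ := by rw [h]
      _ = n⁻¹ * (x * n * x⁻¹) := by group
  rw [e]
  exact N.mul_mem (N.inv_mem hn) (Subgroup.Normal.conj_mem inferInstance n hn x)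

theorem inZStar_aux (hZ : ZStarThm.{u}) : ∀ (n : ℕ) (G : Type u) [Group G] [Finite G],
    Nat.card G = n → ∀ (S : Sylow 2 G) (x : G), x ∈ (S : Subgroup G) →
    (∀ y ∈ Subgroup.zpowers x, ∀ g : G, g * y * g⁻¹ ∈ (S : Subgroup G) → g * y * g⁻¹ = y) →
    InZStar 2 x := by
  intro n
  induction n using Nat.strong_induction_on with
  | _ n ih =>
    intro G _ _ hn S x hxS hfix
    haveI : Fact (Nat.Prime 2) := ⟨Nat.prime_two⟩
    rcases eq_or_ne x 1 with rfl | hx1
    · intro g
      rw [show g * 1 * g⁻¹ * 1⁻¹ = (1 : G) by group]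
      exact one_mem _
    obtain ⟨k, hk⟩ := (S.2.exists_orderOf_eq_pow ⟨x, hxS⟩)
    rw [Subgroup.orderOf_mk] at hk
    have hk0 : k ≠ 0 := fun h => hx1 (by rw [h, pow_zero, orderOf_eq_one_iff] at hk; exact hk)
    set u := x ^ (orderOf x / 2) with hu
    have huo : orderOf u = 2 :=
      orderOf_pow_orderOf_div (orderOf_pos x).ne' (by rw [hk]; exact dvd_pow_self 2 hk0)
    have huS : u ∈ (S : Subgroup G) := pow_mem hxS _
    have hux : u ∈ Subgroup.zpowers x := pow_mem (Subgroup.mem_zpowers x) _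
    have hucen : ∀ g : G, g * u * g⁻¹ * u⁻¹ ∈ oddCore G :=
      hZ G u (isolated_of_sylow huo huS (hfix u hux))
    set O := oddCore G with hO
    haveI : O.Normal := by rw [hO]; infer_instance
    set f := QuotientGroup.mk' O with hf
    set M := (Subgroup.zpowers (f u)).comap f with hM
    have hfu : f u ∈ Subgroup.center (G ⧸ O) := by
      rw [Subgroup.mem_center_iff]
      intro q
      obtain ⟨g, rfl⟩ := QuotientGroup.mk'_surjective O q
      have h1 : f (g * u * g⁻¹ * u⁻¹) = 1 := (QuotientGroup.eq_one_iff _).2 (hucen g)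
      rw [map_mul, map_mul, map_mul, map_inv, map_inv, mul_inv_eq_one, mul_inv_eq_iff_eq_mul] at h1
      exact h1
    haveI hZn : (Subgroup.zpowers (f u)).Normal := by
      refine ⟨fun a ha q => ?_⟩
      obtain ⟨i, rfl⟩ := Subgroup.mem_zpowers_iff.1 ha
      rw [Subgroup.mem_center_iff.1 (zpow_mem hfu i) q, mul_inv_cancel_right]
      exact zpow_mem (Subgroup.mem_zpowers _) i
    haveI : M.Normal := by rw [hM]; exact hZn.comap f
    have huM : u ∈ M := Subgroup.mem_zpowers (f u)
    have hMbot : M ≠ ⊥ := fun h => by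
      rw [h, Subgroup.mem_bot] at huM
      rw [huM, orderOf_one] at huo
      exact absurd huo (by norm_num)
    have hxM : InZStar 2 (QuotientGroup.mk' M x) := by
      refine ih _ (hn ▸ card_quotient_lt hMbot) _ rfl
        (S.mapSurjective (QuotientGroup.mk'_surjective M)) _ ⟨x, hxS, rfl⟩ fun y hy q hq => ?_
      rw [← MonoidHom.map_zpowers] at hy
      obtain ⟨y, hy, rfl⟩ := hy
      obtain ⟨g, rfl⟩ := QuotientGroup.mk'_surjective M q
      rw [← map_inv, ← map_mul, ← map_mul] at hq ⊢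
      have hmem : g * y * g⁻¹ ∈ (S : Subgroup G) ⊔ M := by
        rw [Sylow.coe_mapSurjective, ← Subgroup.mem_comap, Subgroup.comap_map_eq,
          QuotientGroup.ker_mk'] at hq
        exact hq
      have h := mem_of_mem_sup ((Subgroup.zpowers_le.2 hxS) hy) (hfix y hy) M hmem
      rw [← mul_inv_eq_one, ← map_inv, ← map_mul]
      exact (QuotientGroup.eq_one_iff _).2 h
    -- the odd core of `G / M` is trivial
    set L := (pPrimeCore 2 (G ⧸ M)).comap (QuotientGroup.mk' M) with hL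
    haveI : L.Normal := by rw [hL]; infer_instance
    have hOM : O ≤ M := fun a ha => by
      show f a ∈ Subgroup.zpowers (f u)
      rw [show f a = 1 from (QuotientGroup.eq_one_iff a).2 ha]
      exact one_mem _
    have hML : M ≤ L := fun a ha => by
      show QuotientGroup.mk' M a ∈ pPrimeCore 2 (G ⧸ M)
      rw [show QuotientGroup.mk' M a = 1 from (QuotientGroup.eq_one_iff a).2 ha]
      exact one_mem _
    set Lb := L.map f with hLb
    haveI : Lb.Normal := Subgroup.Normal.map inferInstance f (QuotientGroup.mk'_surjective O)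
    set U := Subgroup.zpowers (f u) with hU
    have hUL : U ≤ Lb := by
      rw [hU, Subgroup.zpowers_le]
      exact ⟨u, hML huM, rfl⟩
    have hUc : Nat.card U = 2 := by
      rw [hU, Nat.card_zpowers]
      refine orderOf_eq_prime (by rw [← map_pow, ← huo, pow_orderOf_eq_one, map_one]) fun h => ?_
      have h1 : u ∈ O := (QuotientGroup.eq_one_iff u).1 h
      have h2 := orderOf_dvd_natCard (⟨u, h1⟩ : O)
      rw [Subgroup.orderOf_mk, huo] at h2
      exact Nat.not_even_iff_odd.2 PCore.odd_card_oddCore (even_iff_two_dvd.2 h2)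
    have hodd : (U.relIndex Lb).Coprime 2 := by
      have h1 : U.relIndex Lb ∣ M.relIndex L := by
        have : M.map f = U := Subgroup.map_comap_eq_self_of_surjective (QuotientGroup.mk'_surjective O) U
        rw [← this, hLb, Subgroup.relIndex_map_map, QuotientGroup.ker_mk', sup_of_le_left hOM,
          sup_of_le_left (hOM.trans hML)]
      refine Nat.Coprime.coprime_dvd_left h1 ?_
      have : M.relIndex L = Nat.card (pPrimeCore 2 (G ⧸ M)) := by
        rw [← Subgroup.relIndex_bot_left (pPrimeCore 2 (G ⧸ M)),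
          ← Subgroup.map_comap_eq_self_of_surjective (QuotientGroup.mk'_surjective M)
            (pPrimeCore 2 (G ⧸ M)), ← hL,
          show (⊥ : Subgroup (G ⧸ M)) = M.map (QuotientGroup.mk' M) from
            ((Subgroup.map_eq_bot_iff _).2 (QuotientGroup.ker_mk' M).ge).symm,
          Subgroup.relIndex_map_map, QuotientGroup.ker_mk', sup_idem, sup_of_le_left hML]
      rw [this]
      exact PCore.coprime_card_pPrimeCore
    have hLU : Lb ≤ U := by
      haveI : (U.subgroupOf Lb).Normal := hZn.subgroupOf Lb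
      obtain ⟨K, hK⟩ := Subgroup.exists_right_complement'_of_coprime
        (N := U.subgroupOf Lb) (by
          rw [Nat.card_congr (Subgroup.subgroupOfEquivOfLe hUL).toEquiv, hUc]
          exact hodd.symm)
      have hKc : (Nat.card K).Coprime 2 := by rw [← hK.symm.index_eq_card]; exact hodd
      haveI : K.Normal := by
        refine ⟨fun a ha q => ?_⟩
        have hq : q ∈ (U.subgroupOf Lb : Subgroup Lb) ⊔ K := hK.sup_eq_top.symm ▸ Subgroup.mem_top q
        obtain ⟨z, hz, b, hb, rfl⟩ := Subgroup.mem_sup_of_normal_left.1 hq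
        have hzc : ∀ w : Lb, z * w = w * z := fun w => Subtype.ext (by
          obtain ⟨i, hi⟩ := Subgroup.mem_zpowers_iff.1 (show (z : G ⧸ O) ∈ U from hz)
          show (z : G ⧸ O) * w = w * z
          rw [← hi, Subgroup.mem_center_iff.1 (zpow_mem hfu i) w])
        have e : z * b * a * (z * b)⁻¹ = b * a * b⁻¹ := by
          calc z * b * a * (z * b)⁻¹ = z * (b * a * b⁻¹) * z⁻¹ := by group
            _ = b * a * b⁻¹ * z * z⁻¹ := by rw [hzc]
            _ = b * a * b⁻¹ := by group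
        rw [e]
        exact K.mul_mem (K.mul_mem hb ha) (K.inv_mem hb)
      have h1 : K = ⊥ := by
        have hbot : pPrimeCore 2 (G ⧸ O) = ⊥ := PCore.pPrimeCore_quotient_self_eq_bot (p := 2) (G := G)
        have h2 : (pPrimeCore 2 Lb).map Lb.subtype ≤ pPrimeCore 2 (G ⧸ O) :=
          PCore.le_pPrimeCore (by
            rw [Subgroup.card_map_of_injective Lb.subtype_injective]
            exact PCore.coprime_card_pPrimeCore)
        rw [hbot, le_bot_iff, Subgroup.map_eq_bot_iff_of_injective _ Lb.subtype_injective] at h2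
        exact le_bot_iff.1 (h2 ▸ PCore.le_pPrimeCore hKc)
      intro a ha
      have h3 : (⟨a, ha⟩ : Lb) ∈ U.subgroupOf Lb := by
        have := hK.sup_eq_top
        rw [h1, sup_bot_eq] at this
        rw [this]; exact Subgroup.mem_top _
      exact h3
    intro g
    refine mem_of_mem_sup hxS (hfix x (Subgroup.mem_zpowers x)) O ?_
    have hgL : g * x * g⁻¹ * x⁻¹ ∈ L := by
      have := hxM (QuotientGroup.mk' M g)
      rw [← map_inv, ← map_mul, ← map_mul, ← map_inv, ← map_mul] at this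
      exact this
    have hMS : M ≤ (S : Subgroup G) ⊔ O := by
      rw [hM, hU, hf, ← MonoidHom.map_zpowers, Subgroup.comap_map_eq, QuotientGroup.ker_mk']
      exact sup_le_sup_right (Subgroup.zpowers_le.2 huS) O
    have h4 : g * x * g⁻¹ * x⁻¹ ∈ (S : Subgroup G) ⊔ O :=
      hMS (hLU ⟨_, hgL, rfl⟩)
    have := mul_mem h4 (Subgroup.mem_sup_left hxS : x ∈ (S : Subgroup G) ⊔ O)
    rwa [inv_mul_cancel_right] at this

/-- The centre of the fusion system. -/
theorem center_eq (hZ : ZStarThm.{u}) (S : Sylow 2 G) :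
    (groupFusionSystem (S : Subgroup G)).center =
      (S : Subgroup G) ⊓ (Subgroup.center (G ⧸ oddCore G)).comap (QuotientGroup.mk' (oddCore G)) := by
  haveI : Fact (Nat.Prime 2) := ⟨Nat.prime_two⟩
  have hcomap : ∀ x : G, InZStar 2 x ↔
      x ∈ (Subgroup.center (G ⧸ oddCore G)).comap (QuotientGroup.mk' (oddCore G)) := fun x => by
    rw [Subgroup.mem_comap, Subgroup.mem_center_iff]
    constructor
    · intro h q
      obtain ⟨g, rfl⟩ := QuotientGroup.mk'_surjective (oddCore G) q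
      have h1 : QuotientGroup.mk' (oddCore G) (g * x * g⁻¹ * x⁻¹) = 1 :=
        (QuotientGroup.eq_one_iff _).2 (h g)
      rw [map_mul, map_mul, map_mul, map_inv, map_inv, mul_inv_eq_one, mul_inv_eq_iff_eq_mul] at h1
      exact h1
    · intro h g
      refine (QuotientGroup.eq_one_iff _).1 ?_
      show QuotientGroup.mk' (oddCore G) (g * x * g⁻¹ * x⁻¹) = 1
      rw [map_mul, map_mul, map_mul, map_inv, map_inv, h, mul_inv_cancel_right, mul_inv_cancel]
  apply le_antisymm
  · refine sSup_le fun Q hQ x hx => ?_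
    obtain ⟨hQS, hQc⟩ := hQ
    refine ⟨hQS hx, (hcomap x).1 (inZStar_aux hZ _ G rfl S x (hQS hx) fun y hy g hg => ?_)⟩
    have hyQ : y ∈ Q := (Subgroup.zpowers_le.2 hx) hy
    have hP : Subgroup.zpowers y ≤ (S : Subgroup G) := Subgroup.zpowers_le.2 (hQS hyQ)
    have hφ : conjHom (Subgroup.zpowers y) g ∈
        (groupFusionSystem (S : Subgroup G)).Hom (Subgroup.zpowers y) := by
      refine ⟨hP, ?_, g, fun z => rfl⟩
      rintro ⟨z, hz⟩
      obtain ⟨i, rfl⟩ := Subgroup.mem_zpowers_iff.1 hz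
      show g * y ^ i * g⁻¹ ∈ (S : Subgroup G)
      rw [← conj_zpow]
      exact zpow_mem hg i
    obtain ⟨ψ, -, h1, h2⟩ := hQc _ _ hφ
    exact (h1 ⟨y, Subgroup.mem_zpowers y⟩).symm.trans (h2 ⟨y, hyQ⟩)
  · refine le_sSup ?_
    set O := oddCore G with hO
    haveI : O.Normal := by rw [hO]; infer_instance
    set Q := (S : Subgroup G) ⊓ (Subgroup.center (G ⧸ O)).comap (QuotientGroup.mk' O) with hQ
    have hQS : Q ≤ (S : Subgroup G) := inf_le_left
    have hcen : ∀ q ∈ Q, ∀ g : G, g * q * g⁻¹ * q⁻¹ ∈ O := fun q hq g => (hcomap q).2 hq.2 g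
    have hdisj : ∀ a ∈ (S : Subgroup G), a ∈ O → a = 1 := fun a ha ha' =>
      Subgroup.disjoint_def.1 (PCore.disjoint_of_isPGroup_of_coprime S.2
        PCore.coprime_card_pPrimeCore) ha ha'
    have hcopO : ∀ {R : Subgroup G}, IsPGroup 2 R → (Nat.card R).Coprime (Nat.card O) := fun hR => by
      obtain ⟨k, hk⟩ := IsPGroup.iff_card.1 hR
      rw [hk]
      exact Nat.Coprime.pow_left _ (Nat.coprime_two_left.2 PCore.odd_card_oddCore)
    have hsolv : ∀ {R : Subgroup G}, IsPGroup 2 R → Group.IsSolvable R := fun hR => by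
      haveI := hR.isNilpotent
      infer_instance
    refine ⟨hQS, ?_⟩
    rintro P φ ⟨hPS, hφS, g, hg⟩
    have hQc : ∀ q ∈ Q, ∀ s ∈ (S : Subgroup G), s * q = q * s := fun q hq s hs => by
      have := hdisj _ (mul_mem (mul_mem (mul_mem hs (hQS hq)) (inv_mem hs)) (inv_mem (hQS hq)))
        (hcen q hq s)
      rwa [mul_inv_eq_one, mul_inv_eq_iff_eq_mul] at this
    -- `g = n⁻¹ c` with `c` centralising `Q`
    obtain ⟨n, hn, hnQ⟩ := Coprime.exists_conj_eq_of_le_sup (N := O) (H := MulAut.conj g • Q) (K := Q)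
      (by rw [Subgroup.normalizer_eq_top]; exact le_top)
      (fun q hq => by
        have h1 : g * q * g⁻¹ ∈ MulAut.conj g • Q := ⟨q, hq, rfl⟩
        have h2 := mul_mem (Subgroup.mem_sup_right (inv_mem (hcen q hq g)))
          (Subgroup.mem_sup_left h1 : g * q * g⁻¹ ∈ (MulAut.conj g • Q) ⊔ O)
        convert h2 using 1
        group)
      (Coprime.card_conj_smul _ _).symm
      (by rw [Coprime.card_conj_smul]; exact hcopO (S.2.to_le hQS))
      (Or.inr (hsolv ((S.2.to_le hQS).map _)))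
    set c := n * g with hc
    have hccen : ∀ q ∈ Q, c * q * c⁻¹ = q := fun q hq => by
      have h1 : c * q * c⁻¹ ∈ Q := by
        rw [← hnQ]
        exact ⟨g * q * g⁻¹, ⟨q, hq, rfl⟩, by show n * (g * q * g⁻¹) * n⁻¹ = _; rw [hc]; group⟩
      have h2 := hdisj _ (mul_mem (hQS h1) (inv_mem (hQS hq))) (hcen q hq c)
      rwa [mul_inv_eq_one] at h2
    set OC := O ⊓ Subgroup.centralizer (Q : Set G) with hOC
    set P₁ := P.map (MulAut.conj c).toMonoidHom with hP₁
    set P₂ := φ.range with hP₂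
    have hP₁C : P₁ ≤ Subgroup.centralizer (Q : Set G) := by
      rintro _ ⟨a, ha, rfl⟩ q hq
      show q * (c * a * c⁻¹) = c * a * c⁻¹ * q
      conv_lhs => rw [← hccen q hq]
      conv_rhs => rw [← hccen q hq]
      calc c * q * c⁻¹ * (c * a * c⁻¹) = c * (q * a) * c⁻¹ := by group
        _ = c * (a * q) * c⁻¹ := by rw [hQc q hq a (hPS ha)]
        _ = c * a * c⁻¹ * (c * q * c⁻¹) := by group
    have hP₁n : P₁ ≤ Subgroup.normalizer (OC : Set G) :=
      (le_inf (le_top.trans (Subgroup.normalizer_eq_top (H := O)).ge)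
        (hP₁C.trans Subgroup.le_normalizer)).trans Subgroup.inf_normalizer_le_normalizer_inf
    have hdiff : ∀ a (ha : a ∈ P), φ ⟨a, ha⟩ * (c * a * c⁻¹)⁻¹ ∈ O := fun a ha => by
      rw [hg, hc]
      have e : g * a * g⁻¹ * (n * g * a * (n * g)⁻¹)⁻¹ = g * a * g⁻¹ * n * (g * a * g⁻¹)⁻¹ * n⁻¹ := by
        group
      show g * a * g⁻¹ * (n * g * a * (n * g)⁻¹)⁻¹ ∈ O
      rw [e]
      exact mul_mem (Subgroup.Normal.conj_mem inferInstance n hn _) (inv_mem hn)
    have hP₂le : P₂ ≤ P₁ ⊔ OC := by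
      rintro _ ⟨⟨a, ha⟩, rfl⟩
      have h1 : φ ⟨a, ha⟩ * (c * a * c⁻¹)⁻¹ ∈ OC := by
        refine ⟨hdiff a ha, (Subgroup.centralizer (Q : Set G)).mul_mem ?_
          ((Subgroup.centralizer (Q : Set G)).inv_mem (hP₁C ⟨a, ha, rfl⟩))⟩
        exact fun q hq => (hQc q hq _ (hφS _)).symm
      have h2 := mul_mem (Subgroup.mem_sup_right h1 : _ ∈ P₁ ⊔ OC)
        (Subgroup.mem_sup_left ⟨a, ha, rfl⟩ : c * a * c⁻¹ ∈ P₁ ⊔ OC)
      rwa [inv_mul_cancel_right] at h2
    have hφinj : Function.Injective φ :=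
      (groupFusionSystem (S : Subgroup G)).injective_of_mem ⟨hPS, hφS, g, hg⟩
    have hcard : Nat.card P₂ = Nat.card P₁ := by
      rw [hP₁, Subgroup.card_map_of_injective (MulAut.conj c).injective, hP₂,
        ← Nat.card_congr (MonoidHom.ofInjective hφinj).toEquiv]
    obtain ⟨m, hm, hmP⟩ := Coprime.exists_conj_eq_of_le_sup hP₁n hP₂le hcard
      ((hcopO ((S.2.to_le hPS).map _)).coprime_dvd_right (Subgroup.card_dvd_of_le inf_le_left))
      (Or.inr (hsolv ((S.2.to_le hPS).map _)))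
    set d := m * c with hd
    have hdP : ∀ a (ha : a ∈ P), d * a * d⁻¹ = φ ⟨a, ha⟩ := fun a ha => by
      have h1 : d * a * d⁻¹ ∈ P₂ := by
        rw [← hmP]
        exact ⟨c * a * c⁻¹, ⟨a, ha, rfl⟩, by show m * (c * a * c⁻¹) * m⁻¹ = _; rw [hd]; group⟩
      have h2 : d * a * d⁻¹ * (c * a * c⁻¹)⁻¹ ∈ O := by
        have e : d * a * d⁻¹ * (c * a * c⁻¹)⁻¹ = m * (c * a * c⁻¹ * m⁻¹ * (c * a * c⁻¹)⁻¹) := by
          rw [hd]; group
        rw [e]
        exact mul_mem hm.1 (Subgroup.Normal.conj_mem inferInstance _ (inv_mem hm.1) _)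
      have h3 : d * a * d⁻¹ * (φ ⟨a, ha⟩)⁻¹ ∈ O := by
        have := mul_mem h2 (inv_mem (hdiff a ha))
        convert this using 1
        group
      obtain ⟨b, hb⟩ := h1
      refine mul_inv_eq_one.1 (hdisj _ ?_ h3)
      exact mul_mem (hb ▸ hφS b) (inv_mem (hφS _))
    have hdQ : ∀ q ∈ Q, d * q * d⁻¹ = q := fun q hq => by
      have h1 : q * m = m * q := hm.2 q hq
      calc d * q * d⁻¹ = m * (c * q * c⁻¹) * m⁻¹ := by rw [hd]; group
        _ = m * q * m⁻¹ := by rw [hccen q hq]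
        _ = q := by rw [← h1, mul_inv_cancel_right]
    refine ⟨conjHom (P ⊔ Q) d, ⟨sup_le hPS hQS, ?_, d, fun z => rfl⟩, fun a => hdP a a.2,
      fun a => hdQ a a.2⟩
    rintro ⟨z, hz⟩
    have hle : P ⊔ Q ≤ (S : Subgroup G).comap (MulAut.conj d).toMonoidHom := by
      refine sup_le (fun a ha => ?_) fun a ha => ?_
      · show d * a * d⁻¹ ∈ (S : Subgroup G)
        rw [hdP a ha]; exact hφS _
      · show d * a * d⁻¹ ∈ (S : Subgroup G)
        rw [hdQ a ha]; exact hQS ha
    exact hle hz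

end Cfsg.Agent.ZStar.FusionCentre
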