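import Cfsg.Agent.Lib.ZStar.Step
import Cfsg.Agent.S1181
import Mathlib.Algebra.Group.Subgroup.Finite
import Mathlib.GroupTheory.Coset.Card

/-!
# The Z*-theorem: induction

`inZStar_of_steps`: the theorem follows from the existence of principal sets and the rank-one case
(no involution commuting with `z` other than `z`) of a minimal counterexample.
-/

namespace Cfsg.Agent.ZStar

open Cfsg

universe u

/-- The rank-one case of a minimal counterexample is impossible. -/
def RankOneCase : Prop :=
  ∀ (G : Type u) [Group G] [Finite G] (z : G), MinConfig z →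
    ∃ s : G, orderOf s = 2 ∧ Commute s z ∧ s ≠ z

/-- Every finite group has a principal set of characters. -/
def HasPrincipalSets : Prop :=
  ∀ (G : Type u) [Group G] [Finite G], ∃ B : Finset (IrrCharacter G), PrincipalSet G B

theorem card_lt_of_ne_top {G : Type u} [Group G] [Finite G] {H : Subgroup G} (h : H ≠ ⊤) :
    Nat.card H < Nat.card G :=
  lt_of_le_of_ne (Subgroup.card_le_card_group H) fun he =>
    h (Subgroup.eq_top_of_card_eq H he)

theorem card_quotient_lt {G : Type u} [Group G] [Finite G] {N : Subgroup G} (h : N ≠ ⊥) :
    Nat.card (G ⧸ N) < Nat.card G := by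
  have h2 := Subgroup.card_eq_card_quotient_mul_card_subgroup N
  have h3 : 1 < Nat.card N := N.one_lt_card_iff_ne_bot.mpr h
  have h4 : 0 < Nat.card (G ⧸ N) := Nat.card_pos
  nlinarith

theorem inZStar_of_steps_aux (hB : HasPrincipalSets.{u}) (hR : RankOneCase.{u}) :
    ∀ (n : ℕ) (G : Type u) [Group G] [Finite G], Nat.card G = n → ∀ z : G,
      IsIsolatedInvolution z → InZStar 2 z := by
  intro n
  induction n using Nat.strong_induction_on with
  | _ n ih =>
    intro G _ _ hn z hz
    by_cases hc : oddCore G = ⊥
    · by_contra hnot
      have hnc : z ∉ Subgroup.center G := fun h => hnot fun g => by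
        rw [Subgroup.mem_center_iff.mp h g, mul_inv_cancel_right, mul_inv_cancel]
        exact one_mem _
      have hmin : MinConfig z :=
        { iso := hz
          core := hc
          noncentral := hnc
          sub := fun H hzH hH => ih _ (hn ▸ card_lt_of_ne_top hH) H rfl _
            (isolated_subgroup hz hzH)
          quot := fun N _ hN hzN => ih _ (hn ▸ card_quotient_lt hN) _ rfl _
            (S1181.result z hz N hzN).2 }
      obtain ⟨s, hs, hsz, hne⟩ := hR G z hmin
      obtain ⟨B, hBp⟩ := hB G
      exact hne (hmin.eq_of_commute hBp hs hsz)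
    · have hzO : z ∉ oddCore G := fun h => by
        have h1 := orderOf_dvd_natCard (⟨z, h⟩ : oddCore G)
        rw [Subgroup.orderOf_mk, hz.1] at h1
        exact Nat.not_even_iff_odd.mpr PCore.odd_card_oddCore (even_iff_two_dvd.mpr h1)
      exact inZStar_of_quotient PCore.odd_card_oddCore
        (ih _ (hn ▸ card_quotient_lt hc) _ rfl _ (S1181.result z hz (oddCore G) hzO).2)

theorem inZStar_of_steps (hB : HasPrincipalSets.{u}) (hR : RankOneCase.{u}) {G : Type u}
    [Group G] [Finite G] {z : G} (hz : IsIsolatedInvolution z) : InZStar 2 z :=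
  inZStar_of_steps_aux hB hR _ G rfl z hz

end Cfsg.Agent.ZStar
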