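import Cfsg.Agent.Lib.ZStar.SecondPrincipal
import Cfsg.Agent.Lib.ZStar.Section

/-!
# Elements whose centralizer has a normal 2-complement
-/

set_option linter.style.haveILetI false

namespace Cfsg.Agent.ZStar

open Cfsg
open scoped ComplexConjugate

universe u

variable {G : Type u} [Group G] [Finite G] {M : Ideal AlgInt}

/-- The principal idempotent of a group with a normal 2-complement. -/
theorem blockCoeff_of_complement (hM : IsPModular 2 M) {N : Subgroup G} [N.Normal]
    (hodd : Odd (Nat.card N)) (hreg : ∀ g : G, Odd (orderOf g) → g ∈ N) (g : G) [Decidable (g ∈ N)] :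
    blockCoeff (principalBlock M G) g = if g ∈ N then (Nat.card N : ℂ)⁻¹ else 0 := by
  classical
  haveI : Fact (Nat.Prime 2) := ⟨Nat.prime_two⟩
  haveI := Fintype.ofFinite G
  haveI := Fintype.ofFinite N
  have hN0 : (Nat.card N : ℂ) ≠ 0 := Nat.cast_ne_zero.mpr Nat.card_pos.ne'
  have hmem : ∀ χ : IrrCharacter G, χ ∈ principalBlock M G ↔ Char.TrivOn N χ.1 := by
    intro χ
    refine ⟨trivOn_of_mem_principalBlock hM hodd, fun h => ?_⟩
    refine BlockCount.mem_principalBlock_of_pregSum_ne_zero hM ?_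
    have hset : Finset.univ.filter (fun x : G => ¬ 2 ∣ orderOf x) =
        Finset.univ.filter (fun x : G => x ∈ N) := by
      ext x
      simp only [Finset.mem_filter, Finset.mem_univ, true_and, not_two_dvd_iff_odd]
      exact ⟨hreg x, fun hx => hodd.of_dvd_nat (Subgroup.orderOf_dvd_natCard N hx)⟩
    rw [BlockCount.pregSum, hset, Finset.sum_congr rfl (g := fun _ => χ.1 1) (fun x hx =>
      h x (Finset.mem_filter.mp hx).2), Finset.sum_const, nsmul_eq_mul]
    refine mul_ne_zero ?_ (Blocks.irr_one_ne_zero χ)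
    exact Nat.cast_ne_zero.mpr (Finset.card_pos.mpr ⟨1, by simp⟩).ne'
  rw [Blocks.blockCoeff_eq_sum]
  simp only [hmem]
  have h := Char.sum_trivOn_mul_conj N 1 g
  rw [inv_mul_eq_iff_eq_mul₀ Char.card_ne_zero]
  simp only [one_mul] at h
  split_ifs with hg
  · have hc : Nat.card {k : N // IsConj (k : G) g} = Nat.card {x : G // IsConj g x} := by
      refine Nat.card_congr
        { toFun := fun k => ⟨k.1, k.2.symm⟩
          invFun := fun x => ⟨⟨x.1, ?_⟩, x.2.symm⟩
          left_inv := fun k => rfl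
          right_inv := fun x => rfl }
      obtain ⟨c, hc⟩ := isConj_iff.mp x.2
      exact hc ▸ ‹N.Normal›.conj_mem g hg c
    rw [hc, ← Nat.cast_mul, Blocks.card_isConj_eq_index, Subgroup.card_mul_index] at h
    field_simp
    linear_combination h
  · haveI : IsEmpty {k : N // IsConj (k : G) g} := by
      refine ⟨fun k => hg ?_⟩
      obtain ⟨c, hc⟩ := isConj_iff.mp k.2
      exact hc ▸ ‹N.Normal›.conj_mem _ k.1.2 c
    rw [Nat.card_of_isEmpty (α := {k : N // IsConj (k : G) g}), Nat.cast_zero, mul_zero] at h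
    rw [mul_zero]
    exact (mul_eq_zero.mp h).resolve_left hN0

/-- The average of a character over the odd part of the centralizer of a 2-element whose
centralizer has a normal 2-complement. -/
theorem sum_oddCentralizing_apply (hS : SecondPrincipal.{u}) (hM : IsPModular 2 M) [Fintype G]
    {u : G} (hu : ∃ k : ℕ, orderOf u = 2 ^ k) {N : Subgroup G}
    (hN : ∀ v, v ∈ N ↔ Commute u v ∧ Odd (orderOf v)) (χ : IrrCharacter G) :
    (χ ∈ principalBlock M G →
      ∑ v ∈ oddCentralizing u, χ.1 (u * v) = ((oddCentralizing u).card : ℂ) * χ.1 u) ∧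
    (χ ∉ principalBlock M G → ∑ v ∈ oddCentralizing u, χ.1 (u * v) = 0) := by
  classical
  haveI : Fact (Nat.Prime 2) := ⟨Nat.prime_two⟩
  set K := Subgroup.centralizer ({u} : Set G) with hK
  set N' := N.subgroupOf K with hN'
  have hle : N ≤ K := fun v hv =>
    Subgroup.mem_centralizer_singleton_iff.mpr ((hN v).mp hv).1.symm.eq
  haveI : N'.Normal := ⟨fun n hn c => by
    rw [hN', Subgroup.mem_subgroupOf, hN] at hn ⊢
    have hc : Commute u (c : G) := (Subgroup.mem_centralizer_singleton_iff.mp c.2).symm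
    simp only [Subgroup.coe_mul, Subgroup.coe_inv]
    refine ⟨(hc.mul_right hn.1).mul_right hc.inv_right, ?_⟩
    rw [← MulAut.conj_apply, MulEquiv.orderOf_eq]
    exact hn.2⟩
  have hodd : Odd (Nat.card N') := by
    rw [Nat.card_congr (Subgroup.subgroupOfEquivOfLe hle).toEquiv]
    by_contra h
    obtain ⟨x, hx⟩ := exists_prime_orderOf_dvd_card' (G := N) 2
      (even_iff_two_dvd.mp (Nat.not_odd_iff_even.mp h))
    have := ((hN x).mp x.2).2
    rw [Subgroup.orderOf_coe, hx] at this
    exact absurd this (by decide)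
  have hreg : ∀ g : K, Odd (orderOf g) → g ∈ N' := fun g hg => by
    rw [hN', Subgroup.mem_subgroupOf, hN]
    exact ⟨(Subgroup.mem_centralizer_singleton_iff.mp g.2).symm, by rwa [Subgroup.orderOf_coe]⟩
  have hcard : (Nat.card N' : ℂ) = ((oddCentralizing u).card : ℂ) := by
    rw [Nat.card_congr (Subgroup.subgroupOfEquivOfLe hle).toEquiv]
    congr 1
    rw [Nat.card_eq_fintype_card]
    exact Fintype.card_of_subtype _ fun v => by rw [mem_oddCentralizing, hN]
  have h1 : ∑ᶠ k : K, blockCoeff (principalBlock M K) k *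
      χ.1 (u * ((k * 1 : K) : G)) =
      ((oddCentralizing u).card : ℂ)⁻¹ * ∑ v ∈ oddCentralizing u, χ.1 (u * v) := by
    rw [finsum_eq_sum_of_fintype]
    simp only [blockCoeff_of_complement hM hodd hreg, mul_one, ite_mul, zero_mul, hcard]
    rw [← Finset.sum_filter, ← Finset.mul_sum]
    congr 1
    refine Finset.sum_bij (fun k _ => (k : G)) ?_ (fun a _ b _ h => Subtype.ext h) ?_ (fun _ _ => rfl)
    · intro k hk
      rw [mem_oddCentralizing, ← hN]
      exact (Finset.mem_filter.mp hk).2
    · intro v hv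
      rw [mem_oddCentralizing, ← hN] at hv
      exact ⟨⟨v, hle hv⟩, Finset.mem_filter.mpr ⟨Finset.mem_univ _, hv⟩, rfl⟩
  have hne : ((oddCentralizing u).card : ℂ) ≠ 0 := hcard ▸ Nat.cast_ne_zero.mpr Nat.card_pos.ne'
  obtain ⟨e1, e2⟩ := hS G M hM u hu χ 1 (by simp)
  rw [h1] at e1 e2
  refine ⟨fun h => ?_, fun h => ?_⟩
  · have := e1 h
    rw [inv_mul_eq_iff_eq_mul₀ hne] at this
    simpa using this
  · simpa [hne] using e2 h

end Cfsg.Agent.ZStar
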