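import Cfsg.Agent.Lib.ZStar.Minimal
import Cfsg.Agent.Lib.ZStar.Product
import Cfsg.Agent.Lib.Char.Linear
import Cfsg.Agent.Lib.Char.KernelSum

/-!
# The Z*-theorem: the character argument

In a minimal counterexample there is no involution commuting with `z` other than `z`, given the
two facts about the principal 2-block used by Glauberman.
-/

set_option linter.style.haveILetI false

namespace Cfsg.Agent.ZStar

open Cfsg
open scoped ComplexConjugate

universe u

/-- What the argument needs from the principal 2-block: a set of irreducible characters with the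
trivial one, constant on the odd parts in the core of the centralizer of the 2-part, and
orthogonal to the identity at every involution. -/
structure PrincipalSet (G : Type u) [Group G] (B : Finset (IrrCharacter G)) : Prop where
  triv : Char.trivialChar G ∈ B
  const : ∀ χ ∈ B, ∀ u : G, orderOf u = 2 → ∀ v ∈ centralizerPPrimeCore 2 u, χ.1 (u * v) = χ.1 u
  orth : ∀ s : G, orderOf s = 2 → ∑ χ ∈ B, χ.1 1 * conj (χ.1 s) = 0

variable {G : Type u} [Group G] [Finite G] {z : G}

theorem eq_trivialChar_of_const {χ : IrrCharacter G} (h : ∀ g : G, χ.1 g = χ.1 1) :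
    χ = Char.trivialChar G := by
  by_contra hne
  haveI := Fintype.ofFinite G
  have h0 := Char.sum_apply_eq_zero hne
  rw [Finset.sum_congr rfl (fun g _ => h g), Finset.sum_const, nsmul_eq_mul, mul_eq_zero] at h0
  exact h0.elim (Nat.cast_ne_zero.mpr Finset.univ_nonempty.card_pos.ne')
    (Blocks.irr_one_ne_zero χ)

/-- In a minimal counterexample no nontrivial irreducible character has `z` in its kernel. -/
theorem MinConfig.eq_trivial_of_apply_eq (hz : MinConfig z) {χ : IrrCharacter G}
    (h : χ.1 z = χ.1 1) : χ = Char.trivialChar G := by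
  refine eq_trivialChar_of_const fun g => ?_
  have hc := Char.irr_isCharacter χ
  haveI := CharInt.charKernel_normal hc
  have := hz.normal_eq_top (N := CharInt.charKernel hc) ((CharInt.mem_charKernel hc).mpr h)
  exact (CharInt.mem_charKernel hc).mp (this ▸ Subgroup.mem_top g)

/-- A character with `z` acting as `-1` is linear. -/
theorem MinConfig.linear_of_apply_eq_neg (hz : MinConfig z) {χ : IrrCharacter G}
    (h : χ.1 z = -χ.1 1) : χ.1 1 = 1 := by
  haveI := Fintype.ofFinite G
  have hc := Char.irr_isCharacter χ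
  have h1 := Blocks.irr_one_ne_zero χ
  set N := CharInt.charKernel hc
  haveI := CharInt.charKernel_normal hc
  have hmul : ∀ x, χ.1 (z * x) = -χ.1 x := by
    intro x
    have := CharInt.char_mul_of_mem_centre hc (g := z) (by rw [h, norm_neg]) x
    rw [h] at this
    exact mul_right_cancel₀ h1 (by rw [this]; ring)
  have hzi : z⁻¹ = z :=
    Involution.Isolated.inv_mul_self_eq (Involution.Isolated.mul_self hz.iso)
  haveI : (N ⊔ Subgroup.zpowers z).Normal := by
    refine ⟨fun x hx g => ?_⟩
    have hle : N ⊔ Subgroup.zpowers z ≤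
        (N ⊔ Subgroup.zpowers z).comap (MulAut.conj g).toMonoidHom := by
      refine sup_le (fun n hn => Subgroup.mem_sup_left
        ((CharInt.charKernel_normal hc).conj_mem n hn g)) ?_
      rw [Subgroup.zpowers_le]
      have hmem : z * (g * z * g⁻¹) ∈ N := by
        rw [CharInt.mem_charKernel, hmul, CharInt.char_conj_apply hc, h, neg_neg]
      show g * z * g⁻¹ ∈ N ⊔ Subgroup.zpowers z
      have : g * z * g⁻¹ = z * (z * (g * z * g⁻¹)) := by
        rw [← mul_assoc z, Involution.Isolated.mul_self hz.iso, one_mul]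
      rw [this]
      exact mul_mem (Subgroup.mem_sup_right (Subgroup.mem_zpowers z)) (Subgroup.mem_sup_left hmem)
    exact hle hx
  have htop := hz.normal_eq_top (N := N ⊔ Subgroup.zpowers z)
    (Subgroup.mem_sup_right (Subgroup.mem_zpowers z))
  have hval : ∀ g : G, χ.1 g = χ.1 1 ∨ χ.1 g = -χ.1 1 := by
    intro g
    obtain ⟨w, hw, n, hn, rfl⟩ : ∃ w ∈ Subgroup.zpowers z, ∃ n ∈ N, w * n = g :=
      Subgroup.mem_sup_of_normal_right.mp (show g ∈ Subgroup.zpowers z ⊔ N by
        rw [sup_comm, htop]; exact Subgroup.mem_top g)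
    obtain ⟨i, rfl⟩ := Subgroup.mem_zpowers_iff.mp hw
    rcases Int.even_or_odd i with ⟨j, rfl⟩ | ⟨j, rfl⟩
    · left
      rw [← two_mul, zpow_mul, zpow_two, Involution.Isolated.mul_self hz.iso, one_zpow, one_mul]
      exact hn
    · right
      rw [zpow_add, zpow_mul, zpow_two, Involution.Isolated.mul_self hz.iso, one_zpow, one_mul,
        zpow_one, hmul]
      exact congrArg Neg.neg hn
  obtain ⟨n, hn, hn1⟩ := Char.IsIrrCharacter.exists_degree χ.2
  have horth := Char.classInner_irr_self χ.2
  rw [classInner, Finset.sum_congr rfl (g := fun _ => (n : ℂ) * n) (fun g _ => by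
    rcases hval g with hg | hg <;> rw [hg, hn1] <;> simp), Finset.sum_const, nsmul_eq_mul,
    Finset.card_univ, ← Nat.card_eq_fintype_card, inv_mul_cancel_left₀
      (Nat.cast_ne_zero.mpr Nat.card_pos.ne')] at horth
  rw [hn1]
  have : n * n = 1 := by exact_mod_cast horth
  exact_mod_cast Nat.eq_one_of_mul_eq_one_left this

/-- At most one character has `z` acting as `-1`. -/
theorem MinConfig.unique_of_apply_eq_neg (hz : MinConfig z) {χ χ' : IrrCharacter G}
    (h : χ.1 z = -χ.1 1) (h' : χ'.1 z = -χ'.1 1) : χ = χ' := by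
  have hl := hz.linear_of_apply_eq_neg h
  have hl' := hz.linear_of_apply_eq_neg h'
  obtain ⟨lam, he⟩ := Char.IsCharacter.exists_monoidHom (Char.irr_isCharacter χ) hl
  obtain ⟨lam', he'⟩ := Char.IsCharacter.exists_monoidHom (Char.irr_isCharacter χ') hl'
  set K := lam.toHomUnits.eqLocus lam'.toHomUnits with hK
  haveI : K.Normal := ⟨fun x hx g => by
    have hx' : lam.toHomUnits x = lam'.toHomUnits x := hx
    show lam.toHomUnits (g * x * g⁻¹) = lam'.toHomUnits (g * x * g⁻¹)
    rw [map_mul, map_mul, map_mul, map_mul, map_inv, map_inv, mul_inv_cancel_comm,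
      mul_inv_cancel_comm, hx']⟩
  have hzK : z ∈ K := by
    show lam.toHomUnits z = lam'.toHomUnits z
    refine Units.ext ?_
    simp [he, he', h, h', hl, hl']
  have htop := hz.normal_eq_top hzK
  refine Subtype.ext (funext fun g => ?_)
  have := congrArg Units.val (show lam.toHomUnits g = lam'.toHomUnits g from
    (htop ▸ Subgroup.mem_top g : g ∈ K))
  simpa [he, he'] using this

/-- **Glauberman's argument.** -/
theorem MinConfig.eq_of_commute (hz : MinConfig z) {B : Finset (IrrCharacter G)}
    (hB : PrincipalSet G B) {s : G} (hs : orderOf s = 2) (hsz : Commute s z) : s = z := by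
  by_contra hne
  have hz2 := Involution.Isolated.mul_self hz.iso
  have hzi := Involution.Isolated.inv_mul_self_eq hz2
  have hs2 : s * s = 1 := by
    have := pow_orderOf_eq_one s; rwa [hs, pow_two] at this
  have hprod : ∀ {s : G}, orderOf s = 2 → Commute s z → s ≠ z → ∀ χ ∈ B,
      χ.1 z * χ.1 s = χ.1 1 * χ.1 (z * s) := by
    intro s hs hsz hne χ hχ
    have hc : IsClassFunction G χ.1 := Blocks.irr_classFun χ
    refine apply_mul_apply_eq χ fun a b ha hb => ?_
    obtain ⟨u, v, huv, hu, hv⟩ := hz.exists_parts hs hsz hne ha hb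
    obtain ⟨g, hg⟩ := isConj_iff.mp hu
    have hu2 : orderOf u = 2 := by
      rw [← hg, ← MulAut.conj_apply, MulEquiv.orderOf_eq, orderOf_eq_prime_iff, pow_two]
      have hs2 : s * s = 1 := by
        have := pow_orderOf_eq_one s; rwa [hs, pow_two] at this
      refine ⟨?_, fun h => hne ?_⟩
      · calc z * s * (z * s) = z * (s * z) * s := by group
          _ = 1 := by rw [hsz.eq, ← mul_assoc z z, hz2, one_mul, hs2]
      · rw [← hzi]
        exact (inv_eq_of_mul_eq_one_right h).symm
    rw [huv, hB.const χ hχ u hu2 v hv]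
    exact (Char.IsClassFunction.apply_of_isConj hc hu).symm
  have hzs2 : orderOf (z * s) = 2 := by
    rw [orderOf_eq_prime_iff, pow_two]
    refine ⟨?_, fun h => hne ?_⟩
    · calc z * s * (z * s) = z * (s * z) * s := by group
        _ = 1 := by rw [hsz.eq, ← mul_assoc z z, hz2, one_mul, hs2]
    · rw [← hzi]
      exact (inv_eq_of_mul_eq_one_right h).symm
  have hzsz : Commute (z * s) z := (Commute.refl z).mul_left hsz
  have hzsne : z * s ≠ z := fun h => by
    rw [mul_eq_left.mp h] at hs; simp at hs
  -- for each `χ` in `B`: `χ s = 0` or `χ z = ± χ 1`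
  have hdich : ∀ χ ∈ B, χ.1 s = 0 ∨ χ.1 z = χ.1 1 ∨ χ.1 z = -χ.1 1 := by
    intro χ hχ
    have h1 := hprod hs hsz hne χ hχ
    have h2 := hprod hzs2 hzsz hzsne χ hχ
    rw [← mul_assoc z z, hz2, one_mul] at h2
    have h3 : (χ.1 z * χ.1 z - χ.1 1 * χ.1 1) * χ.1 s = 0 := by
      linear_combination χ.1 z * h1 + χ.1 1 * h2
    rcases mul_eq_zero.mp h3 with h4 | h4
    · exact Or.inr (mul_self_eq_mul_self_iff.mp (sub_eq_zero.mp h4))
    · exact Or.inl h4
  have key : ∀ {t : G}, orderOf t = 2 → (∀ χ ∈ B, χ.1 t = 0 ∨ χ.1 z = χ.1 1 ∨ χ.1 z = -χ.1 1) →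
      ∃ χ ∈ B, χ.1 z = -χ.1 1 ∧ χ.1 t = -1 := by
    intro t ht hd
    classical
    have h0 := hB.orth t ht
    rw [← Finset.add_sum_erase B _ hB.triv] at h0
    by_cases hex : ∃ χ ∈ B, χ.1 z = -χ.1 1
    · obtain ⟨χ, hχ, hχz⟩ := hex
      have hl := hz.linear_of_apply_eq_neg hχz
      have hχne : χ ≠ Char.trivialChar G := fun h => by
        rw [h] at hχz; norm_num at hχz
      rw [Finset.sum_eq_single χ] at h0
      · refine ⟨χ, hχ, hχz, ?_⟩
        simp only [Char.trivialChar_apply, map_one, one_mul, hl] at h0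
        have h5 := congrArg (starRingEnd ℂ) (eq_neg_of_add_eq_zero_right h0)
        simpa using h5
      · intro ψ hψ hψne
        obtain ⟨hψ1, hψB⟩ := Finset.mem_erase.mp hψ
        rcases hd ψ hψB with h | h | h
        · simp [h]
        · exact absurd (hz.eq_trivial_of_apply_eq h) hψ1
        · exact absurd (hz.unique_of_apply_eq_neg h hχz) hψne
      · intro h
        exact absurd (Finset.mem_erase.mpr ⟨hχne, hχ⟩) h
    · exfalso
      push Not at hex
      rw [Finset.sum_eq_zero] at h0
      · simp at h0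
      · intro ψ hψ
        obtain ⟨hψ1, hψB⟩ := Finset.mem_erase.mp hψ
        rcases hd ψ hψB with h | h | h
        · simp [h]
        · exact absurd (hz.eq_trivial_of_apply_eq h) hψ1
        · exact absurd h (hex ψ hψB)
  obtain ⟨χ, hχ, hχz, hχs⟩ := key hs hdich
  obtain ⟨χ', hχ', hχ'z, hχ'zs⟩ := key hzs2 (fun ψ hψ => by
    rcases hdich ψ hψ with h | h
    · left
      have h1 := hprod hs hsz hne ψ hψ
      rw [h, mul_zero] at h1
      exact (mul_eq_zero.mp h1.symm).resolve_left (Blocks.irr_one_ne_zero ψ)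
    · exact Or.inr h)
  rw [← hz.unique_of_apply_eq_neg hχz hχ'z] at hχ'zs
  have h1 := hprod hs hsz hne χ hχ
  rw [hχz, hχs, hχ'zs, hz.linear_of_apply_eq_neg hχz] at h1
  norm_num at h1

end Cfsg.Agent.ZStar
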