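import Cfsg.Agent.Lib.ZStar.HomocyclicChars
import Cfsg.Agent.Lib.Char.ClassSum

/-!
# The two sums entering the class multiplication relation
-/

set_option linter.style.haveILetI false

namespace Cfsg.Agent.ZStar

open Cfsg
open scoped ComplexConjugate

universe u

variable {G : Type u} [Group G] [Fintype G] {M : Ideal AlgInt}

namespace ThreeData

variable {P : Subgroup G} {σ : P ≃* P} (h : ThreeData P σ)
include h

/-- An element of order at least four is no product of two conjugates of an involution. -/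
theorem no_product {x t : P} (hx : x * x ≠ 1) (ht : t * t = 1) {v : G} (hcv : Commute (x : G) v)
    (hov : Odd (orderOf v)) (p q : G) :
    p * t * p⁻¹ * (q * t * q⁻¹) ≠ ((x : G) * v)⁻¹ := by
  haveI : Fact (Nat.Prime 2) := ⟨Nat.prime_two⟩
  intro hp
  have hxne : x ≠ 1 := fun e => hx (by rw [e, one_mul])
  have htG : (t : G) * t = 1 := by exact_mod_cast ht
  set a := p * (t : G) * p⁻¹ with ha
  set b := q * (t : G) * q⁻¹ with hb
  have ha2 : a * a = 1 := by
    calc a * a = p * ((t : G) * t) * p⁻¹ := by rw [ha]; group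
      _ = 1 := by rw [htG]; group
  have hb2 : b * b = 1 := by
    calc b * b = q * ((t : G) * t) * q⁻¹ := by rw [hb]; group
      _ = 1 := by rw [htG]; group
  have hai : a⁻¹ = a := inv_eq_of_mul_eq_one_right ha2
  have hbi : b⁻¹ = b := inv_eq_of_mul_eq_one_right hb2
  have hxv : (x : G) * v = b * a := by
    rw [← inv_inv ((x : G) * v), ← hp, mul_inv_rev, hai, hbi]
  have hconj : a * ((x : G) * v) * a⁻¹ = ((x : G) * v)⁻¹ := by
    rw [hxv, hai, mul_inv_rev b a, hai, hbi]
    calc a * (b * a) * a = a * b * (a * a) := by simp only [mul_assoc]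
      _ = a * b := by rw [ha2, mul_one]
  have h1 := Blocks.IsPPart.conj
    (Blocks.isPPart_mul hcv (h.two_pow x) (not_two_dvd_iff_odd.mpr hov)) a
  rw [hconj] at h1
  have h2 : IsPPart 2 ((x : G) * v)⁻¹ ((x⁻¹ : P) : G) := by
    refine ⟨v⁻¹, ?_, ?_, h.two_pow x⁻¹, ?_⟩
    · rw [Subgroup.coe_inv, ← mul_inv_rev, hcv.eq]
    · rw [Subgroup.coe_inv]; exact hcv.inv_inv
    · rw [orderOf_inv]; exact not_two_dvd_iff_odd.mpr hov
  have h3 := Blocks.IsPPart.unique h1 h2
  rcases h.fusion x x⁻¹ (isConj_iff.mpr ⟨a, h3⟩) with r | r | r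
  · exact hx (eq_inv_iff_mul_eq_one.mp r.symm)
  · have r2 : σ (σ x) = x := by rw [← r, map_inv, ← r, inv_inv]
    have r3 := h.cube x
    rw [r2] at r3
    exact hxne (h.fpf x r3)
  · have r2 : σ (σ x⁻¹) = x := by rw [map_inv, map_inv, ← r, inv_inv]
    rw [r] at r2
    have r3 : σ x = x := by
      have := h.cube (σ x)
      rw [r2] at this
      exact this.symm
    exact hxne (h.fpf x r3)

open Classical in
/-- The class multiplication relation, restricted to the principal block. -/
theorem structure_sum (hS : SecondPrincipal.{u}) (hM : IsPModular 2 M) {x t : P}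
    (hx : x * x ≠ 1) (ht : t * t = 1) :
    ∑ χ ∈ Finset.univ.filter (· ∈ principalBlock M G),
      χ.1 (t : G) * χ.1 (t : G) / χ.1 1 * χ.1 (x : G) = 0 := by
  have hxne : x ≠ 1 := fun e => hx (by rw [e, one_mul])
  have hzero : ∑ v ∈ oddCentralizing (x : G),
      ∑ χ : IrrCharacter G, χ.1 (t : G) * χ.1 (t : G) / χ.1 1 * χ.1 ((x : G) * v) = 0 := by
    refine Finset.sum_eq_zero fun v hv => ?_
    obtain ⟨hcv, hov⟩ := mem_oddCentralizing.mp hv
    have e := Char.card_conj_mul_conj_eq (t : G) (t : G) (((x : G) * v)⁻¹)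
    haveI : IsEmpty {p : G × G //
        p.1 * (t : G) * p.1⁻¹ * (p.2 * (t : G) * p.2⁻¹) = ((x : G) * v)⁻¹} :=
      ⟨fun p => h.no_product hx ht hcv hov _ _ p.2⟩
    rw [Nat.card_of_isEmpty, Nat.cast_zero] at e
    rcases mul_eq_zero.mp e.symm with r | r
    · exact absurd r Char.card_ne_zero
    · rw [← r]
      exact Finset.sum_congr rfl fun χ _ => by rw [inv_inv]; ring
  obtain ⟨N, hN, -⟩ := h.compl x hxne
  have hn0 : ((oddCentralizing (x : G)).card : ℂ) ≠ 0 :=
    Nat.cast_ne_zero.mpr (Finset.card_pos.mpr ⟨1, mem_oddCentralizing.mpr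
      ⟨Commute.one_right _, by rw [orderOf_one]; decide⟩⟩).ne'
  rw [Finset.sum_comm, Finset.sum_congr rfl
    (g := fun χ : IrrCharacter G => if χ ∈ principalBlock M G then
      ((oddCentralizing (x : G)).card : ℂ) *
        (χ.1 (t : G) * χ.1 (t : G) / χ.1 1 * χ.1 (x : G)) else 0) (fun χ _ => by
      obtain ⟨e1, e2⟩ := sum_oddCentralizing_apply hS hM (h.two_pow x) hN χ
      rw [← Finset.mul_sum]
      split_ifs with hχ
      · rw [e1 hχ]; ring
      · rw [e2 hχ, mul_zero]), ← Finset.sum_filter, ← Finset.mul_sum] at hzero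
  exact (mul_eq_zero.mp hzero).resolve_left hn0

theorem sum_irr (y : P) [DecidableEq P] [Fintype P] :
    ∑ μ : IrrCharacter P, μ.1 y = if y = 1 then (Nat.card P : ℂ) else 0 := by
  classical
  have e := Char.sum_irr_degree_mul y
  simp only [h.irr_one, one_mul] at e
  rw [e]
  split_ifs <;> rfl

open Classical in
theorem sum_nontrivial (y : P) [Fintype P] :
    ∑ μ ∈ Finset.univ.filter (· ≠ Char.trivialChar P), μ.1 y =
      (if y = 1 then (Nat.card P : ℂ) else 0) - 1 := by
  have e := h.sum_irr y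
  rw [← Finset.add_sum_erase _ _ (Finset.mem_univ (Char.trivialChar P)),
    Char.trivialChar_apply] at e
  rw [Finset.filter_ne']
  linear_combination e

open Classical in
/-- The squared orbit sums at an involution against an element of order at least four. -/
theorem sum_theta_sq {x t : P} (hx : x * x ≠ 1) (ht : t * t = 1) [Fintype P] :
    ∑ μ ∈ Finset.univ.filter (· ≠ Char.trivialChar P), μ.1 x * h.theta μ t ^ 2 = -9 := by
  have hmul : ∀ u v : P, u * u = 1 → v * v = 1 → (u * v) * x ≠ 1 := by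
    intro u v hu hv e
    refine hx ?_
    rw [eq_inv_of_mul_eq_one_right e, ← mul_inv_rev,
      show u * v * (u * v) = u * u * (v * v) by
        rw [mul_assoc, ← mul_assoc v u v, h.comm v u, mul_assoc u v v, ← mul_assoc],
      hu, hv, one_mul, inv_one]
  have hσ2 : ∀ u : P, u * u = 1 → σ u * σ u = 1 := fun u hu => by rw [← map_mul, hu, map_one]
  have hall : ∑ μ : IrrCharacter P, μ.1 x * h.theta μ t ^ 2 = 0 := by
    have e : ∀ μ : IrrCharacter P, μ.1 x * h.theta μ t ^ 2 =
        μ.1 (t * t * x) + μ.1 (σ t * σ t * x) + μ.1 (σ (σ t) * σ (σ t) * x) +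
        2 * μ.1 (t * σ t * x) + 2 * μ.1 (t * σ (σ t) * x) + 2 * μ.1 (σ t * σ (σ t) * x) := by
      intro μ
      simp only [theta, h.irr_mul]
      ring
    rw [Finset.sum_congr rfl (fun μ _ => e μ)]
    simp only [Finset.sum_add_distrib, ← Finset.mul_sum, h.sum_irr]
    rw [if_neg (hmul _ _ ht ht), if_neg (hmul _ _ (hσ2 _ ht) (hσ2 _ ht)),
      if_neg (hmul _ _ (hσ2 _ (hσ2 _ ht)) (hσ2 _ (hσ2 _ ht))),
      if_neg (hmul _ _ ht (hσ2 _ ht)), if_neg (hmul _ _ ht (hσ2 _ (hσ2 _ ht))),
      if_neg (hmul _ _ (hσ2 _ ht) (hσ2 _ (hσ2 _ ht)))]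
    ring
  rw [← Finset.add_sum_erase _ _ (Finset.mem_univ (Char.trivialChar P))] at hall
  rw [Finset.filter_ne']
  simp only [Char.trivialChar_apply, theta] at hall ⊢
  linear_combination hall

end ThreeData

end Cfsg.Agent.ZStar
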