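import Cfsg.Agent.Lib.ZStar.HomocyclicShape
import Cfsg.Agent.Lib.ZStar.HomocyclicSum

/-!
# A linear character trivial on the Sylow subgroup
-/

set_option linter.style.haveILetI false

namespace Cfsg.Agent.ZStar

open Cfsg
open scoped ComplexConjugate

universe u

/-- The only solution of the degree equations. -/
theorem degree_equations {A B C : ℤ} (hC : C = 1 + A + B) (he : C * (A * B + A + B) = 9 * A * B)
    (hA : (16 : ℤ) ∣ A - 1) (hB : (16 : ℤ) ∣ B - 1) : A = 1 ∧ B = 1 := by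
  obtain ⟨a, ha⟩ := hA
  obtain ⟨b, hb⟩ := hB
  subst hC
  -- the mixed case
  have mixed : ∀ X Y : ℤ, X ≤ -15 → 1 ≤ Y → (∃ x y, X - 1 = 16 * x ∧ Y - 1 = 16 * y) →
      (1 + X + Y) * (X * Y + X + Y) = 9 * X * Y → False := by
    rintro X Y hX hY ⟨x, y, hx, hy⟩ h
    have hneg : X * Y + X + Y < 0 := by nlinarith
    have hXY : X * Y < 0 := by nlinarith
    have hC0 : 0 < 1 + X + Y := by
      by_contra hc
      nlinarith [mul_nonneg_of_nonpos_of_nonpos (by omega : 1 + X + Y ≤ 0) hneg.le]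
    have hlt : 1 + X + Y < 10 := by
      by_contra hc
      nlinarith [mul_le_mul_of_nonpos_right (not_lt.mp hc) hneg.le]
    have h3 : 1 + X + Y = 3 := by omega
    have hY' : Y = 2 - X := by omega
    subst hY'
    nlinarith
  rcases le_or_gt 0 A with hA0 | hA0 <;> rcases le_or_gt 0 B with hB0 | hB0
  · have hA1 : 1 ≤ A := by omega
    have hB1 : 1 ≤ B := by omega
    have key : A * (B - 1) ^ 2 + B * (A - 1) ^ 2 + (A - B) ^ 2 = 0 := by linear_combination he
    have t1 : 0 ≤ A * (B - 1) ^ 2 := by positivity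
    have t2 : 0 ≤ B * (A - 1) ^ 2 := by positivity
    have t3 : 0 ≤ (A - B) ^ 2 := sq_nonneg _
    have e1 : A * (B - 1) ^ 2 = 0 := by omega
    have e2 : B * (A - 1) ^ 2 = 0 := by omega
    rcases mul_eq_zero.mp e1 with h | h
    · omega
    rcases mul_eq_zero.mp e2 with h' | h'
    · omega
    exact ⟨by have := pow_eq_zero_iff (n := 2) two_ne_zero |>.mp h'; omega,
      by have := pow_eq_zero_iff (n := 2) two_ne_zero |>.mp h; omega⟩
  · exact (mixed B A (by omega) (by omega) ⟨b, a, hb, ha⟩ (by linear_combination he)).elim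
  · exact (mixed A B (by omega) (by omega) ⟨a, b, ha, hb⟩ he).elim
  · have h1 : 0 < A * B + A + B := by
      nlinarith [mul_le_mul_of_nonpos_left (show B ≤ -15 by omega) (show A + 1 ≤ 0 by omega)]
    have h2 : 0 < A * B := by nlinarith
    have h3 : 1 + A + B < 0 := by omega
    nlinarith [mul_neg_of_neg_of_pos h3 h1]

variable {G : Type u} [Group G] [Fintype G] {M : Ideal AlgInt}

namespace ThreeData

variable {P : Subgroup G} {σ : P ≃* P} (h : ThreeData P σ)
include h

open Classical in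
theorem card_mate_le [Fintype P] (μ : {μ : IrrCharacter P // μ ≠ Char.trivialChar P}) :
    (Finset.univ.filter fun ν : {μ : IrrCharacter P // μ ≠ Char.trivialChar P} =>
      h.Mate ν.1 μ.1).card ≤ 3 := by
  rw [← Finset.card_image_of_injective _ Subtype.val_injective]
  refine (Finset.card_le_card (t := {μ.1, h.rot μ.1, h.rot (h.rot μ.1)}) fun ν hν => ?_).trans
    Finset.card_le_three
  obtain ⟨ν', hν', rfl⟩ := Finset.mem_image.mp hν
  rcases (Finset.mem_filter.mp hν').2 with r | r | r <;> simp [r]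

open Classical in
theorem sum_mate [Fintype P] {μ : IrrCharacter P} (hμ : μ ≠ Char.trivialChar P) (t : P) :
    ∑ ν ∈ (Finset.univ.filter (· ≠ Char.trivialChar P)).filter (fun ν => h.Mate ν μ), ν.1 t =
      h.theta μ t := by
  have hfil : (Finset.univ.filter (· ≠ Char.trivialChar P)).filter (fun ν => h.Mate ν μ) =
      ({μ, h.rot μ, h.rot (h.rot μ)} : Finset (IrrCharacter P)) := by
    ext ν
    rw [Finset.mem_filter, Finset.mem_filter]
    simp only [Finset.mem_univ, true_and, Finset.mem_insert, Finset.mem_singleton, Mate]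
    refine ⟨fun r => r.2, fun r => ⟨?_, r⟩⟩
    rcases r with rfl | rfl | rfl
    · exact hμ
    · exact h.rot_ne_trivial hμ
    · exact h.rot_ne_trivial (h.rot_ne_trivial hμ)
  have d1 : h.rot μ ≠ μ := fun e => hμ (h.rot_eq_self e)
  have d2 : h.rot (h.rot μ) ≠ h.rot μ := fun e => d1 (h.rot_injective e)
  have d3 : h.rot (h.rot μ) ≠ μ := fun e => d1 (by
    have := congrArg h.rot e
    rw [h.rot_cube] at this
    exact this.symm)
  rw [hfil, Finset.sum_insert (by simp [d1.symm, d3.symm]), Finset.sum_pair d2.symm]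
  simp only [h.rot_apply, theta]
  ring

theorem card_irr [Fintype P] : Fintype.card (IrrCharacter P) = Nat.card P := by
  have e := Char.sum_irr_degree_sq (G := P)
  simp only [h.irr_one, one_pow, Finset.sum_const, nsmul_one, Finset.card_univ] at e
  exact_mod_cast e

open Classical in
/-- There is a nontrivial linear character trivial on `P`. -/
theorem exists_linear (hS : SecondPrincipal.{u}) (hM : IsPModular 2 M) [Fintype P] {x t : P}
    (hx : x * x ≠ 1) (ht : t * t = 1) (ht1 : t ≠ 1) :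
    ∃ χ : IrrCharacter G, χ ≠ Char.trivialChar G ∧ χ.1 1 = 1 ∧ ∀ y : P, χ.1 (y : G) = 1 := by
  haveI := hM.2.1
  obtain ⟨W, hdeg, htriv, hnorm, hout, hval⟩ := h.exists_weights hS hM
  obtain ⟨k, hk4, hkcard⟩ := h.card
  have h16 : (16 : ℤ) ∣ (Nat.card P : ℤ) := by
    rw [hkcard]
    exact_mod_cast (pow_dvd_pow 2 hk4)
  have hPge : 16 ≤ Nat.card P := by
    rw [hkcard]
    exact le_trans (by norm_num) (Nat.pow_le_pow_right (by norm_num : 0 < 2) hk4)
  obtain ⟨a, b, α, β, haT, hbT, hab, hα1, hβ1, hshape⟩ := exists_shape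
    (fun μ : {μ : IrrCharacter P // μ ≠ Char.trivialChar P} => W μ.1) (Char.trivialChar G)
    (fun μ ν => h.Mate μ.1 ν.1) (fun μ => Or.inl rfl) h.card_mate_le
    (by rw [Fintype.card_subtype, Finset.filter_ne', Finset.card_erase_of_mem (Finset.mem_univ _),
          Finset.card_univ, h.card_irr]
        omega)
    (fun μ => htriv μ.1 μ.2) (fun μ ν => hnorm μ.1 ν.1 μ.2 ν.2)
  choose hWa hWb c s hs hcT hca hcb hcz hcW using hshape
  have hμ₀ : ∃ μ₀ : IrrCharacter P, μ₀ ≠ Char.trivialChar P := by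
    haveI : Nontrivial (IrrCharacter P) := Fintype.one_lt_card_iff_nontrivial.mp (by
      rw [h.card_irr]; omega)
    exact exists_ne _
  obtain ⟨μ₀, hμ₀⟩ := hμ₀
  have hmemB : ∀ μ χ, W μ χ ≠ 0 → χ ∈ principalBlock M G := fun μ χ h0 => by
    by_contra hn
    exact h0 (hout μ χ hn)
  have hα0 : α ≠ 0 := by omega
  have hβ0 : β ≠ 0 := by omega
  have hd0 : ∀ χ : IrrCharacter G, 1 ≤ (charDegree χ.1 : ℤ) := fun χ => by
    have : charDegree χ.1 ≠ 0 := fun e => Blocks.irr_one_ne_zero χ (by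
      rw [← Char.charDegree_cast, e, Nat.cast_zero])
    exact_mod_cast Nat.pos_of_ne_zero this
  have hT1 : (charDegree (Char.trivialChar G).1 : ℤ) = 1 := by
    have : (charDegree (Char.trivialChar G).1 : ℂ) = ((1 : ℕ) : ℂ) := by
      rw [Char.charDegree_cast, Char.trivialChar_apply, Nat.cast_one]
    exact_mod_cast this
  -- the degrees
  set A := α * (charDegree a.1 : ℤ) with hA
  set B := β * (charDegree b.1 : ℤ) with hB
  set C := 1 + A + B with hCdef
  have hC : ∀ μ, s μ * (charDegree (c μ).1 : ℤ) = -C := by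
    intro μ
    have e := hdeg μ.1 μ.2
    rw [sum_four haT hbT (hcT μ) hab (hca μ).symm (hcb μ).symm (hcz μ), htriv μ.1 μ.2, hT1,
      hWa, hWb, hcW, if_pos (show h.Mate μ.1 μ.1 from Or.inl rfl)] at e
    rw [hCdef, hA, hB]
    linarith
  have hC0 : C ≠ 0 := by
    intro e
    have := hC ⟨μ₀, hμ₀⟩
    rw [e, neg_zero, mul_eq_zero] at this
    rcases this with r | r
    · rcases hs ⟨μ₀, hμ₀⟩ with q | q <;> omega
    · linarith [hd0 (c ⟨μ₀, hμ₀⟩)]
  -- values at the nontrivial elements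
  have hxne : x ≠ 1 := fun e => hx (by rw [e, one_mul])
  have hconst : ∀ χ (γ : ℤ), γ ≠ 0 → (∀ μ, μ ≠ Char.trivialChar P → W μ χ = γ) →
      (∀ y : P, y ≠ 1 → χ.1 (y : G) = (γ : ℂ)) ∧ (16 : ℤ) ∣ (charDegree χ.1 : ℤ) - γ := by
    intro χ γ hγ0 hγ
    obtain ⟨m, hm⟩ := hval χ (hmemB μ₀ χ (by rw [hγ μ₀ hμ₀]; exact hγ0))
    have e : ∀ y : P, χ.1 (y : G) =
        ((m : ℂ) - γ) * (if y = 1 then (Nat.card P : ℂ) else 0) + γ := by
      intro y
      rw [hm, Finset.sum_congr rfl (g := fun μ => (γ : ℂ) * μ.1 y) (fun μ hμ => by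
        rw [hγ μ (Finset.mem_filter.mp hμ).2]), ← Finset.mul_sum, h.sum_nontrivial]
      ring
    refine ⟨fun y hy => by rw [e, if_neg hy]; ring, ?_⟩
    have e1 := e 1
    rw [if_pos rfl, Subgroup.coe_one, ← Char.charDegree_cast] at e1
    have e2 : (charDegree χ.1 : ℤ) = (m - γ) * (Nat.card P : ℤ) + γ := by exact_mod_cast e1
    rw [e2, add_sub_cancel_right]
    exact Dvd.dvd.mul_left h16 _
  obtain ⟨haval, hadvd⟩ := hconst a α hα0 fun μ hμ => hWa ⟨μ, hμ⟩
  obtain ⟨hbval, hbdvd⟩ := hconst b β hβ0 fun μ hμ => hWb ⟨μ, hμ⟩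
  have hcval : ∀ μ, (c μ).1 (t : G) = -(s μ : ℂ) * h.theta μ.1 t := by
    intro μ
    have hne : W μ.1 (c μ) ≠ 0 := by
      rw [hcW, if_pos (show h.Mate μ.1 μ.1 from Or.inl rfl)]
      rcases hs μ with q | q <;> omega
    obtain ⟨m, hm⟩ := hval (c μ) (hmemB _ _ hne)
    rw [hm, if_neg ht1, mul_zero, zero_sub, Finset.sum_congr rfl
      (g := fun ν => if h.Mate ν μ.1 then (s μ : ℂ) * ν.1 t else 0) (fun ν hν => by
        have e := hcW μ ⟨ν, (Finset.mem_filter.mp hν).2⟩
        rw [e]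
        split_ifs <;> simp), ← Finset.sum_filter, ← Finset.mul_sum, h.sum_mate μ.2, neg_mul]
  -- the class multiplication relation
  have hQx : ∀ χ : IrrCharacter G, χ ∈ principalBlock M G → χ.1 (x : G) =
      -∑ μ ∈ Finset.univ.filter (· ≠ Char.trivialChar P), (W μ χ : ℂ) * μ.1 x := by
    intro χ hχ
    obtain ⟨m, hm⟩ := hval χ hχ
    rw [hm, if_neg hxne, mul_zero, zero_sub]
  set Q : IrrCharacter G → ℂ := fun χ => χ.1 (t : G) * χ.1 (t : G) / χ.1 1 with hQ
  have hinner : ∀ μ : {μ : IrrCharacter P // μ ≠ Char.trivialChar P}, ∑ χ, (W μ.1 χ : ℂ) * Q χ =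
      1 + (α : ℂ) / charDegree a.1 + (β : ℂ) / charDegree b.1 - h.theta μ.1 t ^ 2 / C := by
    intro μ
    rw [sum_four haT hbT (hcT μ) hab (hca μ).symm (hcb μ).symm
      (V := fun χ => (W μ.1 χ : ℂ)) (fun χ h1 h2 h3 h4 => by rw [hcz μ χ h1 h2 h3 h4, Int.cast_zero])
      Q, htriv μ.1 μ.2, hWa, hWb, hcW, if_pos (show h.Mate μ.1 μ.1 from Or.inl rfl)]
    simp only [hQ, Char.trivialChar_apply]
    rw [haval t ht1, hbval t ht1, hcval μ, ← Char.charDegree_cast a, ← Char.charDegree_cast b,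
      ← Char.charDegree_cast (c μ)]
    have hsd : (s μ : ℂ) * (charDegree (c μ).1 : ℂ) = -(C : ℂ) := by exact_mod_cast hC μ
    have ha2 : (α : ℂ) * α = 1 := by rcases hα1 with r | r <;> simp [r]
    have hb2 : (β : ℂ) * β = 1 := by rcases hβ1 with r | r <;> simp [r]
    have hs2 : (s μ : ℂ) * s μ = 1 := by rcases hs μ with r | r <;> simp [r]
    have hdne : (charDegree (c μ).1 : ℂ) ≠ 0 := by
      rw [Char.charDegree_cast]; exact Blocks.irr_one_ne_zero _
    have hsC : (s μ : ℂ) / (charDegree (c μ).1 : ℂ) = -(1 / (C : ℂ)) := by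
      have : (C : ℂ) ≠ 0 := Int.cast_ne_zero.mpr hC0
      field_simp
      linear_combination (s μ : ℂ) * hsd - (charDegree (c μ).1 : ℂ) * hs2
    rw [show (α : ℂ) * (α * α / (charDegree a.1 : ℂ)) = α / charDegree a.1 by
        rw [ha2]; ring,
      show (β : ℂ) * (β * β / (charDegree b.1 : ℂ)) = β / charDegree b.1 by rw [hb2]; ring,
      show (s μ : ℂ) * (-(s μ : ℂ) * h.theta μ.1 t * (-(s μ : ℂ) * h.theta μ.1 t) /
        (charDegree (c μ).1 : ℂ)) = h.theta μ.1 t ^ 2 * ((s μ : ℂ) * s μ) *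
          ((s μ : ℂ) / (charDegree (c μ).1 : ℂ)) by ring, hs2, hsC]
    push_cast
    ring
  have hrel : ∑ μ ∈ Finset.univ.filter (· ≠ Char.trivialChar P),
      μ.1 x * ∑ χ, (W μ χ : ℂ) * Q χ = 0 := by
    have e := h.structure_sum hS hM hx ht
    rw [Finset.sum_congr rfl (g := fun χ => -∑ μ ∈ Finset.univ.filter (· ≠ Char.trivialChar P),
      μ.1 x * ((W μ χ : ℂ) * Q χ)) (fun χ hχ => by
        rw [hQx χ (Finset.mem_filter.mp hχ).2, mul_neg, Finset.mul_sum]
        exact congrArg _ (Finset.sum_congr rfl fun μ _ => by simp only [hQ]; ring)),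
      Finset.sum_neg_distrib, neg_eq_zero, Finset.sum_comm] at e
    rw [← e]
    refine Finset.sum_congr rfl fun μ _ => ?_
    rw [Finset.mul_sum, Finset.sum_filter_of_ne fun χ _ h0 => hmemB μ χ fun hz => h0 (by
      rw [hz, Int.cast_zero, zero_mul, mul_zero])]
  rw [Finset.sum_congr rfl
    (g := fun μ => (1 + (α : ℂ) / charDegree a.1 + (β : ℂ) / charDegree b.1) * μ.1 x -
      (C : ℂ)⁻¹ * (μ.1 x * h.theta μ t ^ 2)) (fun μ hμ => by
        rw [hinner ⟨μ, (Finset.mem_filter.mp hμ).2⟩]; ring),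
    Finset.sum_sub_distrib, ← Finset.mul_sum, ← Finset.mul_sum, h.sum_nontrivial, if_neg hxne,
    h.sum_theta_sq hx ht] at hrel
  have hda : (charDegree a.1 : ℂ) ≠ 0 := by rw [Char.charDegree_cast]; exact Blocks.irr_one_ne_zero _
  have hdb : (charDegree b.1 : ℂ) ≠ 0 := by rw [Char.charDegree_cast]; exact Blocks.irr_one_ne_zero _
  have hCC : (C : ℂ) ≠ 0 := Int.cast_ne_zero.mpr hC0
  field_simp at hrel
  have hrelZ : (charDegree a.1 : ℤ) * charDegree b.1 * C +
      C * (α * charDegree b.1 + β * charDegree a.1) - 9 * charDegree a.1 * charDegree b.1 = 0 := by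
    have : (((charDegree a.1 : ℤ) * charDegree b.1 * C +
      C * (α * charDegree b.1 + β * charDegree a.1) - 9 * charDegree a.1 * charDegree b.1 : ℤ) : ℂ) =
        ((0 : ℤ) : ℂ) := by
      push_cast
      linear_combination -hrel
    exact_mod_cast this
  have he : C * (A * B + A + B) = 9 * A * B := by
    rw [hA, hB]
    rcases hα1 with r | r <;> rcases hβ1 with r' | r' <;> subst r <;> subst r'
    · linear_combination hrelZ
    · linear_combination -hrelZ
    · linear_combination -hrelZ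
    · linear_combination hrelZ
  obtain ⟨hA1, -⟩ := degree_equations hCdef he
    (by rcases hα1 with r | r <;> subst r
        · simpa [hA] using hadvd
        · obtain ⟨j, hj⟩ := hadvd; exact ⟨-j, by rw [hA]; linarith⟩)
    (by rcases hβ1 with r | r <;> subst r
        · simpa [hB] using hbdvd
        · obtain ⟨j, hj⟩ := hbdvd; exact ⟨-j, by rw [hB]; linarith⟩)
  have hα : α = 1 := by
    rcases hα1 with r | r
    · exact r
    · rw [hA, r] at hA1; linarith [hd0 a]
  have hda1 : charDegree a.1 = 1 := by rw [hA, hα, one_mul] at hA1; exact_mod_cast hA1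
  refine ⟨a, haT, by rw [← Char.charDegree_cast, hda1, Nat.cast_one], fun y => ?_⟩
  by_cases hy : y = 1
  · rw [hy, Subgroup.coe_one, ← Char.charDegree_cast, hda1, Nat.cast_one]
  · rw [haval y hy, hα, Int.cast_one]

end ThreeData

end Cfsg.Agent.ZStar
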