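import Cfsg.Agent.Lib.ZStar.Sunflower

/-!
# The shape of a family of integer vectors of norm four meeting in three
-/

namespace Cfsg.Agent.ZStar

theorem sum_four {ι : Type*} [DecidableEq ι] {R : Type*} [CommRing R] [Fintype ι] {T a b c : ι}
    (haT : a ≠ T) (hbT : b ≠ T) (hcT : c ≠ T) (hab : a ≠ b) (hac : a ≠ c) (hbc : b ≠ c) {V : ι → R}
    (hV : ∀ i, i ≠ T → i ≠ a → i ≠ b → i ≠ c → V i = 0) (F : ι → R) :
    ∑ i, V i * F i = V T * F T + V a * F a + V b * F b + V c * F c := by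
  rw [← Finset.sum_subset (Finset.subset_univ ({T, a, b, c} : Finset ι)) (fun i _ hi => by
    simp only [Finset.mem_insert, Finset.mem_singleton, not_or] at hi
    rw [hV i hi.1 hi.2.1 hi.2.2.1 hi.2.2.2, zero_mul]),
    Finset.sum_insert (by simp [haT.symm, hbT.symm, hcT.symm]),
    Finset.sum_insert (by simp [hab, hac]), Finset.sum_pair hbc]
  ring

variable {ι κ : Type*} [Fintype ι] [DecidableEq ι] [Fintype κ]

/-- Vectors with pairwise scalar product three have two common entries. -/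
theorem exists_shape (W : κ → ι → ℤ) (T : ι) (R : κ → κ → Prop) [DecidableRel R]
    (hrefl : ∀ μ, R μ μ) (hfib : ∀ μ, (Finset.univ.filter (R · μ)).card ≤ 3)
    (hcard : 15 ≤ Fintype.card κ) (hT : ∀ μ, W μ T = 1)
    (hW : ∀ μ ν, ∑ i, W μ i * W ν i = 3 + if R μ ν then 1 else 0) :
    ∃ a b : ι, ∃ α β : ℤ, a ≠ T ∧ b ≠ T ∧ a ≠ b ∧ (α = 1 ∨ α = -1) ∧ (β = 1 ∨ β = -1) ∧
      ∀ μ, W μ a = α ∧ W μ b = β ∧ ∃ c : ι, ∃ s : ℤ, (s = 1 ∨ s = -1) ∧
        c ≠ T ∧ c ≠ a ∧ c ≠ b ∧ (∀ i, i ≠ T → i ≠ a → i ≠ b → i ≠ c → W μ i = 0) ∧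
        ∀ ν, W ν c = if R ν μ then s else 0 := by
  classical
  set V : κ → ι → ℤ := fun μ i => if i = T then 0 else W μ i with hVdef
  have hVW : ∀ μ i, i ≠ T → V μ i = W μ i := fun μ i hi => if_neg hi
  have hVV : ∀ μ ν, ∑ i, V μ i * V ν i = 2 + if R μ ν then 1 else 0 := by
    intro μ ν
    have e : ∀ i, V μ i * V ν i = W μ i * W ν i - if i = T then (1 : ℤ) else 0 := by
      intro i
      by_cases hi : i = T <;> simp [hVdef, hi, hT]
    rw [Finset.sum_congr rfl (fun i _ => e i), Finset.sum_sub_distrib, hW,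
      Finset.sum_ite_eq' Finset.univ T, if_pos (Finset.mem_univ T)]
    ring
  have hself : ∀ μ, ∑ i, V μ i * V μ i = 3 := fun μ => by
    rw [hVV, if_pos (hrefl μ)]
    norm_num
  have hunit : ∀ μ i, V μ i = 0 ∨ V μ i = 1 ∨ V μ i = -1 := by
    intro μ i
    have h1 : V μ i * V μ i ≤ 3 := hself μ ▸
      Finset.single_le_sum (f := fun i => V μ i * V μ i) (fun i _ => mul_self_nonneg _)
        (Finset.mem_univ i)
    have h2 : V μ i ≤ 1 := by nlinarith
    have h3 : -1 ≤ V μ i := by nlinarith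
    omega
  set S : κ → Finset (ι × ℤ) := fun μ =>
    (Finset.univ.filter fun i => V μ i ≠ 0).image fun i => (i, V μ i) with hSdef
  have hSmem : ∀ μ i (e : ℤ), (i, e) ∈ S μ ↔ V μ i = e ∧ e ≠ 0 := by
    intro μ i e
    simp only [hSdef, Finset.mem_image, Finset.mem_filter, Finset.mem_univ, true_and,
      Prod.mk.injEq]
    exact ⟨fun ⟨c, hc, h1, h2⟩ => by subst h1; exact ⟨h2, h2 ▸ hc⟩,
      fun ⟨h1, h2⟩ => ⟨i, h1 ▸ h2, rfl, h1⟩⟩
  have hinj : ∀ μ, Function.Injective fun i => (i, V μ i) := fun μ a b e => congrArg Prod.fst e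
  have hsupp : ∀ μ, (Finset.univ.filter fun i => V μ i ≠ 0).card = 3 := by
    intro μ
    have e : ∀ i, (if V μ i ≠ 0 then (1 : ℤ) else 0) = V μ i * V μ i := fun i => by
      rcases hunit μ i with h | h | h <;> simp [h]
    have := hself μ
    rw [← Finset.sum_congr rfl (fun i _ => e i), Finset.sum_boole] at this
    exact_mod_cast this
  have hScard : ∀ μ, (S μ).card = 3 := fun μ => by
    rw [hSdef, Finset.card_image_of_injective _ (hinj μ), hsupp]
  have hSext : ∀ μ ν, S μ = S ν → V μ = V ν := by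
    intro μ ν e
    funext i
    by_cases h0 : V μ i = 0
    · by_contra h1
      have := (hSmem ν i (V ν i)).mpr ⟨rfl, fun h2 => h1 (h0.trans h2.symm)⟩
      rw [← e, hSmem] at this
      exact h1 this.1
    · have := (hSmem μ i (V μ i)).mpr ⟨rfl, h0⟩
      rw [e, hSmem] at this
      exact this.1.symm
  have hR : ∀ μ ν, R μ ν ↔ V μ = V ν := by
    intro μ ν
    constructor
    · intro hm
      funext i
      have e : ∑ i, (V μ i - V ν i) * (V μ i - V ν i) = 0 := by
        simp only [sub_mul, mul_sub, Finset.sum_sub_distrib]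
        rw [Finset.sum_congr rfl (g := fun i => V μ i * V ν i) (fun i _ => mul_comm (V ν i) (V μ i)),
          hself μ, hself ν, hVV μ ν, if_pos hm]
        norm_num
      have := (Finset.sum_eq_zero_iff_of_nonneg (fun i _ => mul_self_nonneg _)).mp e i
        (Finset.mem_univ i)
      exact sub_eq_zero.mp (mul_self_eq_zero.mp this)
    · intro e
      have h := hVV μ ν
      rw [← e, hself μ] at h
      by_contra hn
      rw [if_neg hn] at h
      omega
  have hinter : ∀ μ ν, S μ ≠ S ν → (S μ ∩ S ν).card = 2 := by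
    intro μ ν hne
    have e := hVV μ ν
    rw [if_neg (fun hm => hne (by simp only [hSdef, (hR μ ν).mp hm])), add_zero] at e
    set ag := Finset.univ.filter fun i => V μ i ≠ 0 ∧ V μ i = V ν i with hag
    set dg := Finset.univ.filter fun i => V μ i ≠ 0 ∧ V ν i = -V μ i with hdg
    have e1 : (ag.card : ℤ) - dg.card = 2 := by
      rw [← e, hag, hdg, ← Finset.sum_boole, ← Finset.sum_boole, ← Finset.sum_sub_distrib]
      refine Finset.sum_congr rfl fun i _ => ?_
      rcases hunit μ i with a | a | a <;> rcases hunit ν i with b | b | b <;> simp [a, b]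
    have e2 : ag.card + dg.card ≤ 3 := by
      have hdis : Disjoint ag dg := by
        rw [Finset.disjoint_left]
        intro i h1 h2
        obtain ⟨a, b⟩ := (Finset.mem_filter.mp h1).2
        obtain ⟨-, c⟩ := (Finset.mem_filter.mp h2).2
        omega
      rw [← Finset.card_union_of_disjoint hdis, ← hsupp μ]
      refine Finset.card_le_card fun i hi => ?_
      rcases Finset.mem_union.mp hi with h1 | h1 <;>
        exact Finset.mem_filter.mpr ⟨Finset.mem_univ _, (Finset.mem_filter.mp h1).2.1⟩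
    have hag2 : ag.card = 2 := by omega
    rw [← hag2, ← Finset.card_image_of_injective ag (hinj μ)]
    refine congrArg Finset.card (Finset.ext ?_)
    rintro ⟨i, v⟩
    simp only [Finset.mem_inter, hSmem, Finset.mem_image, hag, Finset.mem_filter, Finset.mem_univ,
      true_and, Prod.mk.injEq]
    constructor
    · rintro ⟨⟨a, b⟩, c, -⟩
      exact ⟨i, ⟨a ▸ b, a.trans c.symm⟩, rfl, a⟩
    · rintro ⟨j, ⟨a, b⟩, rfl, f⟩
      exact ⟨⟨f, f ▸ a⟩, b ▸ f, f ▸ a⟩
  have hF5 : 5 ≤ (Finset.univ.image S).card := by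
    have e := Finset.card_le_mul_card_image_of_maps_to (f := S) (s := Finset.univ)
      (t := Finset.univ.image S)
      (fun a ha => Finset.mem_image_of_mem S ha) 3 (fun s hs => by
        obtain ⟨μ, -, rfl⟩ := Finset.mem_image.mp hs
        refine le_trans (Finset.card_le_card fun ν hν => ?_) (hfib μ)
        exact Finset.mem_filter.mpr ⟨Finset.mem_univ _,
          (hR ν μ).mpr (hSext _ _ (Finset.mem_filter.mp hν).2)⟩)
    rw [Finset.card_univ] at e
    omega
  obtain ⟨A₀, hA2, hAsub⟩ := sunflower (Finset.univ.image S)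
    (fun s hs => by obtain ⟨μ, -, rfl⟩ := Finset.mem_image.mp hs; exact hScard μ)
    (fun s hs s' hs' hne => by
      obtain ⟨μ, -, rfl⟩ := Finset.mem_image.mp hs
      obtain ⟨ν, -, rfl⟩ := Finset.mem_image.mp hs'
      exact hinter μ ν hne) hF5
  obtain ⟨⟨a, α⟩, ⟨b, β⟩, hab, rfl⟩ := Finset.card_eq_two.mp hA2
  have hVa : ∀ μ, (V μ a = α ∧ α ≠ 0) ∧ (V μ b = β ∧ β ≠ 0) := fun μ =>
    ⟨(hSmem μ a α).mp (hAsub _ (Finset.mem_image_of_mem S (Finset.mem_univ μ)) (by simp)),
      (hSmem μ b β).mp (hAsub _ (Finset.mem_image_of_mem S (Finset.mem_univ μ)) (by simp))⟩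
  obtain ⟨μ₀⟩ : Nonempty κ := Fintype.card_pos_iff.mp (by omega)
  obtain ⟨⟨hVa0, hα0⟩, ⟨hVb0, hβ0⟩⟩ := hVa μ₀
  have haT : a ≠ T := fun e => hα0 (by rw [← hVa0, e]; simp [hVdef])
  have hbT : b ≠ T := fun e => hβ0 (by rw [← hVb0, e]; simp [hVdef])
  have hab' : a ≠ b := fun e => hab (by
    rw [← e] at hVb0
    rw [← hVa0, ← hVb0, e])
  have hα1 : α = 1 ∨ α = -1 := by have := hunit μ₀ a; omega
  have hβ1 : β = 1 ∨ β = -1 := by have := hunit μ₀ b; omega
  refine ⟨a, b, α, β, haT, hbT, hab', hα1, hβ1, fun μ => ?_⟩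
  obtain ⟨⟨e1, -⟩, ⟨e2, -⟩⟩ := hVa μ
  refine ⟨(hVW μ a haT).symm.trans e1, (hVW μ b hbT).symm.trans e2, ?_⟩
  have hsub : ({a, b} : Finset ι) ⊆ Finset.univ.filter fun i => V μ i ≠ 0 := by
    intro i hi
    simp only [Finset.mem_insert, Finset.mem_singleton] at hi
    refine Finset.mem_filter.mpr ⟨Finset.mem_univ _, ?_⟩
    rcases hi with rfl | rfl
    · rw [e1]; exact hα0
    · rw [e2]; exact hβ0
  have h1 := Finset.card_sdiff_of_subset hsub
  rw [hsupp μ, Finset.card_pair hab'] at h1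
  obtain ⟨c, hc⟩ := Finset.card_eq_one.mp h1
  have hmemc : ∀ i, (V μ i ≠ 0 ∧ i ≠ a ∧ i ≠ b) ↔ i = c := fun i => by
    rw [← Finset.mem_singleton, ← hc]
    simp
  obtain ⟨hcV, hca, hcb⟩ := (hmemc c).mpr rfl
  have hcT : c ≠ T := fun e => hcV (by rw [e]; simp [hVdef])
  have hs : V μ c = 1 ∨ V μ c = -1 := by have := hunit μ c; omega
  have hz : ∀ i, i ≠ T → i ≠ a → i ≠ b → i ≠ c → V μ i = 0 := fun i _ ha hb hic => by
    by_contra h0
    exact hic ((hmemc i).mp ⟨h0, ha, hb⟩)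
  refine ⟨c, V μ c, hs, hcT, hca, hcb,
    fun i hiT ha hb hic => (hVW μ i hiT).symm.trans (hz i hiT ha hb hic), fun ν => ?_⟩
  rw [← hVW ν c hcT]
  split_ifs with hm
  · rw [(hR ν μ).mp hm]
  have e := hVV μ ν
  rw [if_neg (fun hm' => hm ((hR ν μ).mpr ((hR μ ν).mp hm').symm)),
    sum_four haT hbT hcT hab' hca.symm hcb.symm hz, e1, e2, (hVa ν).1.1, (hVa ν).2.1,
    show V μ T = 0 from if_pos rfl, zero_mul] at e
  have e3 : V μ c * V ν c = 0 := by
    rcases hα1 with r | r <;> rcases hβ1 with r' | r' <;> subst r <;> subst r' <;> linarith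
  exact (mul_eq_zero.mp e3).resolve_left hcV

end Cfsg.Agent.ZStar
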