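import Cfsg.Prelude.Def_TwoFusion
import Cfsg.Prelude.Def_IsolatedElements
import Cfsg.Agent.Lib.PCore.Basic
import Cfsg.Agent.Lib.Coprime.Sylow
import Cfsg.Agent.Lib.Coprime.Factorization

/-!
# A class of involutions with products of `p`-power order (odd `p`)

* `isolated_of_products`: such an involution is isolated
* `mul_mem_pCore`: if it is in `Z*(G)` then all products lie in `O_p(G)`
-/

set_option autoImplicit false
set_option linter.style.haveILetI false
set_option linter.unusedSectionVars false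

namespace Cfsg.Agent.ZStar.PPowerClass

open Cfsg
open scoped Pointwise

variable {G : Type*} [Group G] [Finite G] {p : ℕ} {d : G}

theorem conj_mem (g : G) : g * d * g⁻¹ ∈ conjugatesOf d :=
  (isConj_iff.2 ⟨g, rfl⟩ : IsConj d (g * d * g⁻¹))

theorem mul_self (hd : orderOf d = 2) : d * d = 1 := by
  have := pow_orderOf_eq_one d
  rwa [hd, pow_two] at this

theorem isolated_of_products (hp : p.Prime) (hp2 : p ≠ 2) (hd : orderOf d = 2)
    (hprod : ∀ a ∈ conjugatesOf d, ∀ b ∈ conjugatesOf d, ∃ k : ℕ, orderOf (a * b) = p ^ k) :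
    IsIsolatedInvolution d := by
  refine ⟨hd, fun g hc => ?_⟩
  have hd2 := mul_self hd
  obtain ⟨k, hk⟩ := hprod d (mem_conjugatesOf_self) _ (conj_mem g)
  set w := g * d * g⁻¹ with hw
  have hw2 : w * w = 1 := by
    calc w * w = g * (d * d) * g⁻¹ := by rw [hw]; group
      _ = 1 := by rw [hd2]; group
  have h2 : p ^ k ∣ 2 := by
    rw [← hk]
    refine orderOf_dvd_of_pow_eq_one ?_
    rw [pow_two, hc.symm.mul_mul_mul_comm, hd2, hw2, one_mul]
  have hk0 : k = 0 := by
    by_contra hk0
    exact hp2 ((Nat.prime_dvd_prime_iff_eq hp Nat.prime_two).1 ((dvd_pow_self p hk0).trans h2))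
  rw [hk0, pow_zero, orderOf_eq_one_iff] at hk
  exact (mul_left_cancel (hk.trans hd2.symm))

/-- Two subgroups of coprime index in `N` factorise it. -/
theorem exists_mul_of_coprime_relIndex {N A B : Subgroup G} (hA : A ≤ N) (hB : B ≤ N)
    (hcop : (A.relIndex N).Coprime (B.relIndex N)) {n : G} (hn : n ∈ N) :
    ∃ a ∈ A, ∃ b ∈ B, n = a * b := by
  classical
  have hset : (A : Set G) * (B : Set G) = (N : Set G) := by
    refine Set.eq_of_subset_of_ncard_le ?_ ?_ (Set.toFinite _)
    · rintro _ ⟨a, ha, b, hb, rfl⟩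
      exact N.mul_mem (hA ha) (hB hb)
    · rw [← Nat.card_coe_set_eq, ← Nat.card_coe_set_eq]
      have h := Coprime.ncard_mul_mul_card_inf A B
      have h1 : (A.relIndex N) ∣ (A ⊓ B).relIndex N :=
        ⟨(A ⊓ B).relIndex A, by rw [mul_comm, Subgroup.relIndex_mul_relIndex _ _ _ inf_le_left hA]⟩
      have h2 : (B.relIndex N) ∣ (A ⊓ B).relIndex N :=
        ⟨(A ⊓ B).relIndex B, by rw [mul_comm, Subgroup.relIndex_mul_relIndex _ _ _ inf_le_right hB]⟩
      have h3 := hcop.mul_dvd_of_dvd_of_dvd h1 h2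
      have eA : A.relIndex N * Nat.card A = Nat.card N := by
        rw [mul_comm, ← Subgroup.relIndex_bot_left, ← Subgroup.relIndex_bot_left N,
          Subgroup.relIndex_mul_relIndex _ _ _ bot_le hA]
      have eB : B.relIndex N * Nat.card B = Nat.card N := by
        rw [mul_comm, ← Subgroup.relIndex_bot_left, ← Subgroup.relIndex_bot_left N,
          Subgroup.relIndex_mul_relIndex _ _ _ bot_le hB]
      have eI : (A ⊓ B).relIndex N * Nat.card (A ⊓ B : Subgroup G) = Nat.card N := by
        rw [mul_comm, ← Subgroup.relIndex_bot_left, ← Subgroup.relIndex_bot_left N,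
          Subgroup.relIndex_mul_relIndex _ _ _ bot_le (inf_le_left.trans hA)]
      have hpos : 0 < (A ⊓ B).relIndex N := Nat.pos_of_ne_zero (fun h => by
        rw [h, zero_mul] at eI
        exact (Nat.card_pos (α := N)).ne eI)
      have hle := Nat.le_of_dvd hpos h3
      have hP : 0 < A.relIndex N * B.relIndex N := Nat.pos_of_ne_zero (fun h => by
        rcases Nat.mul_eq_zero.1 h with h | h
        · rw [h, zero_mul] at eA; exact (Nat.card_pos (α := N)).ne eA
        · rw [h, zero_mul] at eB; exact (Nat.card_pos (α := N)).ne eB)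
      refine le_of_mul_le_mul_right ?_ (Nat.card_pos (α := (A ⊓ B : Subgroup G)))
      rw [h]
      refine le_of_mul_le_mul_left ?_ hP
      calc A.relIndex N * B.relIndex N * (Nat.card (N : Set G) * Nat.card (A ⊓ B : Subgroup G))
          ≤ (A ⊓ B).relIndex N * (Nat.card N * Nat.card (A ⊓ B : Subgroup G)) :=
            Nat.mul_le_mul hle le_rfl
        _ = (A ⊓ B).relIndex N * Nat.card (A ⊓ B : Subgroup G) * Nat.card N := by ring
        _ = Nat.card N * Nat.card N := by rw [eI]
        _ = A.relIndex N * B.relIndex N * (Nat.card A * Nat.card B) := by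
            nth_rw 1 [← eA]; rw [← eB]; ring
  have : n ∈ (A : Set G) * (B : Set G) := hset.symm ▸ hn
  obtain ⟨a, ha, b, hb, rfl⟩ := Set.mem_mul.1 this
  exact ⟨a, ha, b, hb, rfl⟩

/-- The products lie in `O_p(G)` once `d` is central modulo `O(G)`. -/
theorem mul_mem_pCore (hp : p.Prime) (hd : orderOf d = 2)
    (hprod : ∀ a ∈ conjugatesOf d, ∀ b ∈ conjugatesOf d, ∃ k : ℕ, orderOf (a * b) = p ^ k)
    (hz : InZStar 2 d) : ∀ a ∈ conjugatesOf d, ∀ b ∈ conjugatesOf d, a * b ∈ pCore p G := by
  classical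
  haveI : Fact p.Prime := ⟨hp⟩
  have hd2 := mul_self hd
  have hdi : d⁻¹ = d := inv_eq_of_mul_eq_one_right hd2
  set N := oddCore G with hNdef
  haveI hNn : N.Normal := by rw [hNdef]; infer_instance
  have hodd : Odd (Nat.card N) := PCore.odd_card_oddCore
  set A : Subgroup G := Subgroup.zpowers d with hA
  have hAN : A ≤ Subgroup.normalizer (N : Set G) := by
    rw [Subgroup.normalizer_eq_top]; exact le_top
  have hcop : (Nat.card A).Coprime (Nat.card N) := by
    rw [hA, Nat.card_zpowers, hd, Nat.coprime_two_left]; exact hodd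
  have hAs : Group.IsSolvable A ∨ Group.IsSolvable N := Or.inl (by
    rw [hA]; exact Group.isSolvable_of_comm fun a b => Std.Commutative.comm a b)
  -- commutators of a `d`-invariant subgroup stay in it
  have hcomm : ∀ {R : Subgroup G}, A ≤ Subgroup.normalizer (R : Set G) → ∀ x ∈ R,
      x * d * x⁻¹ * d ∈ R := fun {R} hR x hx => by
    have h := (Subgroup.mem_normalizer_iff.1 (hR (Subgroup.mem_zpowers d)) x⁻¹).1 (R.inv_mem hx)
    have e : x * d * x⁻¹ * d = x * (d * x⁻¹ * d⁻¹) := by rw [hdi]; group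
    rw [e]
    exact R.mul_mem hx h
  set C := N ⊓ Subgroup.centralizer ({d} : Set G) with hC
  -- the index of the centralizer is a power of `p`
  have hq : ∀ q : ℕ, q.Prime → q ≠ p → ¬ q ∣ C.relIndex N := fun q hqp hne hdvd => by
    haveI : Fact q.Prime := ⟨hqp⟩
    obtain ⟨Q, hQ⟩ := Coprime.exists_invariant_sylow hAN hcop hAs q
    set Q' := (Q : Subgroup N).map N.subtype with hQ'
    have hQC : Q' ≤ C := by
      intro x hx
      refine ⟨Subgroup.map_subtype_le _ hx, ?_⟩
      show x ∈ Subgroup.centralizer ({d} : Set G)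
      rw [Subgroup.mem_centralizer_singleton_iff]
      obtain ⟨k, hk⟩ := hprod _ (conj_mem x) d mem_conjugatesOf_self
      have hmem := hcomm hQ x hx
      obtain ⟨l, hl⟩ := (Q.2.map N.subtype).exists_orderOf_eq_pow ⟨_, hmem⟩
      rw [Subgroup.orderOf_mk, hk] at hl
      have hk0 : k = 0 := by
        by_contra hk0
        exact hne ((Nat.prime_dvd_prime_iff_eq hp hqp).1
          (hp.dvd_of_dvd_pow (hl ▸ dvd_pow_self p hk0))).symm
      rw [hk0, pow_zero, orderOf_eq_one_iff, mul_eq_one_iff_eq_inv, hdi, mul_inv_eq_iff_eq_mul] at hk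
      exact hk
    have h1 : C.relIndex N ∣ Q'.relIndex N :=
      ⟨Q'.relIndex C, by rw [mul_comm, Subgroup.relIndex_mul_relIndex _ _ _ hQC inf_le_left]⟩
    have eQ : Q'.relIndex N = (Q : Subgroup N).index := by
      rw [hQ', Subgroup.relIndex, Subgroup.subgroupOf,
        Subgroup.comap_map_eq_self_of_injective N.subtype_injective]
    rw [eQ] at h1
    exact Q.not_dvd_index (hdvd.trans h1)
  obtain ⟨P, hP⟩ := Coprime.exists_invariant_sylow hAN hcop hAs p
  set P' := (P : Subgroup N).map N.subtype with hP'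
  have hPN : P' ≤ N := Subgroup.map_subtype_le _
  have hcop' : (P'.relIndex N).Coprime (C.relIndex N) := by
    refine Nat.coprime_of_dvd fun q hqp h1 h2 => ?_
    rcases eq_or_ne q p with rfl | hne
    · rw [hP', Subgroup.relIndex, Subgroup.subgroupOf,
        Subgroup.comap_map_eq_self_of_injective N.subtype_injective] at h1
      exact P.not_dvd_index h1
    · exact hq q hqp hne h2
  set M := Subgroup.closure {x : G | ∃ n ∈ N, n * d * n⁻¹ * d = x} with hM
  have hMP : M ≤ P' := by
    rw [hM, Subgroup.closure_le]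
    rintro _ ⟨n, hn, rfl⟩
    obtain ⟨a, ha, b, hb, rfl⟩ := exists_mul_of_coprime_relIndex hPN inf_le_left hcop' hn
    have hbd : b * d = d * b := Subgroup.mem_centralizer_singleton_iff.1 hb.2
    have e : a * b * d * (a * b)⁻¹ * d = a * d * a⁻¹ * d := by
      rw [mul_assoc a b d, hbd]; group
    rw [e]
    exact hcomm hP a ha
  have hNM : N ≤ Subgroup.normalizer (M : Set G) := by
    have key : ∀ n ∈ N, ∀ x ∈ M, n * x * n⁻¹ ∈ M := fun n hn x hx => by
      induction hx using Subgroup.closure_induction with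
      | mem x hx =>
        obtain ⟨m, hm, rfl⟩ := hx
        have e : n * (m * d * m⁻¹ * d) * n⁻¹ =
            n * m * d * (n * m)⁻¹ * d * (n * d * n⁻¹ * d)⁻¹ := by
          have e1 : (n * d * n⁻¹ * d)⁻¹ = d * (n * d * n⁻¹) := by
            rw [mul_inv_rev, mul_inv_rev, mul_inv_rev, inv_inv, hdi]; group
          rw [e1]
          calc n * (m * d * m⁻¹ * d) * n⁻¹ = n * m * d * (n * m)⁻¹ * 1 * (n * d * n⁻¹) := by group
            _ = _ := by rw [← hd2]; group
        rw [e]
        exact M.mul_mem (Subgroup.subset_closure ⟨_, N.mul_mem hn hm, rfl⟩)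
          (M.inv_mem (Subgroup.subset_closure ⟨_, hn, rfl⟩))
      | one => simpa using M.one_mem
      | mul x y _ _ hx hy =>
        have e : n * (x * y) * n⁻¹ = n * x * n⁻¹ * (n * y * n⁻¹) := by group
        rw [e]; exact M.mul_mem hx hy
      | inv x _ hx =>
        have e : n * x⁻¹ * n⁻¹ = (n * x * n⁻¹)⁻¹ := by group
        rw [e]; exact M.inv_mem hx
    intro n hn
    refine Subgroup.mem_normalizer_iff.2 fun x => ⟨key n hn x, fun hx => ?_⟩
    have := key n⁻¹ (N.inv_mem hn) _ hx
    simpa [mul_assoc] using this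
  have hMN : M ≤ N := hMP.trans hPN
  have hMp : M ≤ pCore p G := by
    haveI : (M.subgroupOf N).Normal := (Subgroup.normal_subgroupOf_iff_le_normalizer hMN).2 hNM
    have hPp : IsPGroup p P' := P.2.map _
    have h := PCore.le_pCore (p := p) (N := M.subgroupOf N)
      ((hPp.to_le hMP).of_equiv (Subgroup.subgroupOfEquivOfLe hMN).symm)
    have h' := Subgroup.map_mono (f := N.subtype) h
    rw [Subgroup.subgroupOf_map_subtype, inf_of_le_left hMN, PCore.map_pCore_subtype_of_normal] at h'
    exact h'.trans inf_le_left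
  have main : ∀ a ∈ conjugatesOf d, a * d ∈ pCore p G := fun a ha => by
    obtain ⟨g, rfl⟩ := isConj_iff.1 (show IsConj d a from ha)
    set w := g * d * g⁻¹ * d with hw
    have hwN : w ∈ N := by
      have h := hz g
      rwa [hdi] at h
    have hinv : d * w * d⁻¹ = w⁻¹ := by
      have hgg : (g * d * g⁻¹)⁻¹ = g * d * g⁻¹ := by rw [mul_inv_rev, mul_inv_rev, inv_inv, hdi]; group
      rw [hw, mul_inv_rev (g * d * g⁻¹) d, hgg, mul_assoc d (g * d * g⁻¹ * d) d⁻¹,
        mul_inv_cancel_right, hdi]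
    obtain ⟨c, hc⟩ := hodd
    have hwc : w ^ (2 * c + 1) = 1 := by
      rw [← hc]
      exact (congrArg Subtype.val (pow_card_eq_one' (x := (⟨w, hwN⟩ : N))) :)
    have hv : w ^ (c + 1) * (d * (w ^ (c + 1))⁻¹ * d⁻¹) = w := by
      have : d * (w ^ (c + 1))⁻¹ * d⁻¹ = w ^ (c + 1) := by
        rw [← conj_inv, ← conj_pow, hinv, inv_pow, inv_inv]
      rw [this, ← pow_add]
      calc w ^ (c + 1 + (c + 1)) = w ^ (2 * c + 1) * w := by rw [← pow_succ]; ring_nf
        _ = w := by rw [hwc, one_mul]
    refine hMp (Subgroup.subset_closure ⟨w ^ (c + 1), N.pow_mem hwN _, ?_⟩)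
    rw [hdi] at hv
    calc w ^ (c + 1) * d * (w ^ (c + 1))⁻¹ * d = w ^ (c + 1) * (d * (w ^ (c + 1))⁻¹ * d) := by group
      _ = w := hv
  intro a ha b hb
  have hb2 : b⁻¹ = b := by
    obtain ⟨g, rfl⟩ := isConj_iff.1 (show IsConj d b from hb)
    rw [mul_inv_rev, mul_inv_rev, inv_inv, hdi]; group
  have e : a * b = a * d * (b * d)⁻¹ := by rw [mul_inv_rev, hdi, hb2]; group; rw [mul_assoc a d d, hd2, mul_one]
  rw [e]
  exact Subgroup.mul_mem _ (main a ha) (Subgroup.inv_mem _ (main b hb))

end Cfsg.Agent.ZStar.PPowerClass
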