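import Cfsg.Agent.Lib.ZStar.Main

/-!
# Non-simplicity from class products

If the products of a class of involution-type elements `X` with a class `aᴳ` always have their
2-part in `X` and their odd part in the core of the centralizer of that 2-part, then the group is
not simple: on the principal block multiplication by the class of `a` acts on the values at `X`
as an averaging operator, and orthogonality to the identity kills the constant function.
-/

set_option linter.style.haveILetI false

namespace Cfsg.Agent.ZStar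

open Cfsg
open scoped ComplexConjugate Classical

universe u

variable {G : Type u} [Group G] [Finite G]

theorem exists_principalSet (G : Type u) [Group G] [Finite G] :
    ∃ B : Finset (IrrCharacter G), PrincipalSet G B :=
  hasPrincipalSets_of_const (principalConst_of secondPrincipal) G

/-- The averaging step. -/
theorem sum_ratio_pow_eq_zero {B : Finset (IrrCharacter G)} (hB : PrincipalSet G B) {a : G}
    (X : G → Prop) (hX2 : ∀ u, X u → orderOf u = 2) (hXc : ∀ u g, X u → X (g * u * g⁻¹))
    (hprod : ∀ u y, X u → IsConj a y →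
      ∃ z, X z ∧ ∃ v ∈ centralizerPPrimeCore 2 z, u * y = z * v) :
    ∀ (k : ℕ) (u : G), X u →
      ∑ χ ∈ B, conj (χ.1 1) * (χ.1 a / χ.1 1) ^ k * χ.1 u = 0 := by
  intro k
  induction k with
  | zero =>
      intro u hu
      have h := congrArg conj (hB.orth u (hX2 u hu))
      simpa [map_sum] using h
  | succ k ih =>
      intro u hu
      have h0 : ∑ χ ∈ B, conj (χ.1 1) * (χ.1 a / χ.1 1) ^ k * (χ.1 u * χ.1 a / χ.1 1) = 0 := by
        refine sum_coeff_mul_apply_div_eq_zero B (fun χ : IrrCharacter G => conj (χ.1 1) * (χ.1 a / χ.1 1) ^ k)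
          id (a := u) (b := a) ?_
        intro x y hx hy
        obtain ⟨g, rfl⟩ := isConj_iff.mp hx
        obtain ⟨z, hz, v, hv, hxy⟩ := hprod _ y (hXc u g hu) hy
        refine Eq.trans (Finset.sum_congr rfl fun χ hχ => ?_) (ih z hz)
        simp only [id]
        rw [hxy, hB.const χ hχ z (hX2 z hz) v hv]
      refine Eq.trans (Finset.sum_congr rfl fun χ _ => ?_) h0
      rw [pow_succ]
      ring

/-- Non-simplicity from class products. -/
theorem not_isSimpleGroup_of_products {a : G} (ha : a ≠ 1) (X : G → Prop) (hXne : ∃ u, X u)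
    (hX2 : ∀ u, X u → orderOf u = 2) (hXc : ∀ u g, X u → X (g * u * g⁻¹))
    (hprod : ∀ u y, X u → IsConj a y →
      ∃ z, X z ∧ ∃ v ∈ centralizerPPrimeCore 2 z, u * y = z * v) :
    ¬ IsSimpleGroup G := by
  intro hsimple
  haveI := hsimple
  obtain ⟨B, hB⟩ := exists_principalSet G
  obtain ⟨u, hu⟩ := hXne
  have hker : ∀ χ : IrrCharacter G, χ.1 a / χ.1 1 = 1 → χ = Char.trivialChar G := by
    intro χ h
    have hc := Char.irr_isCharacter χ
    haveI := CharInt.charKernel_normal hc
    rw [div_eq_one_iff_eq (Blocks.irr_one_ne_zero χ)] at h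
    have hmem : a ∈ CharInt.charKernel hc := (CharInt.mem_charKernel hc).mpr h
    rcases (CharInt.charKernel_normal hc).eq_bot_or_eq_top with h1 | h1
    · exact absurd (Subgroup.mem_bot.mp (h1 ▸ hmem)) ha
    · exact eq_trivialChar_of_const fun g =>
        (CharInt.mem_charKernel hc).mp (h1 ▸ Subgroup.mem_top g)
  set L := (B.image fun χ : IrrCharacter G => χ.1 a / χ.1 1).erase 1 with hL
  set P : Polynomial ℂ := ∏ l ∈ L, (Polynomial.X - Polynomial.C l) with hP
  have hsum : ∑ χ ∈ B, conj (χ.1 1) * P.eval (χ.1 a / χ.1 1) * χ.1 u = 0 := by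
    simp only [Polynomial.eval_eq_sum_range, Finset.mul_sum, Finset.sum_mul]
    rw [Finset.sum_comm]
    refine Finset.sum_eq_zero fun k _ => ?_
    calc _ = P.coeff k * ∑ χ ∈ B, conj (χ.1 1) * (χ.1 a / χ.1 1) ^ k * χ.1 u := by
          rw [Finset.mul_sum]
          exact Finset.sum_congr rfl fun χ _ => by ring
      _ = 0 := by rw [sum_ratio_pow_eq_zero hB X hX2 hXc hprod k u hu, mul_zero]
  rw [Finset.sum_eq_single (Char.trivialChar G)] at hsum
  · have hv : ∀ g : G, (Char.trivialChar G).1 g = 1 := fun g => by simp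
    rw [hv, hv, hv, map_one, one_mul, mul_one, div_one, hP, Polynomial.eval_prod,
      Finset.prod_eq_zero_iff] at hsum
    obtain ⟨l, hl, hl1⟩ := hsum
    simp only [Polynomial.eval_sub, Polynomial.eval_X, Polynomial.eval_C, sub_eq_zero] at hl1
    exact (Finset.mem_erase.mp hl).1 hl1.symm
  · intro χ hχ hne
    have : P.eval (χ.1 a / χ.1 1) = 0 := by
      rw [hP, Polynomial.eval_prod, Finset.prod_eq_zero_iff]
      exact ⟨χ.1 a / χ.1 1, Finset.mem_erase.mpr
        ⟨fun h => hne (hker χ h), Finset.mem_image_of_mem _ hχ⟩, by simp⟩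
    rw [this]; ring
  · exact fun h => absurd hB.triv h

end Cfsg.Agent.ZStar
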