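import Mathlib.Data.Finset.Powerset
import Mathlib.Tactic

/-!
# Five three-element sets meeting pairwise in two elements have a common pair
-/

namespace Cfsg.Agent.ZStar

open Finset

theorem sunflower {β : Type*} [DecidableEq β] (F : Finset (Finset β)) (h3 : ∀ s ∈ F, s.card = 3)
    (h2 : ∀ s ∈ F, ∀ t ∈ F, s ≠ t → (s ∩ t).card = 2) (h5 : 5 ≤ F.card) :
    ∃ A : Finset β, A.card = 2 ∧ ∀ s ∈ F, A ⊆ s := by
  obtain ⟨s₁, hs₁, s₂, hs₂, hne⟩ := one_lt_card.mp (by omega : 1 < F.card)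
  refine ⟨s₁ ∩ s₂, h2 _ hs₁ _ hs₂ hne, fun μ hμ => ?_⟩
  by_contra hA
  have hU : (s₁ ∪ s₂).card = 4 := by
    have := card_union_add_card_inter s₁ s₂
    rw [h3 _ hs₁, h3 _ hs₂, h2 _ hs₁ _ hs₂ hne] at this
    omega
  have hAμ : (s₁ ∩ s₂ ∩ μ).card ≤ 1 := by
    have hlt : (s₁ ∩ s₂ ∩ μ) ⊂ (s₁ ∩ s₂) :=
      Finset.ssubset_iff_subset_ne.mpr ⟨inter_subset_left, fun e => hA (by
        intro x hx; rw [← e] at hx; exact (mem_inter.mp hx).2)⟩
    have := card_lt_card hlt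
    rw [h2 _ hs₁ _ hs₂ hne] at this
    omega
  have hμU : μ ⊆ s₁ ∪ s₂ := by
    have hne1 : μ ≠ s₁ := fun e => hA (e ▸ inter_subset_left)
    have hne2 : μ ≠ s₂ := fun e => hA (e ▸ inter_subset_right)
    have e1 := card_union_add_card_inter (s₁ ∩ μ) (s₂ ∩ μ)
    rw [inter_comm s₁ μ, inter_comm s₂ μ, h2 _ hμ _ hs₁ hne1, h2 _ hμ _ hs₂ hne2] at e1
    have e2 : (μ ∩ s₁) ∩ (μ ∩ s₂) = s₁ ∩ s₂ ∩ μ := by
      ext x; simp only [mem_inter]; tauto
    rw [e2] at e1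
    have e3 : μ ∩ s₁ ∪ μ ∩ s₂ = μ ∩ (s₁ ∪ s₂) := (inter_union_distrib_left _ _ _).symm
    rw [e3] at e1
    have e4 : μ ∩ (s₁ ∪ s₂) = μ := eq_of_subset_of_card_le inter_subset_left (by
      rw [h3 _ hμ]; omega)
    exact inter_eq_left.mp e4
  have hall : F ⊆ (s₁ ∪ s₂).powersetCard 3 := by
    intro ν hν
    refine mem_powersetCard.mpr ⟨?_, h3 _ hν⟩
    by_cases hνA : s₁ ∩ s₂ ⊆ ν
    · rcases eq_or_ne ν μ with rfl | hνμ
      · exact hμU
      intro x hx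
      by_contra hxU
      have hsub : ν ⊆ insert x (s₁ ∩ s₂) := by
        refine (eq_of_subset_of_card_le (insert_subset hx hνA) ?_).ge
        rw [h3 _ hν, card_insert_of_notMem (fun h => hxU (mem_union_left _ (mem_inter.mp h).1)),
          h2 _ hs₁ _ hs₂ hne]
      have h4 : ν ∩ μ ⊆ s₁ ∩ s₂ ∩ μ := by
        intro y hy
        obtain ⟨hy1, hy2⟩ := mem_inter.mp hy
        rcases mem_insert.mp (hsub hy1) with rfl | h
        · exact absurd (hμU hy2) hxU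
        · exact mem_inter.mpr ⟨h, hy2⟩
      have := card_le_card h4
      rw [h2 _ hν _ hμ hνμ] at this
      omega
    · have hne1 : ν ≠ s₁ := fun e => hνA (e ▸ inter_subset_left)
      have hne2 : ν ≠ s₂ := fun e => hνA (e ▸ inter_subset_right)
      have hlt : (s₁ ∩ s₂ ∩ ν) ⊂ (s₁ ∩ s₂) :=
        Finset.ssubset_iff_subset_ne.mpr ⟨inter_subset_left, fun e => hνA (by
          intro x hx; rw [← e] at hx; exact (mem_inter.mp hx).2)⟩
      have e0 := card_lt_card hlt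
      rw [h2 _ hs₁ _ hs₂ hne] at e0
      have e1 := card_union_add_card_inter (ν ∩ s₁) (ν ∩ s₂)
      rw [h2 _ hν _ hs₁ hne1, h2 _ hν _ hs₂ hne2] at e1
      have e2 : (ν ∩ s₁) ∩ (ν ∩ s₂) = s₁ ∩ s₂ ∩ ν := by
        ext x; simp only [mem_inter]; tauto
      rw [e2, ← inter_union_distrib_left] at e1
      exact inter_eq_left.mp (eq_of_subset_of_card_le inter_subset_left (by rw [h3 _ hν]; omega))
  have := card_le_card hall
  rw [card_powersetCard, hU] at this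
  simp [Nat.choose] at this
  omega

end Cfsg.Agent.ZStar
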