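import Cfsg.Agent.Lib.ZStar.HomocyclicLift
import Cfsg.Agent.Lib.ZStar.Sunflower
import Cfsg.Agent.Lib.Char.Linear
import Cfsg.Agent.Lib.Char.ClassSum

/-!
# Exceptional characters for an abelian Sylow 2-subgroup with an automizer of order three
-/

set_option linter.style.haveILetI false

namespace Cfsg.Agent.ZStar

open Cfsg
open scoped ComplexConjugate

universe u

variable {G : Type u} [Group G] [Fintype G] {M : Ideal AlgInt}

namespace ThreeData

variable {P : Subgroup G} {σ : P ≃* P} (h : ThreeData P σ)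
include h

theorem exists_hom (μ : IrrCharacter P) : ∃ l : P →* ℂ, ⇑l = μ.1 :=
  Char.IsCharacter.exists_monoidHom (Char.irr_isCharacter μ) (Char.apply_one_of_comm h.comm μ)

theorem irr_mul (μ : IrrCharacter P) (x y : P) : μ.1 (x * y) = μ.1 x * μ.1 y := by
  obtain ⟨l, hl⟩ := h.exists_hom μ
  rw [← hl, map_mul]

theorem irr_one (μ : IrrCharacter P) : μ.1 1 = 1 := Char.apply_one_of_comm h.comm μ

/-- The action of the automorphism on the characters. -/
noncomputable def rot (μ : IrrCharacter P) : IrrCharacter P :=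
  Char.linIrr ((h.exists_hom μ).choose.comp σ.toMonoidHom)

theorem rot_apply (μ : IrrCharacter P) (x : P) : (h.rot μ).1 x = μ.1 (σ x) := by
  rw [rot, Char.linIrr_apply, MonoidHom.comp_apply]
  exact congrFun (h.exists_hom μ).choose_spec _

theorem rot_cube (μ : IrrCharacter P) : h.rot (h.rot (h.rot μ)) = μ :=
  Subtype.ext (funext fun x => by simp only [h.rot_apply, h.cube])

theorem rot_eq_self {μ : IrrCharacter P} (e : h.rot μ = μ) : μ = Char.trivialChar P := by
  have hinj : Function.Injective fun x : P => x⁻¹ * σ x := by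
    intro x y (hxy : x⁻¹ * σ x = y⁻¹ * σ y)
    have h1 : σ x = x * (y⁻¹ * σ y) := inv_mul_eq_iff_eq_mul.mp hxy
    refine mul_inv_eq_one.mp (h.fpf _ ?_)
    rw [map_mul, map_inv, h1]
    group
  refine Subtype.ext (funext fun z => ?_)
  obtain ⟨x, rfl⟩ := Finite.surjective_of_injective hinj z
  show μ.1 (x⁻¹ * σ x) = _
  rw [h.irr_mul, ← h.rot_apply, e, ← h.irr_mul, inv_mul_cancel, h.irr_one, Char.trivialChar_apply]

/-- Being in one orbit. -/
def Mate (μ ν : IrrCharacter P) : Prop := μ = ν ∨ μ = h.rot ν ∨ μ = h.rot (h.rot ν)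

theorem rot_trivial : h.rot (Char.trivialChar P) = Char.trivialChar P :=
  Subtype.ext (funext fun x => by simp [h.rot_apply])

theorem rot_injective : Function.Injective h.rot := fun a b e => by
  rw [← h.rot_cube a, ← h.rot_cube b, e]

theorem rot_ne_trivial {μ : IrrCharacter P} (hμ : μ ≠ Char.trivialChar P) :
    h.rot μ ≠ Char.trivialChar P :=
  fun e => hμ (h.rot_injective (e.trans h.rot_trivial.symm))

omit h in
/-- The orbit sum. -/
noncomputable def theta (_h : ThreeData P σ) (μ : IrrCharacter P) : P → ℂ :=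
  fun x => μ.1 x + μ.1 (σ x) + μ.1 (σ (σ x))

/-- Three times the principal character minus an orbit sum. -/
noncomputable def fvec (μ : IrrCharacter P) : P → ℂ := fun x => 3 - h.theta μ x

theorem fvec_apply (μ : IrrCharacter P) (x : P) : h.fvec μ (σ x) = h.fvec μ x := by
  simp only [fvec, theta, h.cube]
  ring

theorem fvec_one (μ : IrrCharacter P) : h.fvec μ 1 = 0 := by
  simp only [fvec, theta, map_one, h.irr_one]
  norm_num

theorem fvec_eq (μ : IrrCharacter P) : h.fvec μ =
    (3 : ℂ) • (Char.trivialChar P).1 - (μ.1 + (h.rot μ).1 + (h.rot (h.rot μ)).1) := by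
  funext x
  simp [fvec, theta, h.rot_apply]

theorem isGeneralized_fvec (μ : IrrCharacter P) : IsGeneralizedCharacter P (h.fvec μ) := by
  rw [h.fvec_eq, show (3 : ℂ) = ((3 : ℤ) : ℂ) by norm_num]
  exact Char.IsGeneralizedCharacter.sub
    (Char.IsGeneralizedCharacter.intCast_smul (Char.irr_isGeneralized _) _)
    (Char.IsGeneralizedCharacter.add (Char.IsGeneralizedCharacter.add (Char.irr_isGeneralized _)
      (Char.irr_isGeneralized _)) (Char.irr_isGeneralized _))

theorem classInner_rot [Fintype P] {φ : P → ℂ} (hφ : ∀ x, φ (σ x) = φ x) (μ : IrrCharacter P) :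
    classInner φ (h.rot μ).1 = classInner φ μ.1 := by
  rw [classInner, classInner]
  congr 1
  refine Fintype.sum_equiv σ.toEquiv _ _ fun x => ?_
  show φ x * conj ((h.rot μ).1 x) = φ (σ x) * conj (μ.1 (σ x))
  rw [h.rot_apply, hφ]

theorem classInner_fvec [Fintype P] {φ : P → ℂ} (hφ : ∀ x, φ (σ x) = φ x) (μ : IrrCharacter P) :
    classInner φ (h.fvec μ) =
      3 * (classInner φ (Char.trivialChar P).1 - classInner φ μ.1) := by
  rw [h.fvec_eq, Char.classInner_sub_right, Char.classInner_add_right, Char.classInner_add_right,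
    Char.classInner_smul_right, h.classInner_rot hφ, h.classInner_rot hφ, h.classInner_rot hφ,
    map_ofNat]
  ring

open Classical in
theorem classInner_irr_fvec [Fintype P] {μ ν : IrrCharacter P} (hν : ν ≠ Char.trivialChar P) :
    classInner μ.1 (h.fvec ν) = 3 * (if μ = Char.trivialChar P then 1 else 0) -
      (if h.Mate μ ν then 1 else 0) := by
  rw [h.fvec_eq, Char.classInner_sub_right, Char.classInner_add_right, Char.classInner_add_right,
    Char.classInner_smul_right, map_ofNat, Char.classInner_irr, Char.classInner_irr,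
    Char.classInner_irr, Char.classInner_irr]
  have d1 : h.rot ν ≠ ν := fun e => hν (h.rot_eq_self e)
  have d2 : h.rot (h.rot ν) ≠ h.rot ν := fun e => d1 (h.rot_injective e)
  have d3 : h.rot (h.rot ν) ≠ ν := fun e => d1 (by
    have := congrArg h.rot e
    rw [h.rot_cube] at this
    exact this.symm)
  by_cases e1 : μ = ν
  · subst e1
    simp [Mate, d1.symm, d3.symm]
  by_cases e2 : μ = h.rot ν
  · subst e2
    simp [Mate, d1, d2.symm]
  by_cases e3 : μ = h.rot (h.rot ν)
  · subst e3
    simp [Mate, d2, d3]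
  simp [Mate, e1, e2, e3]

open Classical in
/-- The inner products of the functions on `P`. -/
theorem classInner_fvec_fvec [Fintype P] {μ ν : IrrCharacter P} (hμ : μ ≠ Char.trivialChar P)
    (hν : ν ≠ Char.trivialChar P) :
    classInner (h.fvec ν) (h.fvec μ) = 3 * (3 + if h.Mate μ ν then 1 else 0) := by
  rw [h.classInner_fvec (h.fvec_apply ν), ← Char.conj_classInner (Char.trivialChar P).1,
    ← Char.conj_classInner μ.1, h.classInner_irr_fvec hν, h.classInner_irr_fvec hν,
    if_pos rfl, if_neg hμ, if_neg (show ¬ h.Mate (Char.trivialChar P) ν from ?_)]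
  · split_ifs <;> simp [map_ofNat]
  · rintro (e | e | e)
    · exact hν e.symm
    · exact h.rot_ne_trivial hν e.symm
    · exact h.rot_ne_trivial (h.rot_ne_trivial hν) e.symm

theorem restrict_apply_sigma (χ : IrrCharacter G) (x : P) : χ.1 (σ x : G) = χ.1 (x : G) := by
  obtain ⟨c, hc⟩ := isConj_iff.mp (h.isConj_apply x)
  rw [← hc, Blocks.irr_classFun χ]

open Classical in
/-- The coefficients of the lifts and the values on `P` of the principal block. -/
theorem exists_weights (hS : SecondPrincipal.{u}) (hM : IsPModular 2 M) [Fintype P] :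
    ∃ W : IrrCharacter P → IrrCharacter G → ℤ,
      (∀ μ, μ ≠ Char.trivialChar P → ∑ χ, W μ χ * (charDegree χ.1 : ℤ) = 0) ∧
      (∀ μ, μ ≠ Char.trivialChar P → W μ (Char.trivialChar G) = 1) ∧
      (∀ μ ν, μ ≠ Char.trivialChar P → ν ≠ Char.trivialChar P →
        ∑ χ, W μ χ * W ν χ = 3 + if h.Mate μ ν then 1 else 0) ∧
      (∀ μ χ, χ ∉ principalBlock M G → W μ χ = 0) ∧
      ∀ χ, χ ∈ principalBlock M G → ∃ m : ℤ, ∀ x : P, χ.1 (x : G) =
        (m : ℂ) * (if x = 1 then (Nat.card P : ℂ) else 0) -
          ∑ μ ∈ Finset.univ.filter (· ≠ Char.trivialChar P), (W μ χ : ℂ) * μ.1 x := by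
  have hint : ∀ μ (χ : IrrCharacter G), ∃ k : ℤ,
      classInner χ.1 (h.lift (h.fvec μ)) = (k : ℂ) := fun μ χ =>
    Char.IsGeneralizedCharacter.exists_int_classInner (Char.irr_isGeneralized χ)
      (h.isGeneralized_lift (h.fvec_apply μ) (h.isGeneralized_fvec μ))
  choose W hW using hint
  have hD : ∀ μ, h.lift (h.fvec μ) = ∑ χ, (W μ χ : ℂ) • χ.1 := fun μ => by
    conv_lhs => rw [Char.eq_sum_classInner_smul (h.isClassFunction_lift (h.fvec_apply μ))]
    refine Finset.sum_congr rfl fun χ _ => ?_
    rw [← Char.conj_classInner χ.1, hW, map_intCast]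
  refine ⟨W, fun μ _ => ?_, fun μ hμ => ?_, fun μ ν hμ hν => ?_, fun μ χ hχ => ?_,
    fun χ hχ => ?_⟩
  · have e := congrFun (hD μ) 1
    rw [h.lift_one (h.fvec_apply μ) (h.fvec_one μ)] at e
    simp only [Finset.sum_apply, Pi.smul_apply, smul_eq_mul, ← Char.charDegree_cast] at e
    exact_mod_cast e.symm
  · have e := h.classInner_lift_eq (h.fvec_apply μ) (h.fvec_one μ)
      (Blocks.irr_classFun (Char.trivialChar G)) (fun _ => 1) (fun x _ => by
        simp [Char.trivialChar])
    rw [h.classInner_fvec (φ := fun _ : P => (1 : ℂ)) (fun _ => rfl),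
      show (fun _ : P => (1 : ℂ)) = (Char.trivialChar P).1 from rfl, Char.classInner_irr,
      Char.classInner_irr, if_pos rfl, if_neg hμ.symm, hW] at e
    norm_num at e
    exact_mod_cast e
  · have e := h.classInner_lift_lift (h.fvec_apply ν) (h.fvec_one ν) (h.fvec_apply μ)
    rw [h.classInner_fvec_fvec hν hμ] at e
    have e' : classInner (h.lift (h.fvec μ)) (h.lift (h.fvec ν)) =
        ∑ χ, (W μ χ : ℂ) * (W ν χ : ℂ) := by
      rw [Char.classInner_eq_sum (h.isClassFunction_lift (h.fvec_apply μ))]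
      refine Finset.sum_congr rfl fun χ _ => ?_
      rw [← Char.conj_classInner χ.1, hW, hW, map_intCast]
    rw [e', ← mul_assoc, inv_mul_cancel₀ (by norm_num : (3 : ℂ) ≠ 0), one_mul] at e
    have hsym : h.Mate ν μ ↔ h.Mate μ ν := by
      constructor <;>
      · rintro (e | e | e)
        · exact Or.inl e.symm
        · exact Or.inr (Or.inr (by rw [e, h.rot_cube]))
        · exact Or.inr (Or.inl (by rw [e, h.rot_cube]))
    simp only [hsym] at e
    by_cases hmate : h.Mate μ ν
    · rw [if_pos hmate] at e ⊢; exact_mod_cast e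
    · rw [if_neg hmate] at e ⊢; exact_mod_cast e
  · have e := (h.classInner_irr_lift hS hM (h.fvec_apply μ) (h.fvec_one μ) χ).2 hχ
    rw [hW] at e
    exact_mod_cast e
  · set φ : P → ℂ := fun x => χ.1 (x : G) with hφdef
    have hφ : ∀ x, φ (σ x) = φ x := fun x => h.restrict_apply_sigma χ x
    have hφg : IsGeneralizedCharacter P φ :=
      Char.IsGeneralizedCharacter.comp (Char.irr_isGeneralized χ) P.subtype
    obtain ⟨m, hm⟩ := Char.IsGeneralizedCharacter.exists_int_classInner hφg
      (Char.irr_isGeneralized (Char.trivialChar P))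
    refine ⟨m, fun x => ?_⟩
    have hcoef : ∀ μ, classInner φ μ.1 = (m : ℂ) -
        if μ = Char.trivialChar P then 0 else (W μ χ : ℂ) := by
      intro μ
      split_ifs with hμ
      · rw [hμ, hm, sub_zero]
      · have e := (h.classInner_irr_lift hS hM (h.fvec_apply μ) (h.fvec_one μ) χ).1 hχ
        rw [hW, h.classInner_fvec hφ, hm] at e
        rw [e]
        ring
    have hexp : φ x = ∑ μ : IrrCharacter P, classInner φ μ.1 * μ.1 x := by
      have e := congrFun (Char.eq_sum_classInner_smul
        (Char.IsGeneralizedCharacter.isClassFunction hφg)) x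
      simpa [Finset.sum_apply] using e
    have hcol : ∑ μ : IrrCharacter P, μ.1 x = if x = 1 then (Nat.card P : ℂ) else 0 := by
      have e := Char.sum_irr_degree_mul x
      simpa [h.irr_one] using e
    show φ x = _
    rw [hexp]
    simp only [hcoef, sub_mul, ite_mul, zero_mul]
    rw [Finset.sum_sub_distrib, ← Finset.mul_sum, hcol, Finset.sum_filter]
    congr 1
    exact Finset.sum_congr rfl fun μ _ => by simp [ite_not]

end ThreeData

end Cfsg.Agent.ZStar
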