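import Cfsg.Agent.Lib.ZStar.SectionAverage
import Cfsg.Agent.Lib.Char.Generalized
import Cfsg.Agent.Lib.Char.Brauer
import Cfsg.Agent.Lib.Transfer.Residual
import Cfsg.Agent.Lib.PComplement.FixedPointFree

/-!
# Functions on the 2-sections of an abelian Sylow 2-subgroup with an automizer of order three
-/

set_option linter.style.haveILetI false

namespace Cfsg.Agent.ZStar

open Cfsg
open scoped ComplexConjugate

universe u

variable {G : Type u} [Group G] [Fintype G] {M : Ideal AlgInt}

/-- An abelian Sylow 2-subgroup `P` whose fusion is given by a fixed-point-free automorphism of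
order three and whose elements have centralizers with normal 2-complements. -/
structure ThreeData (P : Subgroup G) (σ : P ≃* P) : Prop where
  comm : ∀ x y : P, x * y = y * x
  card : ∃ k : ℕ, 4 ≤ k ∧ Nat.card P = 2 ^ k
  isConj_apply : ∀ x : P, IsConj (x : G) (σ x : G)
  fusion : ∀ x y : P, IsConj (x : G) (y : G) → y = x ∨ y = σ x ∨ y = σ (σ x)
  cube : ∀ x, σ (σ (σ x)) = x
  fpf : ∀ x, σ x = x → x = 1
  sylow : ∀ S : Subgroup G, IsPGroup 2 S → ∃ c : G, ∀ s ∈ S, c * s * c⁻¹ ∈ P
  compl : ∀ x : P, x ≠ 1 → ∃ N : Subgroup G,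
    (∀ v, v ∈ N ↔ Commute (x : G) v ∧ Odd (orderOf v)) ∧
      Nat.card (Subgroup.centralizer ({(x : G)} : Set G)) = Nat.card P * Nat.card N

namespace ThreeData

variable {P : Subgroup G} {σ : P ≃* P} (h : ThreeData P σ)
include h

theorem two_pow (x : P) : ∃ k : ℕ, orderOf (x : G) = 2 ^ k := by
  obtain ⟨k, -, hk⟩ := h.card
  obtain ⟨i, -, hi⟩ := (Nat.dvd_prime_pow Nat.prime_two).mp (hk ▸ orderOf_dvd_natCard x)
  exact ⟨i, by rw [Subgroup.orderOf_coe, hi]⟩

theorem exists_pick (g : G) : ∃ x : P, ∃ s, IsPPart 2 g s ∧ IsConj s (x : G) := by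
  haveI : Fact (Nat.Prime 2) := ⟨Nat.prime_two⟩
  obtain ⟨s, hs⟩ := Blocks.exists_isPPart (p := 2) g
  obtain ⟨-, -, -, ⟨k, hk⟩, -⟩ := id hs
  obtain ⟨c, hc⟩ := h.sylow (Subgroup.zpowers s)
    (IsPGroup.of_card (n := k) (by rw [Nat.card_zpowers, hk]))
  exact ⟨⟨_, hc s (Subgroup.mem_zpowers s)⟩, s, hs, isConj_iff.mpr ⟨c, rfl⟩⟩

/-- A representative in `P` of the 2-part. -/
noncomputable def pick (g : G) : P := (h.exists_pick g).choose

theorem apply_pick {f : P → ℂ} (hf : ∀ x, f (σ x) = f x) {g s : G} (hs : IsPPart 2 g s)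
    {x : P} (hx : IsConj s (x : G)) : f (h.pick g) = f x := by
  haveI : Fact (Nat.Prime 2) := ⟨Nat.prime_two⟩
  obtain ⟨s', hs', hx'⟩ := (h.exists_pick g).choose_spec
  obtain rfl := Blocks.IsPPart.unique hs hs'
  rcases h.fusion _ _ (hx.symm.trans hx') with e | e | e
  · rw [pick, e]
  · rw [pick, e, hf]
  · rw [pick, e, hf, hf]

/-- The function with value `f x` on the section of `x`. -/
noncomputable def lift (f : P → ℂ) : G → ℂ := fun g => f (h.pick g)

theorem isClassFunction_lift {f : P → ℂ} (hf : ∀ x, f (σ x) = f x) :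
    IsClassFunction G (h.lift f) := by
  intro g c
  obtain ⟨s, hs, hx⟩ := (h.exists_pick g).choose_spec
  exact h.apply_pick hf (Blocks.IsPPart.conj hs c) ((isConj_iff.mpr ⟨c, rfl⟩ : IsConj s _).symm.trans hx)

theorem lift_one {f : P → ℂ} (hf : ∀ x, f (σ x) = f x) (hf1 : f 1 = 0) : h.lift f 1 = 0 := by
  have h1 : IsPPart 2 (1 : G) 1 := ⟨1, one_mul 1, Commute.one_left _, ⟨0, by simp⟩, by simp⟩
  rw [lift, h.apply_pick hf h1 (x := 1) (IsConj.refl _), hf1]

theorem lift_mul {f : P → ℂ} (hf : ∀ x, f (σ x) = f x) (x : P) {v : G} (hv : Commute (x : G) v)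
    (hodd : Odd (orderOf v)) : h.lift f ((x : G) * v) = f x := by
  haveI : Fact (Nat.Prime 2) := ⟨Nat.prime_two⟩
  exact h.apply_pick hf (Blocks.isPPart_mul hv (h.two_pow x) (not_two_dvd_iff_odd.mpr hodd))
    (IsConj.refl _)

theorem card_orbit {x : P} (hx : x ≠ 1) [DecidableEq P] :
    ({x, σ x, σ (σ x)} : Finset P).card = 3 := by
  refine Finset.card_eq_three.mpr ⟨x, σ x, σ (σ x), fun e => hx (h.fpf x e.symm), fun e => ?_,
    fun e => hx (h.fpf x (σ.injective e).symm), rfl⟩
  have := congrArg σ e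
  rw [h.cube] at this
  exact hx (h.fpf x this)

open Classical in
/-- Sums against a lift split over the sections. -/
theorem sum_mul_lift {f : P → ℂ} (hf : ∀ x, f (σ x) = f x) (hf1 : f 1 = 0) (Φ : G → ℂ)
    [Fintype P] :
    3 * ∑ g, Φ g * h.lift f g =
      ∑ x ∈ Finset.univ.filter (fun x : P => x ≠ 1), f x * ∑ g ∈ twoSection (x : G), Φ g := by
  haveI : Fact (Nat.Prime 2) := ⟨Nat.prime_two⟩
  have e : ∀ x : P, ∑ g ∈ twoSection (x : G), Φ g =
      ∑ g, if g ∈ twoSection (x : G) then Φ g else 0 := fun x => by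
    rw [Finset.sum_ite_mem, Finset.univ_inter]
  simp only [e, Finset.mul_sum, mul_ite, mul_zero]
  rw [Finset.sum_comm]
  refine Finset.sum_congr rfl fun g _ => ?_
  obtain ⟨s, hs, hx⟩ := (h.exists_pick g).choose_spec
  rw [← Finset.sum_filter, Finset.filter_filter]
  have hmem : ∀ y : P, g ∈ twoSection (y : G) ↔
      y = h.pick g ∨ y = σ (h.pick g) ∨ y = σ (σ (h.pick g)) := by
    intro y
    rw [mem_twoSection]
    constructor
    · rintro ⟨s', hy, hs'⟩
      obtain rfl := Blocks.IsPPart.unique hs hs'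
      exact h.fusion _ _ (hx.symm.trans hy.symm)
    · intro hy
      refine ⟨s, ?_, hs⟩
      have h1 := h.isConj_apply (h.pick g)
      have h2 := h.isConj_apply (σ (h.pick g))
      rcases hy with rfl | rfl | rfl
      · exact hx.symm
      · exact h1.symm.trans hx.symm
      · exact h2.symm.trans (h1.symm.trans hx.symm)
  by_cases hp : h.pick g = 1
  · rw [Finset.sum_eq_zero]
    · simp [lift, hp, hf1]
    · intro y hy
      obtain ⟨hy1, hy2⟩ := (Finset.mem_filter.mp hy).2
      rw [hmem, hp, map_one, map_one] at hy2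
      exact absurd (by simpa using hy2) hy1
  · have hF : (Finset.univ.filter fun y : P => y ≠ 1 ∧ g ∈ twoSection (y : G)) =
        ({h.pick g, σ (h.pick g), σ (σ (h.pick g))} : Finset P) := by
      ext y
      simp only [Finset.mem_filter, Finset.mem_univ, true_and, Finset.mem_insert,
        Finset.mem_singleton, hmem]
      refine ⟨fun hy => hy.2, fun hy => ⟨?_, hy⟩⟩
      rcases hy with rfl | rfl | rfl <;> simp [hp]
    rw [hF, Finset.sum_congr rfl (g := fun _ => Φ g * h.lift f g) (fun y hy => by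
      simp only [Finset.mem_insert, Finset.mem_singleton] at hy
      rcases hy with rfl | rfl | rfl <;> simp [lift, hf, mul_comm]), Finset.sum_const,
      h.card_orbit hp, nsmul_eq_mul]
    push_cast
    ring

/-- The sum over a section. -/
theorem sum_section {x : P} (hx : x ≠ 1) {Φ : G → ℂ} (hΦ : IsClassFunction G Φ) {c : ℂ}
    (hc : ∑ v ∈ oddCentralizing (x : G), Φ ((x : G) * v) = ((oddCentralizing (x : G)).card : ℂ) * c) :
    ∑ g ∈ twoSection (x : G), Φ g = (Nat.card G : ℂ) * (Nat.card P : ℂ)⁻¹ * c := by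
  classical
  obtain ⟨N, hN, hcard⟩ := h.compl x hx
  have hn : (oddCentralizing (x : G)).card = Nat.card N := by
    rw [Nat.card_eq_fintype_card]
    exact (Fintype.card_of_subtype _ fun v => by rw [mem_oddCentralizing, hN]).symm
  have h2 := Subgroup.card_mul_index (Subgroup.centralizer ({(x : G)} : Set G))
  rw [hcard] at h2
  rw [sum_twoSection (h.two_pow x) hΦ, hc, hn, ← h2]
  have : (Nat.card P : ℂ) ≠ 0 := Nat.cast_ne_zero.mpr Nat.card_pos.ne'
  push_cast
  field_simp

theorem classInner_lift_eq {f : P → ℂ} (hf : ∀ x, f (σ x) = f x) (hf1 : f 1 = 0) {Φ : G → ℂ}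
    (hΦ : IsClassFunction G Φ) (φ : P → ℂ) [Fintype P]
    (hc : ∀ x : P, x ≠ 1 → ∑ v ∈ oddCentralizing (x : G), Φ ((x : G) * v) =
      ((oddCentralizing (x : G)).card : ℂ) * φ x) :
    classInner Φ (h.lift f) = 3⁻¹ * classInner φ f := by
  classical
  have key := h.sum_mul_lift (f := fun x => conj (f x)) (fun x => by simp only [hf])
    (by simp [hf1]) Φ
  rw [Finset.sum_congr rfl (g := fun x : P => (Nat.card G : ℂ) * (Nat.card P : ℂ)⁻¹ *
    (φ x * conj (f x))) (fun x hx => by
      rw [h.sum_section (Finset.mem_filter.mp hx).2 hΦ (hc x (Finset.mem_filter.mp hx).2)]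
      ring), ← Finset.mul_sum] at key
  rw [classInner, classInner]
  rw [Finset.sum_filter_of_ne (p := fun x : P => x ≠ 1)
    (fun x _ hx h1 => hx (by rw [h1, hf1, map_zero, mul_zero]))] at key
  have hG : (Nat.card G : ℂ) ≠ 0 := Char.card_ne_zero
  have hP : (Nat.card P : ℂ) ≠ 0 := Nat.cast_ne_zero.mpr Nat.card_pos.ne'
  have e : ∑ g, Φ g * h.lift (fun x => conj (f x)) g = ∑ g, Φ g * conj (h.lift f g) := rfl
  rw [e] at key
  field_simp at key ⊢
  linear_combination key

/-- Inner products with irreducible characters. -/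
theorem classInner_irr_lift (hS : SecondPrincipal.{u}) (hM : IsPModular 2 M) {f : P → ℂ}
    (hf : ∀ x, f (σ x) = f x) (hf1 : f 1 = 0) (χ : IrrCharacter G) [Fintype P] :
    (χ ∈ principalBlock M G →
        classInner χ.1 (h.lift f) = 3⁻¹ * classInner (fun x : P => χ.1 (x : G)) f) ∧
      (χ ∉ principalBlock M G → classInner χ.1 (h.lift f) = 0) := by
  refine ⟨fun hχ => h.classInner_lift_eq hf hf1 (Blocks.irr_classFun χ) _ fun x hx => ?_,
    fun hχ => ?_⟩
  · obtain ⟨N, hN, -⟩ := h.compl x hx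
    exact (sum_oddCentralizing_apply hS hM (h.two_pow x) hN χ).1 hχ
  · rw [h.classInner_lift_eq hf hf1 (Blocks.irr_classFun χ) 0 fun x hx => ?_]
    · simp [classInner]
    · obtain ⟨N, hN, -⟩ := h.compl x hx
      rw [(sum_oddCentralizing_apply hS hM (h.two_pow x) hN χ).2 hχ, Pi.zero_apply, mul_zero]

/-- The lift is an isometry up to the factor three. -/
theorem classInner_lift_lift {f f' : P → ℂ} (hf : ∀ x, f (σ x) = f x) (hf1 : f 1 = 0)
    (hf' : ∀ x, f' (σ x) = f' x) [Fintype P] :
    classInner (h.lift f') (h.lift f) = 3⁻¹ * classInner f' f :=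
  h.classInner_lift_eq hf hf1 (h.isClassFunction_lift hf') f' fun x _ => by
    rw [Finset.sum_congr rfl (g := fun _ => f' x) (fun v hv => by
      obtain ⟨hv1, hv2⟩ := mem_oddCentralizing.mp hv
      exact h.lift_mul hf' x hv1 hv2), Finset.sum_const, nsmul_eq_mul]

/-- The lift of a generalized character is a generalized character. -/
theorem isGeneralized_lift {f : P → ℂ} (hf : ∀ x, f (σ x) = f x)
    (hgen : IsGeneralizedCharacter P f) : IsGeneralizedCharacter G (h.lift f) := by
  classical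
  haveI : Fact (Nat.Prime 2) := ⟨Nat.prime_two⟩
  refine Char.isGeneralizedCharacter_of_elementary (h.isClassFunction_lift hf) fun E p hp hE => ?_
  haveI : Group.IsNilpotent E := Char.IsElementary.isNilpotent hp hE
  obtain ⟨S, N, hN, hc⟩ := PComplement.hasNormalPComplement_of_isNilpotent (G := E) (p := 2)
  haveI := hN
  haveI : (S : Subgroup E).Normal :=
    S.normal_of_normalizerCondition Group.normalizerCondition_of_isNilpotent
  obtain ⟨c, hcS⟩ := h.sylow ((S : Subgroup E).map E.subtype) (S.2.map _)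
  let π : E →* (S : Subgroup E) :=
    (hc.symm.QuotientMulEquiv).toMonoidHom.comp (QuotientGroup.mk' N)
  let ψ : E →* P :=
    { toFun := fun e => ⟨c * ((π e : E) : G) * c⁻¹, hcS _ ⟨_, (π e).2, rfl⟩⟩
      map_one' := Subtype.ext (by simp)
      map_mul' := fun a b => Subtype.ext (by simp [mul_assoc]) }
  have e : (fun x : E => h.lift f x) = f ∘ ψ := by
    funext x
    have hπS : ∀ s : (S : Subgroup E), π (s : E) = s := by
      intro s
      show hc.symm.QuotientMulEquiv _ = s
      apply hc.symm.QuotientMulEquiv.symm.injective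
      rw [MulEquiv.symm_apply_apply]
      rfl
    set n : E := (π x : E)⁻¹ * x with hn
    have hnN : n ∈ N := by
      have h1 : π n = 1 := by rw [hn, map_mul, map_inv, hπS, inv_mul_cancel]
      have h2 : hc.symm.QuotientMulEquiv (QuotientGroup.mk' N n) = 1 := h1
      rw [MulEquiv.map_eq_one_iff] at h2
      exact (QuotientGroup.eq_one_iff n).mp h2
    have hcomm : Commute (π x : E) n :=
      Subgroup.commute_of_normal_of_disjoint _ _ ‹(S : Subgroup E).Normal› hN hc.disjoint.symm _ _
        (π x).2 hnN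
    obtain ⟨k, hk⟩ := IsPGroup.iff_orderOf.mp S.2 (π x)
    have hodd : ¬ 2 ∣ orderOf n := (Nat.Prime.coprime_iff_not_dvd Nat.prime_two).mp
      ((Transfer.coprime_card_of_isComplement'_sylow S hc).coprime_dvd_left
        (Subgroup.orderOf_dvd_natCard N hnN)).symm
    have hpart : IsPPart 2 (x : G) ((π x : E) : G) :=
      ⟨(n : G), by simp [hn], congrArg Subtype.val hcomm.eq,
        ⟨k, by rw [Subgroup.orderOf_coe, Subgroup.orderOf_coe, hk]⟩,
        by rwa [Subgroup.orderOf_coe]⟩
    exact h.apply_pick hf hpart (isConj_iff.mpr ⟨c, rfl⟩)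
  rw [e]
  exact Char.IsGeneralizedCharacter.comp hgen ψ

end ThreeData

end Cfsg.Agent.ZStar
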