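import Cfsg.Agent.Lib.CharInt.FrobeniusKernel
import Cfsg.Agent.Lib.PCore.Basic
import Mathlib.GroupTheory.Nilpotent
import Mathlib.GroupTheory.SchurZassenhaus

/-!
# Isolated `p`-elements centralizing the `p'`-subgroups they normalize are central

`central` is proved by induction: with trivial centre the centralizer would be a Frobenius complement,
whose kernel is a `p'`-subgroup; otherwise one passes to the quotient by a central prime order subgroup.
-/

set_option linter.style.haveILetI false

namespace Cfsg.Agent.ZStar.IsolatedCentral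

open Subgroup

universe u

variable {p : ℕ} [Fact p.Prime] {G : Type u} [Group G] [Finite G]

/-- No two conjugates of `x` lie in a common `p`-subgroup with `x`. -/
def Unique (p : ℕ) {G : Type u} [Group G] (x : G) : Prop :=
  ∀ (g : G) (P : Subgroup G), IsPGroup p P → x ∈ P → g * x * g⁻¹ ∈ P → g * x * g⁻¹ = x

/-- `x` centralizes the `p'`-subgroups it normalizes. -/
def CentralizesCoprime (p : ℕ) {G : Type u} [Group G] (x : G) : Prop :=
  ∀ H : Subgroup G, (Nat.card H).Coprime p → (∀ h ∈ H, x * h * x⁻¹ ∈ H) →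
    ∀ h ∈ H, x * h = h * x

theorem isPGroup_zpowers_mk {H : Subgroup G} {x : G} (hx : x ∈ H)
    (hxp : IsPGroup p (zpowers x)) : IsPGroup p (zpowers (⟨x, hx⟩ : H)) := by
  obtain ⟨k, hk⟩ := IsPGroup.iff_card.mp hxp
  refine IsPGroup.of_card (n := k) ?_
  rw [Nat.card_zpowers, Subgroup.orderOf_mk, ← Nat.card_zpowers, hk]

omit [Fact p.Prime] in
theorem unique_restrict {H : Subgroup G} {x : G} (hx : x ∈ H) (h : Unique p x) :
    Unique p (⟨x, hx⟩ : H) := fun b P hP hxP hbP =>
  Subtype.ext (h (b : G) (P.map H.subtype) (hP.map _) ⟨_, hxP, rfl⟩ ⟨_, hbP, rfl⟩)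

omit [Fact p.Prime] in
theorem centralizes_restrict {H : Subgroup G} {x : G} (hx : x ∈ H) (h : CentralizesCoprime p x) :
    CentralizesCoprime p (⟨x, hx⟩ : H) := fun K hK hKn k hk =>
  Subtype.ext (h (K.map H.subtype)
    (by rw [Subgroup.card_map_of_injective H.subtype_injective]; exact hK)
    (by rintro _ ⟨j, hj, rfl⟩; exact ⟨_, hKn j hj, rfl⟩) (k : G) ⟨k, hk, rfl⟩)

/-- Without centre, the centralizer is a Frobenius complement, hence everything. -/
theorem eq_of_center_eq_bot {x : G} (hxp : IsPGroup p (zpowers x)) (hiso : Unique p x)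
    (hcen : CentralizesCoprime p x) (hZ : center G = ⊥)
    (hsub : ∀ L : Subgroup G, L ≠ ⊤ → ∀ hx : x ∈ L, ∀ g : L,
      g * (⟨x, hx⟩ : L) * g⁻¹ = ⟨x, hx⟩) (g : G) : g * x * g⁻¹ = x := by
  classical
  by_contra hg
  have hx1 : x ≠ 1 := fun h => hg (by rw [h]; group)
  set H := centralizer ({x} : Set G) with hH
  have hgH : g ∉ H := fun h => hg (by
    rw [hH, mem_centralizer_singleton_iff] at h
    rw [h, mul_inv_cancel_right])
  have hFr : Cfsg.IsFrobeniusComplement H := by
    refine ⟨fun h => hx1 ?_, fun h => hgH (h ▸ mem_top g), fun c hc => ?_⟩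
    · have : x ∈ H := mem_centralizer_singleton_iff.mpr rfl
      rw [h] at this
      exact mem_bot.mp this
    rw [eq_bot_iff]
    intro a ha
    rw [mem_bot]
    by_contra ha1
    obtain ⟨haH, hacH⟩ := mem_inf.mp ha
    rw [mem_pointwise_smul_iff_inv_smul_mem] at hacH
    have h1 : x ∈ centralizer ({a} : Set G) :=
      mem_centralizer_singleton_iff.mpr (mem_centralizer_singleton_iff.mp haH).symm
    have h3 : c⁻¹ * a * c * x = x * (c⁻¹ * a * c) := by
      have := mem_centralizer_singleton_iff.mp hacH
      simpa [MulAut.smul_def, mul_assoc] using this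
    have h2 : c * x * c⁻¹ ∈ centralizer ({a} : Set G) := by
      rw [mem_centralizer_singleton_iff]
      calc c * x * c⁻¹ * a = c * (x * (c⁻¹ * a * c)) * c⁻¹ := by group
        _ = c * (c⁻¹ * a * c * x) * c⁻¹ := by rw [h3]
        _ = a * (c * x * c⁻¹) := by group
    have hLt : centralizer ({a} : Set G) ≠ ⊤ := fun h => ha1 (mem_bot.mp (hZ ▸ mem_center_iff.mpr
      (fun b => mem_centralizer_singleton_iff.mp
        (show b ∈ centralizer ({a} : Set G) from h ▸ mem_top b))))
    have h4 := congrArg Subtype.val (hsub _ hLt h1 ⟨c * x * c⁻¹, h2⟩)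
    simp only [Subgroup.coe_mul, Subgroup.coe_inv] at h4
    have hcomm : Commute x (c * x * c⁻¹) := (mul_inv_eq_iff_eq_mul.mp h4).symm
    obtain ⟨k, hk⟩ := IsPGroup.iff_card.mp hxp
    have hcp : IsPGroup p (zpowers (c * x * c⁻¹)) := by
      refine IsPGroup.of_card (n := k) ?_
      rw [Nat.card_zpowers, ← MulAut.conj_apply, MulEquiv.orderOf_eq, ← Nat.card_zpowers, hk]
    have hsup : IsPGroup p (zpowers x ⊔ zpowers (c * x * c⁻¹) : Subgroup G) :=
      hxp.to_sup_of_normal_right' hcp (zpowers_le.mpr (by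
        refine centralizer_le_normalizer _ ?_
        rw [mem_centralizer_iff]
        rintro _ ⟨i, rfl⟩
        exact ((hcomm.zpow_right i).eq).symm))
    refine hc (mem_centralizer_singleton_iff.mpr (mul_inv_eq_iff_eq_mul.mp ?_))
    exact hiso c _ hsup (mem_sup_left (mem_zpowers x)) (mem_sup_right (mem_zpowers _))
  obtain ⟨K, -, hKn, hKH⟩ := CharInt.exists_frobeniusKernel hFr
  obtain ⟨S, hS⟩ := hxp.exists_le_sylow
  have hSH : (S : Subgroup G) ≤ H := fun b hb => by
    rw [hH, mem_centralizer_singleton_iff]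
    refine mul_inv_eq_iff_eq_mul.mp (hiso b _ S.2 (hS (mem_zpowers x)) ?_)
    exact mul_mem (mul_mem hb (hS (mem_zpowers x))) (inv_mem hb)
  have hKp : (Nat.card K).Coprime p := by
    rw [← hKH.index_eq_card]
    exact ((Nat.Prime.coprime_iff_not_dvd Fact.out).mpr fun hd =>
      S.not_dvd_index (hd.trans (index_dvd_of_le hSH))).symm
  have hKle : K ≤ H := fun k hk => mem_centralizer_singleton_iff.mpr
    (hcen K hKp (fun h hh => hKn.conj_mem h hh x) k hk).symm
  have hK1 : K = ⊥ := disjoint_self.mp (hKH.disjoint.mono_right hKle)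
  have := hKH.card_mul_card
  rw [hK1, Subgroup.card_bot, one_mul] at this
  exact hgH ((card_eq_iff_eq_top _).mp this ▸ mem_top g)

variable {X : Subgroup G} [X.Normal]

/-- Two conjugates in the preimage of a `p`-subgroup of a central quotient coincide. -/
theorem eq_of_mem_comap (hXc : X ≤ center G) {x g : G} (hxp : IsPGroup p (zpowers x))
    (hiso : Unique p x) {P : Subgroup (G ⧸ X)} (hP : IsPGroup p P)
    (hx : x ∈ P.comap (QuotientGroup.mk' X)) (hg : g * x * g⁻¹ ∈ P.comap (QuotientGroup.mk' X)) :
    g * x * g⁻¹ = x := by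
  classical
  set K := P.comap (QuotientGroup.mk' X) with hK
  let f : K →* P := ((QuotientGroup.mk' X).comp K.subtype).codRestrict P fun k => k.2
  have hker : f.ker ≤ center K := fun k hk => by
    rw [MonoidHom.mem_ker, Subtype.ext_iff] at hk
    have : (k : G) ∈ X := (QuotientGroup.eq_one_iff _).mp hk
    exact mem_center_iff.mpr fun b => Subtype.ext (mem_center_iff.mp (hXc this) (b : G))
  haveI : Group.IsNilpotent P := hP.isNilpotent
  haveI : Group.IsNilpotent K := Subgroup.isNilpotent_of_ker_le_center f hker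
  obtain ⟨R, hR⟩ := (isPGroup_zpowers_mk hx hxp).exists_le_sylow
  haveI := R.normal_of_normalizerCondition Group.normalizerCondition_of_isNilpotent
  haveI := Sylow.unique_of_normal R inferInstance
  have hgp : IsPGroup p (zpowers (⟨g * x * g⁻¹, hg⟩ : K)) := by
    refine isPGroup_zpowers_mk hg ?_
    obtain ⟨k, hk⟩ := IsPGroup.iff_card.mp hxp
    refine IsPGroup.of_card (n := k) ?_
    rw [Nat.card_zpowers, ← MulAut.conj_apply, MulEquiv.orderOf_eq, ← Nat.card_zpowers, hk]
  obtain ⟨R', hR'⟩ := hgp.exists_le_sylow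
  rw [Subsingleton.elim R' R] at hR'
  exact hiso g ((R : Subgroup K).map K.subtype) (R.2.map _) ⟨_, hR (mem_zpowers _), rfl⟩
    ⟨_, hR' (mem_zpowers _), rfl⟩

/-- The quotient by a central subgroup of prime order inherits the centralizing property. -/
theorem centralizes_quotient (hXc : X ≤ center G) {q : ℕ} [hq : Fact q.Prime]
    (hXcard : Nat.card X = q) {x : G} (hcen : CentralizesCoprime p x) :
    CentralizesCoprime p (QuotientGroup.mk' X x) := by
  classical
  intro H hH hHn h hh
  obtain ⟨h, rfl⟩ := QuotientGroup.mk'_surjective X h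
  set K := H.comap (QuotientGroup.mk' X) with hK
  have hXK : X ≤ K := fun z hz => by
    rw [hK, mem_comap, show QuotientGroup.mk' X z = 1 from (QuotientGroup.eq_one_iff z).mpr hz]
    exact one_mem H
  set X' := X.subgroupOf K with hX'
  have hX'card : Nat.card X' = q := by
    rw [hX', Nat.card_congr (subgroupOfEquivOfLe hXK).toEquiv, hXcard]
  let f : K →* H := ((QuotientGroup.mk' X).comp K.subtype).codRestrict H fun k => k.2
  have hfs : Function.Surjective f := by
    rintro ⟨b, hb⟩
    obtain ⟨b, rfl⟩ := QuotientGroup.mk'_surjective X b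
    exact ⟨⟨b, hb⟩, rfl⟩
  have hker : f.ker = X' := by
    ext k
    rw [MonoidHom.mem_ker, Subtype.ext_iff, hX', mem_subgroupOf]
    exact QuotientGroup.eq_one_iff _
  have hidx : X'.index = Nat.card H := by
    rw [← hker, index_ker, MonoidHom.range_eq_top.mpr hfs, card_top]
  have hKn : ∀ b ∈ K, x * b * x⁻¹ ∈ K := fun b hb => by
    rw [hK, mem_comap, map_mul, map_mul, map_inv]
    exact hHn _ hb
  rw [← map_mul, ← map_mul]
  refine congrArg _ ?_
  by_cases hqp : q = p
  · subst hqp
    obtain ⟨N, hN⟩ := exists_right_complement'_of_coprime (N := X')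
      (by rw [hX'card, hidx]; exact hH.symm)
    have hNcard : Nat.card N = Nat.card H := by rw [← hN.symm.index_eq_card, hidx]
    have hXcomm : ∀ z ∈ X', ∀ b : K, b * z = z * b := fun z hz b =>
      Subtype.ext (mem_center_iff.mp (hXc hz) (b : G))
    haveI : N.Normal := by
      rw [← normalizer_eq_top_iff, eq_top_iff, ← hN.sup_eq_top, sup_le_iff]
      refine ⟨fun z hz => ?_, le_normalizer⟩
      rw [mem_normalizer_iff]
      intro b
      rw [← hXcomm z hz b, mul_inv_cancel_right]
    have hmem : ∀ b : K, (orderOf b).Coprime q → b ∈ N := by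
      intro b hb
      have h2 : orderOf (b : K ⧸ N) ∣ q := by
        have : N.index = q := by rw [hN.index_eq_card, hX'card]
        exact (_root_.orderOf_dvd_natCard _).trans (by rw [← index_eq_card, this])
      exact (QuotientGroup.eq_one_iff b).mp (orderOf_eq_one_iff.mp
        (Nat.eq_one_of_dvd_coprimes hb (orderOf_map_dvd (QuotientGroup.mk' N) b) h2))
    have hNc := hcen (N.map K.subtype)
      (by rw [card_map_of_injective K.subtype_injective, hNcard]; exact hH)
      (by
        rintro _ ⟨b, hb, rfl⟩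
        refine ⟨⟨_, hKn b b.2⟩, hmem _ ?_, rfl⟩
        rw [← Subgroup.orderOf_coe]
        show (orderOf (x * (b : G) * x⁻¹)).Coprime q
        rw [← MulAut.conj_apply, MulEquiv.orderOf_eq, Subgroup.orderOf_coe]
        exact (hNcard ▸ hH).coprime_dvd_left (Subgroup.orderOf_dvd_natCard N hb))
    have hb : (⟨h, hh⟩ : K) ∈ ((X' ⊔ N : Subgroup K) : Set K) := by
      rw [hN.sup_eq_top]; trivial
    rw [mul_normal] at hb
    obtain ⟨w, hw, b, hb, e⟩ := Set.mem_mul.mp hb
    have e' : h = (w : G) * b := (congrArg Subtype.val e).symm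
    rw [e', ← mul_assoc, mem_center_iff.mp (hXc (show (w : G) ∈ X from hw)) x, mul_assoc, hNc (b : G) ⟨b, hb, rfl⟩,
      ← mul_assoc]
  · refine hcen K ?_ hKn h hh
    rw [← card_mul_index X', hX'card, hidx]
    exact Nat.Coprime.mul_left ((Nat.coprime_primes hq.out Fact.out).mpr hqp) hH

/-- A `p`-element with no second conjugate in a common `p`-subgroup which centralizes the
`p'`-subgroups it normalizes is central. -/
theorem central : ∀ (n : ℕ) (G : Type u) [Group G] [Finite G], Nat.card G = n → ∀ x : G,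
    IsPGroup p (zpowers x) → Unique p x → CentralizesCoprime p x → ∀ g : G, g * x * g⁻¹ = x := by
  intro n
  induction n using Nat.strong_induction_on with
  | _ n ih =>
  intro G _ _ hn x hxp hiso hcen
  by_cases hZ : center G = ⊥
  · refine eq_of_center_eq_bot hxp hiso hcen hZ fun L hL hx => ?_
    refine ih _ ?_ L rfl _ (isPGroup_zpowers_mk hx hxp) (unique_restrict hx hiso)
      (centralizes_restrict hx hcen)
    exact hn ▸ lt_of_le_of_ne (card_le_card_group L) fun h => hL ((card_eq_iff_eq_top _).mp h)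
  · obtain ⟨q, hq, hqd⟩ := Nat.exists_prime_and_dvd (n := Nat.card (center G))
      (fun h => hZ (card_eq_one.mp h))
    haveI : Fact q.Prime := ⟨hq⟩
    obtain ⟨a, ha⟩ := exists_prime_orderOf_dvd_card' q hqd
    set X := zpowers (a : G) with hX
    have hXc : X ≤ center G := zpowers_le.mpr a.2
    have hXcard : Nat.card X = q := by rw [hX, Nat.card_zpowers, Subgroup.orderOf_coe, ha]
    haveI : X.Normal := ⟨fun b hb g => by
      rw [mem_center_iff.mp (hXc hb) g, mul_inv_cancel_right]
      exact hb⟩
    have hlt : Nat.card (G ⧸ X) < n := by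
      rw [← hn, X.card_eq_card_quotient_mul_card_subgroup, hXcard]
      exact lt_mul_of_one_lt_right Nat.card_pos hq.one_lt
    have hxq : IsPGroup p (zpowers (QuotientGroup.mk' X x)) := by
      rw [← MonoidHom.map_zpowers]; exact hxp.map _
    have key := ih _ hlt (G ⧸ X) rfl (QuotientGroup.mk' X x) hxq
      (fun g P hP hxP hgP => by
        obtain ⟨g, rfl⟩ := QuotientGroup.mk'_surjective X g
        rw [← map_inv, ← map_mul, ← map_mul] at hgP ⊢
        exact congrArg _ (eq_of_mem_comap hXc hxp hiso hP hxP hgP))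
      (centralizes_quotient hXc hXcard hcen)
    intro g
    have e := key (QuotientGroup.mk' X g)
    rw [← map_inv, ← map_mul, ← map_mul] at e
    refine eq_of_mem_comap hXc hxp hiso hxq (mem_zpowers _) ?_
    rw [mem_comap, e]
    exact mem_zpowers _

end Cfsg.Agent.ZStar.IsolatedCentral
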