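import Cfsg.Agent.Lib.Involution.Isolated
import Cfsg.Agent.Lib.PCore.Basic
import Cfsg.Prelude.Def_IsolatedElements
import Cfsg.Prelude.Def_Local

/-!
# A minimal counterexample to the Z*-theorem: group theory

`MinConfig z`: `z` is an isolated involution, `O(G) = 1`, `z` is not central, and `z` is central
modulo the core in every proper subgroup containing it and in every proper quotient.
-/

set_option linter.style.haveILetI false

namespace Cfsg.Agent.ZStar

open Cfsg

universe u

/-- A minimal counterexample to the Z*-theorem. -/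
structure MinConfig {G : Type u} [Group G] (z : G) : Prop where
  iso : IsIsolatedInvolution z
  core : oddCore G = ⊥
  noncentral : z ∉ Subgroup.center G
  sub : ∀ (H : Subgroup G) (hz : z ∈ H), H ≠ ⊤ → InZStar 2 (⟨z, hz⟩ : ↥H)
  quot : ∀ (N : Subgroup G) [N.Normal], N ≠ ⊥ → z ∉ N → InZStar 2 (QuotientGroup.mk z : G ⧸ N)

variable {G : Type u} [Group G] [Finite G] {z : G}

omit [Finite G] in
theorem mem_center_of_commute_conj (hz : IsIsolatedInvolution z)
    (h : ∀ g : G, Commute z (g * z * g⁻¹)) : z ∈ Subgroup.center G := by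
  rw [Subgroup.mem_center_iff]
  intro g
  exact mul_inv_eq_iff_eq_mul.mp (hz.2 g (h g))

omit [Finite G] in
theorem isolated_subgroup (hz : IsIsolatedInvolution z) {H : Subgroup G} (hzH : z ∈ H) :
    IsIsolatedInvolution (⟨z, hzH⟩ : ↥H) :=
  ⟨by rw [← Subgroup.orderOf_coe]; exact hz.1,
    fun g hg => Subtype.ext (hz.2 g (congrArg Subtype.val hg))⟩

theorem inZStar_of_quotient {N : Subgroup G} [N.Normal] (hN : Odd (Nat.card N)) {x : G}
    (h : InZStar 2 (QuotientGroup.mk x : G ⧸ N)) : InZStar 2 x := by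
  have hle : (oddCore (G ⧸ N)).comap (QuotientGroup.mk' N) ≤ oddCore G := by
    refine PCore.le_oddCore ?_
    have h1 := PCore.card_comap_dvd (QuotientGroup.mk' N) (oddCore (G ⧸ N))
    rw [QuotientGroup.ker_mk'] at h1
    exact (hN.mul PCore.odd_card_oddCore).of_dvd_nat h1
  intro g
  exact hle (h (g : G ⧸ N))

namespace MinConfig

variable (hz : MinConfig z)
include hz

theorem normal_eq_top {N : Subgroup G} [N.Normal] (hzN : z ∈ N) : N = ⊤ := by
  by_contra hne
  apply hz.noncentral
  have h := hz.sub N hzN hne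
  have hbot : oddCore ↥N = ⊥ := PCore.pPrimeCore_eq_bot_of_normal N hz.core
  refine mem_center_of_commute_conj hz.iso fun g => ?_
  have hgN : g * z * g⁻¹ ∈ N := Subgroup.Normal.conj_mem inferInstance z hzN g
  have h1 : (⟨g * z * g⁻¹, hgN⟩ : ↥N) * ⟨z, hzN⟩ * (⟨g * z * g⁻¹, hgN⟩ : ↥N)⁻¹ *
      (⟨z, hzN⟩ : ↥N)⁻¹ ∈ oddCore ↥N := h ⟨g * z * g⁻¹, hgN⟩
  rw [hbot, Subgroup.mem_bot] at h1
  have h2 : g * z * g⁻¹ * z * (g * z * g⁻¹)⁻¹ * z⁻¹ = 1 := congrArg Subtype.val h1
  rw [mul_inv_eq_one, mul_inv_eq_iff_eq_mul] at h2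
  exact h2.symm

open scoped IsMulCommutative in
/-- A minimal counterexample has trivial centre. -/
theorem center_eq_bot : Subgroup.center G = ⊥ := by
  by_contra hne
  have hzC := hz.noncentral
  have hcard : ¬ Odd (Nat.card (Subgroup.center G)) := fun h => hne (le_bot_iff.mp
    (hz.core ▸ PCore.le_oddCore h))
  obtain ⟨w, hw⟩ := exists_prime_orderOf_dvd_card' (G := Subgroup.center G) 2
    (even_iff_two_dvd.mp (Nat.not_odd_iff_even.mp hcard))
  have hw2 : orderOf (w : G) = 2 := by rw [Subgroup.orderOf_coe, hw]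
  set N := Subgroup.zpowers (w : G) with hN
  have hNle : N ≤ Subgroup.center G := Subgroup.zpowers_le.mpr w.2
  haveI : N.Normal := ⟨fun n hn g => by
    have := Subgroup.mem_center_iff.mp (hNle hn) g
    rwa [this, mul_inv_cancel_right]⟩
  have hNbot : N ≠ ⊥ := fun h => by
    rw [hN, Subgroup.zpowers_eq_bot] at h; simp [h] at hw2
  have hq := hz.quot N hNbot (fun h => hzC (hNle h))
  have hNc : Nat.card N = 2 := by rw [hN, Nat.card_zpowers, hw2]
  -- the preimage of the core is central
  set M := (oddCore (G ⧸ N)).comap (QuotientGroup.mk' N) with hM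
  have hNM : N ≤ M := fun n hn => by
    rw [hM, Subgroup.mem_comap, QuotientGroup.mk'_apply, (QuotientGroup.eq_one_iff n).mpr hn]
    exact one_mem _
  have hMN : M = N := by
    refine le_antisymm ?_ hNM
    intro m hm
    have hodd : Odd (orderOf (QuotientGroup.mk m : G ⧸ N)) :=
      PCore.odd_card_oddCore.of_dvd_nat (by
        have := orderOf_dvd_natCard (⟨_, hm⟩ : oddCore (G ⧸ N))
        rwa [← Subgroup.orderOf_coe] at this)
    -- the elements of odd order in `M` form a normal subgroup of odd order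
    have hidx : Odd (N.relIndex M) := by
      have h1 : N.relIndex M = Nat.card (M.map (QuotientGroup.mk' N)) := by
        rw [← Subgroup.relIndex_bot_left, ← QuotientGroup.map_mk'_self N,
          Subgroup.relIndex_map_map, QuotientGroup.ker_mk', sup_idem, sup_eq_left.mpr hNM]
      rw [h1]
      exact PCore.odd_card_oddCore.of_dvd_nat
        (Subgroup.card_dvd_of_le (Subgroup.map_comap_le _ _))
    by_contra hmN
    -- `m²` has odd order and generates a normal subgroup with the other squares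
    set O := Subgroup.closure {x : G | x ∈ M ∧ Odd (orderOf x)} with hO
    haveI : O.Normal := ⟨fun x hx g => by
      have hle : O ≤ O.comap (MulAut.conj g).toMonoidHom := by
        rw [hO, Subgroup.closure_le]
        intro y hy
        exact Subgroup.subset_closure ⟨(inferInstance : M.Normal).conj_mem y hy.1 g,
          (MulEquiv.orderOf_eq (MulAut.conj g) y).symm ▸ hy.2⟩
      exact hle hx⟩
    have hOM : O ≤ M := (Subgroup.closure_le _).mpr fun x hx => hx.1
    have hex : ∀ x ∈ M, ∃ y, Odd (orderOf y) ∧ y ∈ M ∧ x⁻¹ * y ∈ N := by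
      intro x hx
      obtain ⟨k, hk⟩ : Odd (orderOf (QuotientGroup.mk x : G ⧸ N)) :=
        PCore.odd_card_oddCore.of_dvd_nat (by
          have := orderOf_dvd_natCard (⟨_, hx⟩ : oddCore (G ⧸ N))
          rwa [← Subgroup.orderOf_coe] at this)
      have hxN : x ^ (2 * k + 1) ∈ N := by
        rw [← QuotientGroup.eq_one_iff, QuotientGroup.mk_pow, ← hk, pow_orderOf_eq_one]
      refine ⟨x ^ (2 * k + 2), ?_, pow_mem hx _, ?_⟩
      · refine Odd.of_dvd_nat (by simp : Odd (2 * k + 1)) (orderOf_dvd_of_pow_eq_one ?_)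
        rw [← pow_mul, mul_comm, pow_mul,
          show 2 * k + 2 = 2 * (k + 1) by ring, pow_mul]
        have : (x ^ (2 * k + 1)) ^ 2 = 1 := by
          have h2 := pow_card_eq_one' (G := N) (x := ⟨_, hxN⟩)
          rw [hNc] at h2
          exact congrArg Subtype.val h2
        rw [this, one_pow]
      · rw [pow_succ', inv_mul_cancel_left]
        exact hxN
    have hOodd : Odd (Nat.card O) := by
      -- `O` is generated by commuting-with-`N` elements of odd order, so misses `w`
      rw [← Nat.not_even_iff_odd]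
      intro hev
      obtain ⟨t, ht⟩ := exists_prime_orderOf_dvd_card' (G := O) 2 (even_iff_two_dvd.mp hev)
      have ht2 : orderOf (t : G) = 2 := by rw [Subgroup.orderOf_coe, ht]
      -- the Sylow 2-subgroup `N` of `M` is central, so Schur-Zassenhaus gives a homomorphism
      have hNM' : (N.subgroupOf M).index = N.relIndex M := rfl
      haveI : IsMulCommutative (N.subgroupOf M) := ⟨⟨fun a b => Subtype.ext (Subtype.ext
        ((Subgroup.mem_center_iff.mp (hNle b.2) a.1.1)))⟩⟩
      let f := MonoidHom.transfer (MonoidHom.id (N.subgroupOf M))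
      have hfc : ∀ a : N.subgroupOf M, (a : ↥M) ∈ Subgroup.center ↥M := fun a =>
        Subgroup.mem_center_iff.mpr fun b => Subtype.ext (Subgroup.mem_center_iff.mp (hNle a.2) b)
      have hker : O ≤ f.ker.map M.subtype := by
        rw [hO, Subgroup.closure_le]
        intro x hx
        refine ⟨⟨x, hx.1⟩, ?_, rfl⟩
        rw [SetLike.mem_coe, MonoidHom.mem_ker]
        have h1 : orderOf (f ⟨x, hx.1⟩) ∣ orderOf x :=
          (orderOf_map_dvd f _).trans (Subgroup.orderOf_mk x hx.1).dvd
        have h2 : orderOf (f ⟨x, hx.1⟩) ∣ 2 := by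
          have := orderOf_dvd_natCard (f ⟨x, hx.1⟩)
          rwa [Nat.card_congr (Subgroup.subgroupOfEquivOfLe hNM).toEquiv, hNc] at this
        exact orderOf_eq_one_iff.mp (Nat.eq_one_of_dvd_coprimes
          (Nat.coprime_two_right.mpr (hx.2.of_dvd_nat h1)) dvd_rfl h2)
      obtain ⟨⟨t', ht'M⟩, ht'k, ht'e⟩ := hker t.2
      have htN : (t : G) ∈ N := by
        rw [← QuotientGroup.eq_one_iff, ← orderOf_eq_one_iff]
        refine Nat.eq_one_of_dvd_coprimes (Nat.coprime_two_right.mpr ?_) dvd_rfl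
          (ht2 ▸ orderOf_map_dvd (QuotientGroup.mk' N) (t : G))
        exact PCore.odd_card_oddCore.of_dvd_nat (by
          have := orderOf_dvd_natCard (⟨_, hOM t.2⟩ : oddCore (G ⧸ N))
          rwa [← Subgroup.orderOf_coe] at this)
      have hval : f ⟨t', ht'M⟩ = (⟨⟨t', ht'M⟩, by show t' ∈ N; rw [show t' = (t : G) from ht'e]; exact htN⟩ :
          N.subgroupOf M) ^ (N.subgroupOf M).index := by
        have h' := MonoidHom.transfer_eq_pow (MonoidHom.id (N.subgroupOf M)) (⟨t', ht'M⟩ : ↥M)
          (fun k g₀ hk => by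
            have hc : (⟨t', ht'M⟩ : ↥M) ^ k ∈ Subgroup.center ↥M := pow_mem
              (hfc ⟨⟨t', ht'M⟩, by
                show t' ∈ N
                rw [show t' = (t : G) from ht'e]; exact htN⟩) k
            rw [Subgroup.mem_center_iff] at hc
            rw [mul_assoc, ← hc g₀, inv_mul_cancel_left])
        exact h'
      rw [SetLike.mem_coe, MonoidHom.mem_ker] at ht'k
      rw [ht'k] at hval
      have h2 := orderOf_dvd_of_pow_eq_one hval.symm
      rw [hNM', show orderOf (⟨⟨t', ht'M⟩, _⟩ : N.subgroupOf M) = 2 by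
        rw [Subgroup.orderOf_mk, Subgroup.orderOf_mk, show t' = (t : G) from ht'e, ht2]] at h2
      exact Nat.not_even_iff_odd.mpr hidx (even_iff_two_dvd.mpr h2)
    have hO1 : O = ⊥ := le_bot_iff.mp (hz.core ▸ PCore.le_oddCore hOodd)
    obtain ⟨y, hy, hyM, hyN⟩ := hex m hm
    have hy1 : y = 1 := by
      have : y ∈ O := Subgroup.subset_closure ⟨hyM, hy⟩
      rwa [hO1, Subgroup.mem_bot] at this
    rw [hy1, mul_one] at hyN
    exact hmN (inv_mem_iff.mp hyN)
  refine hzC (mem_center_of_commute_conj hz.iso fun g => ?_)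
  have h1 : g * z * g⁻¹ * z⁻¹ ∈ N := hMN.le (hq (g : G ⧸ N))
  have h2 := Subgroup.mem_center_iff.mp (hNle h1) z
  show z * (g * z * g⁻¹) = g * z * g⁻¹ * z
  calc z * (g * z * g⁻¹) = z * (g * z * g⁻¹ * z⁻¹) * z := by group
    _ = g * z * g⁻¹ * z⁻¹ * z * z := by rw [h2]
    _ = g * z * g⁻¹ * z := by group

omit [Finite G] in
theorem conj_ne {s : G} (hsz : Commute s z) (hne : s ≠ z) : ¬ IsConj z s := fun h =>
  hne (Involution.Isolated.eq_of_commute hz.iso (IsConj.refl z) h hsz.symm)

/-- The product of a conjugate of `z` and a conjugate of another involution `s` of `C(z)` has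
2-part conjugate to `z s`, and odd part in the core of the centralizer of the 2-part. -/
theorem exists_parts {s : G} (hs : orderOf s = 2) (hsz : Commute s z) (hne : s ≠ z) {a b : G}
    (ha : IsConj z a) (hb : IsConj s b) :
    ∃ u v : G, a * b = u * v ∧ IsConj (z * s) u ∧ v ∈ centralizerPPrimeCore 2 u := by
  have hz' := hz.iso
  have ha2 := Involution.Isolated.conj_mul_self hz' ha
  have hs2 : s * s = 1 := by
    have := pow_orderOf_eq_one s; rwa [hs, pow_two] at this
  have hb2 : b * b = 1 := by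
    obtain ⟨g, rfl⟩ := isConj_iff.mp hb
    calc g * s * g⁻¹ * (g * s * g⁻¹) = g * (s * s) * g⁻¹ := by group
      _ = 1 := by rw [hs2]; group
  have hab : b = a * (a * b) := by rw [← mul_assoc, ha2, one_mul]
  -- `(a b)²` is a product of two conjugates of `z`
  have hodd2 : Odd (orderOf ((a * b) ^ 2)) := by
    have h1 : (a * b) ^ 2 = a * (b * a * b) := by rw [pow_two]; group
    rw [h1]
    exact Involution.Isolated.odd_orderOf_mul hz' ha (ha.trans (Involution.Isolated.isConj_conj hb2))
  have heven : ¬ Odd (orderOf (a * b)) := fun h => by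
    have h1 := Involution.Isolated.isConj_middle ha2 hb2 h
    have h2 := Involution.Isolated.middle_conj ha2 hb2 h
    have h3 : IsConj a b := h2 ▸ Involution.Isolated.isConj_conj
      (Involution.Isolated.middle_mul_self ha2 hb2)
    exact hz.conj_ne hsz hne ((ha.trans h3).trans hb.symm)
  obtain ⟨m, hm⟩ := Nat.not_odd_iff_even.mp heven
  have hpos := orderOf_pos (a * b)
  have hm2 : orderOf ((a * b) ^ 2) = m := by
    rw [orderOf_pow' _ (by norm_num : 2 ≠ 0), hm, show Nat.gcd (m + m) 2 = 2 from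
      Nat.gcd_eq_right ⟨m, by ring⟩]
    omega
  obtain ⟨k, hk⟩ := hm2 ▸ hodd2
  generalize hr : a * b = r at hab hm hm2 hodd2
  set u := r ^ m with hu
  set v := r ^ (m + 1) with hv
  have huv : r = u * v := by
    rw [hu, hv, ← pow_add, show m + (m + 1) = orderOf r + 1 by omega, pow_succ, pow_orderOf_eq_one,
      one_mul]
  have huu : u * u = 1 := by rw [hu, ← pow_add, ← hm, pow_orderOf_eq_one]
  have hinv : ∀ j : ℕ, a * r ^ j * a = (r ^ j)⁻¹ := fun j => by
    rw [← hr]; exact Involution.Isolated.conj_pow_eq ha2 hb2 j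
  have hau : Commute a u := by
    have h1 := hinv m
    rw [← hu, Involution.Isolated.inv_mul_self_eq huu] at h1
    show a * u = u * a
    conv_rhs => rw [← h1]
    rw [mul_assoc (a * u) a a, ha2, mul_one]
  -- `a u` is a conjugate of `b`
  have hbu : IsConj b (a * u) := by
    refine isConj_iff.mpr ⟨(r ^ k)⁻¹, ?_⟩
    have h1 : a * ((r ^ k)⁻¹ * b * r ^ k) = u := by
      calc a * ((r ^ k)⁻¹ * b * r ^ k) = (a * (r ^ k)⁻¹ * a) * r * r ^ k := by
            rw [hab]; simp [mul_assoc]
        _ = r ^ k * r * r ^ k := by rw [← hinv k]; simp [mul_assoc, ha2, ← mul_assoc a a]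
        _ = u := by rw [← pow_succ, ← pow_add, hu, show k + 1 + k = m by omega]
    rw [inv_inv, ← h1, ← mul_assoc, ha2, one_mul]
  have hcu : IsConj (z * s) u := by
    obtain ⟨g, hg⟩ := isConj_iff.mp ha.symm
    obtain ⟨e, he⟩ := isConj_iff.mp ((hb.trans hbu).trans
      (isConj_iff.mpr ⟨g, rfl⟩ : IsConj (a * u) (g * (a * u) * g⁻¹)))
    have hcz : Commute (g * (a * u) * g⁻¹) z := by
      rw [← hg]
      have : Commute (a * u) a := (Commute.refl a).mul_left hau.symm
      show g * (a * u) * g⁻¹ * (g * a * g⁻¹) = g * a * g⁻¹ * (g * (a * u) * g⁻¹)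
      calc g * (a * u) * g⁻¹ * (g * a * g⁻¹) = g * ((a * u) * a) * g⁻¹ := by group
        _ = g * (a * (a * u)) * g⁻¹ := by rw [this.eq]
        _ = g * a * g⁻¹ * (g * (a * u) * g⁻¹) := by group
    obtain ⟨c, -, hc, hce⟩ := Involution.Isolated.exists_centralizing_conj hz' (H := ⊤)
      (Subgroup.le_normalizer (H := (⊤ : Subgroup G)) (Subgroup.mem_top z)) (Subgroup.mem_top e)
      hsz hcz he
    refine isConj_iff.mpr ⟨g⁻¹ * c, ?_⟩
    have h1 : c * z = z * c := hc.eq
    calc g⁻¹ * c * (z * s) * (g⁻¹ * c)⁻¹ = g⁻¹ * (c * z) * s * c⁻¹ * g := by group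
      _ = g⁻¹ * (z * (c * s * c⁻¹)) * g := by rw [h1]; group
      _ = u := by
        rw [hce, ← hg]
        simp [mul_assoc, ← mul_assoc a a, ha2]
  refine ⟨u, v, huv, hcu, ?_⟩
  have hvodd : Odd (orderOf v) := by
    refine (Odd.of_dvd_nat (hm2 ▸ hodd2 : Odd m) (orderOf_dvd_of_pow_eq_one ?_))
    rw [hv, ← pow_mul, show (m + 1) * m = (m + m) * (k + 1) by rw [hk]; ring, pow_mul, ← hm,
      pow_orderOf_eq_one, one_pow]
  have hHtop : Subgroup.centralizer ({u} : Set G) ≠ ⊤ := by
    intro h
    rw [Subgroup.centralizer_eq_top_iff_subset, Set.singleton_subset_iff] at h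
    have h1 : u ∈ Subgroup.center G := h
    rw [hz.center_eq_bot, Subgroup.mem_bot] at h1
    rw [h1, isConj_one_left] at hcu
    have hz2 := Involution.Isolated.mul_self hz'
    have h2 : z⁻¹ = s := inv_eq_of_mul_eq_one_right hcu
    exact hne (h2.symm.trans (Involution.Isolated.inv_mul_self_eq hz2))
  have haH : a ∈ Subgroup.centralizer ({u} : Set G) :=
    Involution.Isolated.mem_centralizer_iff_commute.mpr hau
  have hvH : v ∈ Subgroup.centralizer ({u} : Set G) :=
    Involution.Isolated.mem_centralizer_iff_commute.mpr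
      (((Commute.refl r).pow_pow _ _))
  obtain ⟨g, hg⟩ := isConj_iff.mp ha
  have hstar : InZStar 2 (⟨a, haH⟩ : ↥(Subgroup.centralizer ({u} : Set G))) := by
    have hzH' : z ∈ (Subgroup.centralizer ({u} : Set G)).comap (MulAut.conj g).toMonoidHom := by
      show g * z * g⁻¹ ∈ Subgroup.centralizer ({u} : Set G)
      rw [hg]; exact haH
    have h := hz.sub _ hzH' (fun h => hHtop (by
      rw [eq_top_iff]
      intro x _
      have h1 : g⁻¹ * x * g ∈ (Subgroup.centralizer ({u} : Set G)).comap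
          (MulAut.conj g).toMonoidHom := h ▸ Subgroup.mem_top _
      have h2 : g * (g⁻¹ * x * g) * g⁻¹ = x := by group
      rw [← h2]
      exact h1))
    have hmap : ((Subgroup.centralizer ({u} : Set G)).comap (MulAut.conj g).toMonoidHom).map
        (MulAut.conj g).toMonoidHom = Subgroup.centralizer ({u} : Set G) :=
      Subgroup.map_comap_eq_self_of_surjective (MulAut.conj g).surjective _
    let e : ↥((Subgroup.centralizer ({u} : Set G)).comap (MulAut.conj g).toMonoidHom) ≃*
        ↥(Subgroup.centralizer ({u} : Set G)) :=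
      ((MulAut.conj g).subgroupMap _).trans (MulEquiv.subgroupCongr hmap)
    intro w
    have h1 := (PCore.mem_pPrimeCore_congr (p := 2) e).mpr (h (e.symm w))
    simp only [map_mul, map_inv, MulEquiv.apply_symm_apply] at h1
    have he : e ⟨z, hzH'⟩ = ⟨a, haH⟩ := Subtype.ext (show g * z * g⁻¹ = a from hg)
    rwa [he] at h1
  refine ⟨⟨v, hvH⟩, ?_, rfl⟩
  have h1 := hstar ⟨v, hvH⟩
  have h2 : (⟨v, hvH⟩ : ↥(Subgroup.centralizer ({u} : Set G))) * ⟨a, haH⟩ * ⟨v, hvH⟩⁻¹ *
      (⟨a, haH⟩ : ↥(Subgroup.centralizer ({u} : Set G)))⁻¹ = ⟨v, hvH⟩ ^ 2 := by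
    refine Subtype.ext ?_
    show v * a * v⁻¹ * a⁻¹ = v ^ 2
    rw [Involution.Isolated.inv_mul_self_eq ha2, hv, ← hinv (m + 1), pow_two]
    simp [mul_assoc, ← mul_assoc a a, ha2]
  rw [h2] at h1
  obtain ⟨j, hj⟩ := hvodd
  have h3 : (⟨v, hvH⟩ : ↥(Subgroup.centralizer ({u} : Set G))) =
      ((⟨v, hvH⟩ : ↥(Subgroup.centralizer ({u} : Set G))) ^ 2) ^ (j + 1) := by
    refine Subtype.ext ?_
    show v = (v ^ 2) ^ (j + 1)
    rw [← pow_mul, show 2 * (j + 1) = orderOf v + 1 by omega, pow_succ, pow_orderOf_eq_one, one_mul]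
  rw [SetLike.mem_coe, h3]
  exact pow_mem h1 _

end MinConfig

end Cfsg.Agent.ZStar
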