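import Cfsg.Agent.Lib.ZStar.Main
import Cfsg.Agent.S0950

/-!
# The principal 2-block with quaternion defect group of order eight
-/

set_option linter.style.haveILetI false

namespace Cfsg.Agent.ZStar

open Cfsg
open scoped ComplexConjugate

universe u

/-- A group with quaternion Sylow 2-subgroup of order eight, trivial odd core and not a 2-group
has a central involution and one class of elements of order four. -/
theorem exists_centralData {G : Type u} [Group G] [Fintype G] (S : Sylow 2 G)
    (e : (S : Subgroup G) ≃* QuaternionGroup 2)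
    (hO : ∀ N : Subgroup G, N.Normal → Odd (Nat.card N) → N = ⊥) (hG : (S : Subgroup G) ≠ ⊤) :
    ∃ z u : G, CentralData z u := by
  classical
  haveI : Fact (Nat.Prime 2) := ⟨Nat.prime_two⟩
  obtain ⟨q, hqS, hq, huniq, -⟩ := QuaternionFactor.quat_facts (n := 1) le_rfl e
  have hqz : q ∈ Subgroup.center G := mem_center_of_oddCore_eq_bot
    (inZStar (isolated_of_no_kleinFour (no_kleinFour_of_unique huniq) hq))
    (hO _ inferInstance PCore.odd_card_oddCore)
  set u : G := ((e.symm (QuaternionGroup.xa 0) : (S : Subgroup G)) : G) with hu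
  have huS : u ∈ (S : Subgroup G) := (e.symm (QuaternionGroup.xa 0)).2
  have hu4 : orderOf u = 4 := by
    rw [hu, Subgroup.orderOf_coe, MulEquiv.orderOf_eq, QuaternionGroup.orderOf_xa]
  -- elements of the Sylow subgroup
  have hcases : ∀ x ∈ (S : Subgroup G), x = 1 ∨ x = q ∨ (orderOf x = 4 ∧ x * x = q) := by
    intro x hx
    have h4 : x ^ 4 = 1 := by
      have h : (e ⟨x, hx⟩) ^ 4 = 1 := by
        have h2 := Monoid.pow_exponent_eq_one (e ⟨x, hx⟩)
        rw [QuaternionGroup.exponent] at h2
        simpa using h2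
      rw [← map_pow, MulEquiv.map_eq_one_iff] at h
      exact congrArg Subtype.val h
    by_cases h2 : x ^ 2 = 1
    · rcases huniq x hx h2 with h | h
      · exact Or.inl h
      · exact Or.inr (Or.inl h)
    · refine Or.inr (Or.inr ⟨?_, ?_⟩)
      · obtain ⟨i, hi, hio⟩ := (Nat.dvd_prime_pow Nat.prime_two).mp
          (show orderOf x ∣ 2 ^ 2 from orderOf_dvd_of_pow_eq_one h4)
        interval_cases i
        · exact absurd (by rw [orderOf_eq_one_iff.mp (hio.trans (pow_zero 2)), one_pow]) h2
        · exact absurd (by rw [← orderOf_dvd_iff_pow_eq_one, hio]; norm_num) h2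
        · rw [hio]; norm_num
      · rw [← pow_two]
        exact (huniq _ (pow_mem hx 2) (by rw [← pow_mul]; exact h4)).resolve_left h2
  have hnc : ∀ N : Subgroup G, N.Normal → ¬ Subgroup.IsComplement' N (S : Subgroup G) := by
    intro N hN hc
    haveI := hN
    have hb := hO N hN (Nat.coprime_two_right.mp (Transfer.coprime_card_of_isComplement'_sylow S hc))
    rw [hb, Subgroup.isComplement'_bot_left] at hc
    exact hG hc
  -- one class of elements of order four
  have hinv : ∀ a ∈ (S : Subgroup G), IsConj a a⁻¹ := by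
    intro a ha
    obtain ⟨c, hc⟩ := Q8.quat_inv_conj (e ⟨a, ha⟩)
    have h := congrArg e.symm hc
    simp only [map_mul, map_inv, MulEquiv.symm_apply_apply] at h
    exact isConj_iff.mpr ⟨_, congrArg Subtype.val h⟩
  have hconjS : ∀ y ∈ (S : Subgroup G), orderOf y = 4 → IsConj u y := by
    intro y hyS hy
    obtain ⟨n, -, hn⟩ := S0950.result S e hnc (Subgroup.zpowers u) (Subgroup.zpowers y)
      (Subgroup.zpowers_le.mpr huS) (Subgroup.zpowers_le.mpr hyS)
      (by rw [Nat.card_zpowers, hu4]) (by rw [Nat.card_zpowers, hy])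
    obtain ⟨w, hw, hwy⟩ := Subgroup.mem_map.mp (hn ▸ Subgroup.mem_zpowers y)
    rw [Subgroup.mem_zpowers_iff] at hw
    obtain ⟨i, rfl⟩ := hw
    have hwy' : n * u ^ i * n⁻¹ = y := hwy
    have h4 : orderOf (u ^ i) = 4 := by
      rw [← MulEquiv.orderOf_eq (MulAut.conj n) (u ^ i), MulAut.conj_apply, hwy', hy]
    have hi : u ^ i = u ∨ u ^ i = u⁻¹ := by
      have hm : u ^ i = u ^ (i % 4) := by
        have h := zpow_mod_orderOf u i
        rw [hu4] at h
        exact_mod_cast h.symm
      rcases (show i % 4 = 0 ∨ i % 4 = 1 ∨ i % 4 = 2 ∨ i % 4 = 3 by omega) with h | h | h | h <;>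
        rw [h] at hm
      · rw [hm, zpow_zero, orderOf_one] at h4; omega
      · left; rw [hm, zpow_one]
      · rw [hm, show (2 : ℤ) = ((2 : ℕ) : ℤ) from rfl, zpow_natCast,
          orderOf_pow' _ (by norm_num), hu4] at h4
        norm_num at h4
      · right
        rw [hm]
        refine eq_inv_of_mul_eq_one_left ?_
        rw [← zpow_add_one, show (3 : ℤ) + 1 = ((4 : ℕ) : ℤ) from rfl, zpow_natCast, ← hu4,
          pow_orderOf_eq_one]
    have hc : IsConj (u ^ i) y := isConj_iff.mpr ⟨n, hwy'⟩
    rcases hi with h | h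
    · exact h ▸ hc
    · exact (hinv u huS).trans (h ▸ hc)
  have hcases' : ∀ s : G, (∃ k : ℕ, orderOf s = 2 ^ k) →
      ∃ x ∈ (S : Subgroup G), IsConj x s := by
    rintro s ⟨k, hk⟩
    have hp : IsPGroup 2 (Subgroup.zpowers s) :=
      IsPGroup.of_card (n := k) (by rw [Nat.card_zpowers, hk])
    obtain ⟨Q, hQ⟩ := hp.exists_le_sylow
    obtain ⟨c, rfl⟩ := MulAction.exists_smul_eq G S Q
    have hm := hQ (Subgroup.mem_zpowers _)
    rw [Sylow.coe_subgroup_smul, Subgroup.mem_pointwise_smul_iff_inv_smul_mem] at hm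
    simp only [← map_inv, MulAut.smul_def, MulAut.conj_apply, inv_inv] at hm
    exact ⟨_, hm, isConj_iff.mpr ⟨c, by group⟩⟩
  refine ⟨q, u, ⟨⟨hu4, Q8.exists_centralizer_complement S e hu4, ?_⟩, ?_, ?_, ?_⟩⟩
  · intro s hs
    obtain ⟨x, hxS, hx⟩ := hcases' s ⟨2, by rw [hs]; norm_num⟩
    obtain ⟨c, hc⟩ := isConj_iff.mp hx
    exact (hconjS x hxS (by rw [← MulEquiv.orderOf_eq (MulAut.conj c) x, MulAut.conj_apply, hc, hs])).trans hx
  · rcases hcases u huS with h | h | ⟨-, h⟩
    · rw [h, orderOf_one] at hu4; omega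
    · rw [h, hq] at hu4; omega
    · exact h
  · exact fun g => (Subgroup.mem_center_iff.mp hqz g).symm
  · intro s hs
    obtain ⟨x, hxS, hx⟩ := hcases' s hs
    obtain ⟨c, hc⟩ := isConj_iff.mp hx
    rcases hcases x hxS with h | h | ⟨h, -⟩
    · left; rw [← hc, h, mul_one, mul_inv_cancel]
    · right; left
      rw [← hc, h, Subgroup.mem_center_iff.mp hqz c, mul_inv_cancel_right]
    · right; right
      rw [← hc, ← MulAut.conj_apply, MulEquiv.orderOf_eq, h]

/-- Three vectors of norm two with pairwise inner products one. -/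
theorem card_support_union {ι : Type*} [Fintype ι] [DecidableEq ι] (m : Fin 3 → ι → ℤ)
    (h2 : ∀ j, ∑ i, m j i * m j i = 2) (h1 : ∀ j k, j ≠ k → ∑ i, m j i * m k i = 1)
    (hodd : ∀ i, (m 0 i + m 1 i + m 2 i) % 2 = 0) :
    (Finset.univ.filter fun i => ∃ j, m j i ≠ 0).card = 3 := by
  set A : Fin 3 → Finset ι := fun j => Finset.univ.filter fun i => m j i ≠ 0 with hA
  have hval : ∀ j, ∀ i ∈ A j, m j i = 1 ∨ m j i = -1 := by
    intro j i hi
    have hi2 : m j i * m j i ≤ 2 := h2 j ▸
      Finset.single_le_sum (f := fun i => m j i * m j i) (fun k _ => mul_self_nonneg _)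
        (Finset.mem_univ i)
    have hne : m j i ≠ 0 := (Finset.mem_filter.mp hi).2
    have e1 : m j i ≤ 1 := by nlinarith
    have e2 : -1 ≤ m j i := by nlinarith
    omega
  have hcard : ∀ j, (A j).card = 2 := by
    intro j
    have h := h2 j
    rw [← Finset.sum_subset (Finset.subset_univ (A j)) (fun i _ hi => by
      have : m j i = 0 := by simpa [hA] using hi
      rw [this, mul_zero]), Finset.sum_congr rfl (g := fun _ => (1 : ℤ)) (fun i hi => by
      rcases hval j i hi with e | e <;> rw [e] <;> norm_num)] at h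
    have h' : ((A j).card : ℤ) = 2 := by simpa using h
    exact_mod_cast h'
  have hinter : ∀ j k, j ≠ k → (A j ∩ A k).card = 1 := by
    intro j k hjk
    have h := h1 j k hjk
    rw [← Finset.sum_subset (Finset.subset_univ (A j ∩ A k)) (fun i _ hi => by
      by_cases hj : m j i = 0
      · rw [hj, zero_mul]
      · have : m k i = 0 := by
          by_contra hk
          exact hi (Finset.mem_inter.mpr ⟨by simp [hA, hj], by simp [hA, hk]⟩)
        rw [this, mul_zero])] at h
    have hle : (A j ∩ A k).card ≤ 2 := hcard j ▸ Finset.card_le_card Finset.inter_subset_left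
    have hmod : (∑ i ∈ A j ∩ A k, m j i * m k i) % 2 = ((A j ∩ A k).card : ℤ) % 2 := by
      rw [Finset.sum_int_mod, Finset.sum_congr rfl (g := fun _ => (1 : ℤ)) (fun i hi => by
        obtain ⟨hj, hk⟩ := Finset.mem_inter.mp hi
        rcases hval j i hj with e | e <;> rcases hval k i hk with e' | e' <;> rw [e, e'] <;> rfl)]
      simp
    rw [h] at hmod
    omega
  have hU : Finset.univ.filter (fun i => ∃ j, m j i ≠ 0) = A 0 ∪ A 1 ∪ A 2 := by
    ext i
    simp only [hA, Finset.mem_filter, Finset.mem_univ, true_and, Finset.mem_union, Fin.exists_fin_succ,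
      IsEmpty.exists_iff, or_false]
    simp [or_assoc]
  have h3 : A 0 ∩ A 1 ∩ A 2 = ∅ := by
    refine Finset.eq_empty_of_forall_notMem fun i hi => ?_
    simp only [Finset.mem_inter] at hi
    have := hodd i
    rcases hval 0 i hi.1.1 with e | e <;> rcases hval 1 i hi.1.2 with e' | e' <;>
      rcases hval 2 i hi.2 with e'' | e'' <;> rw [e, e', e''] at this <;> omega
  rw [hU]
  have c1 := Finset.card_union_add_card_inter (A 0) (A 1)
  have c2 := Finset.card_union_add_card_inter (A 0 ∪ A 1) (A 2)
  rw [Finset.union_inter_distrib_right] at c2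
  have c3 := Finset.card_union_add_card_inter (A 0 ∩ A 2) (A 1 ∩ A 2)
  rw [show A 0 ∩ A 2 ∩ (A 1 ∩ A 2) = A 0 ∩ A 1 ∩ A 2 by
    ext i; simp only [Finset.mem_inter]; tauto, h3, Finset.card_empty] at c3
  have i01 := hinter 0 1 (by decide)
  have i02 := hinter 0 2 (by decide)
  have i12 := hinter 1 2 (by decide)
  have := hcard 0
  have := hcard 1
  have := hcard 2
  omega

/-- The principal block has seven characters. -/
theorem card_principalBlock_eq_seven {G : Type u} [Group G] [Fintype G] {M : Ideal AlgInt}
    (hM : IsPModular 2 M) {z u : G} (h : CentralData z u) :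
    Nat.card (principalBlock M G) = 7 := by
  classical
  haveI := hM.2.1
  haveI : Fact (Nat.Prime 2) := ⟨Nat.prime_two⟩
  obtain ⟨T⟩ := h.exists_triple secondPrincipal hM
  obtain ⟨e, he, hesum, heodd⟩ := T.exists_e
  obtain ⟨w, -, hwB, -, -, -, -⟩ := h.four.exists_weights secondPrincipal hM
  have hint : ∀ j (χ : IrrCharacter G), ∃ k : ℤ, classInner χ.1 (T.lift j) = (k : ℂ) := fun j χ =>
    Char.IsGeneralizedCharacter.exists_int_classInner (Char.irr_isGeneralized χ)
      (T.isGeneralized_lift j)
  choose l hl using hint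
  have hreg1 : (1 : G) ∈ regularSet G := mem_regularSet.mpr (by simp)
  -- the values of the multiplicities
  have hmult : ∀ j (χ : IrrCharacter G), χ.1 z = -χ.1 1 → (l j χ : ℂ) = -T.mult χ.1 j := by
    intro j χ hz
    rw [← hl, classInner, h.sum_split, Triple.mult]
    have z1 : ∀ v ∈ regularSet G, χ.1 v * conj (T.lift j v) = 0 := fun v hv => by
      rw [T.lift_eq_zero (h.not_regular_z_mul hv), map_zero, mul_zero]
    have z2 : ∀ g ∈ twoSection u, χ.1 g * conj (T.lift j g) = 0 := fun g hg => by
      rw [T.lift_eq_zero (fun hr => by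
        have h5 := (h.not_twoSection_of_regular hr).2
        rw [h.z_mul_z_mul] at h5
        exact h5 hg), map_zero, mul_zero]
    rw [Finset.sum_eq_zero z1, Finset.sum_eq_zero z2, zero_add, add_zero,
      Finset.sum_congr rfl (g := fun v => -2 * (χ.1 v * conj (T.twist j v))) (fun v hv => by
        rw [T.lift_z_mul hv, h.apply_z_mul_of_neg hz, map_mul, map_ofNat]; ring), ← Finset.mul_sum]
    ring
  have hker : ∀ j (χ : IrrCharacter G), χ.1 z = χ.1 1 →
      (l j χ : ℂ) = classInner χ.1 (T.twist j) := by
    intro j χ hz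
    rw [← hl, classInner, classInner, h.sum_split, h.sum_split]
    congr 1
    rw [Finset.sum_eq_zero (s := twoSection u) (f := fun g => χ.1 g * conj (T.twist j g)) (fun g hg => by
        rw [T.twist_four j hg, map_zero, mul_zero]),
      Finset.sum_eq_zero (s := twoSection u) (f := fun g => χ.1 g * conj (T.lift j g)) (fun g hg => by
        rw [T.lift_eq_zero (fun hr => by
          have h5 := (h.not_twoSection_of_regular hr).2
          rw [h.z_mul_z_mul] at h5
          exact h5 hg), map_zero, mul_zero]),
      Finset.sum_eq_zero (s := regularSet G) (f := fun v => χ.1 v * conj (T.lift j v)) (fun v hv => by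
        rw [T.lift_eq_zero (h.not_regular_z_mul hv), map_zero, mul_zero]), zero_add, add_zero,
      add_zero, ← Finset.sum_add_distrib]
    refine Finset.sum_congr rfl fun v hv => ?_
    rw [T.lift_z_mul hv, h.apply_z_mul_of_eq hz, T.twist_z_mul, map_mul, map_ofNat]
    ring
  -- the four members with `z` in the kernel
  set K := insert (Char.trivialChar G) (Finset.univ.image T.chr) with hK
  have hKcard : K.card = 4 := by
    rw [hK, Finset.card_insert_of_notMem (by
      simp only [Finset.mem_image, Finset.mem_univ, true_and]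
      rintro ⟨j, hj⟩
      exact T.ne_triv j hj), Finset.card_image_of_injective _ T.inj]
    simp
  have htriv : ∀ j, T.twist j = (Char.trivialChar G).1 - (T.sgn j : ℂ) • (T.chr j).1 := fun j => by
    funext g
    simp [Triple.twist, Char.trivialChar]
  have hl_ker : ∀ j (χ : IrrCharacter G), χ.1 z = χ.1 1 →
      l j χ = (if χ = Char.trivialChar G then 1 else 0) - T.sgn j * (if χ = T.chr j then 1 else 0) := by
    intro j χ hz
    have h1 := hker j χ hz
    rw [htriv, Char.classInner_sub_right, Char.classInner_smul_right, map_intCast] at h1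
    have e1 : ∀ ψ : IrrCharacter G, classInner χ.1 ψ.1 = if χ = ψ then 1 else 0 := fun ψ => by
      split_ifs with hψ
      · rw [hψ]; exact Char.classInner_irr_self ψ.2
      · exact Char.classInner_eq_zero_of_ne hψ
    rw [e1, e1] at h1
    split_ifs at h1 ⊢ <;> simp only [mul_one, mul_zero, sub_zero, zero_sub] at h1 ⊢ <;>
      exact_mod_cast h1
  -- the faithful members
  set m : Fin 3 → IrrCharacter G → ℤ := fun j χ => if χ.1 z = χ.1 1 then 0 else l j χ with hm
  have hsplit : ∀ i j, ∑ χ, m i χ * m j χ + (1 + if i = j then 1 else 0) = ∑ χ, l i χ * l j χ := by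
    intro i j
    have e1 : (1 + if i = j then 1 else 0 : ℤ) =
        ∑ χ ∈ K, l i χ * l j χ := by
      rw [hK, Finset.sum_insert (by
        simp only [Finset.mem_image, Finset.mem_univ, true_and]
        rintro ⟨k, hk⟩
        exact T.ne_triv k hk), Finset.sum_image (fun a _ b _ e => T.inj e)]
      rw [hl_ker i _ (by simp [Char.trivialChar]), hl_ker j _ (by simp [Char.trivialChar]),
        if_neg (T.ne_triv i).symm, if_neg (T.ne_triv j).symm, if_pos rfl]
      rw [Finset.sum_congr rfl (g := fun k => (if k = i then T.sgn i else 0) * (if k = j then T.sgn j else 0))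
        (fun k _ => by
          rw [hl_ker i _ (T.z_ker k), hl_ker j _ (T.z_ker k), if_neg (T.ne_triv k)]
          simp only [T.inj.eq_iff]
          split_ifs <;> ring)]
      by_cases hij : i = j
      · subst hij
        simp [T.sgn_sq]
      · simp [hij, Finset.sum_eq_zero, Fin.sum_univ_three]
        fin_cases i <;> fin_cases j <;> simp at hij ⊢
    have e2 : ∑ χ ∈ K, l i χ * l j χ = ∑ χ, if χ.1 z = χ.1 1 then l i χ * l j χ else 0 := by
      rw [← Finset.sum_subset (Finset.subset_univ K) (fun χ _ hχ => ?_)]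
      · refine Finset.sum_congr rfl fun χ hχ => ?_
        rw [if_pos]
        rcases Finset.mem_insert.mp hχ with rfl | hχ
        · simp [Char.trivialChar]
        · obtain ⟨k, -, rfl⟩ := Finset.mem_image.mp hχ
          exact T.z_ker k
      · split_ifs with hz
        · rw [hl_ker i χ hz, if_neg, if_neg]
          · ring
          · rintro rfl
            exact hχ (Finset.mem_insert_of_mem (Finset.mem_image_of_mem _ (Finset.mem_univ i)))
          · rintro rfl
            exact hχ (Finset.mem_insert_self _ _)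
        · rfl
    rw [e1, e2, ← Finset.sum_add_distrib]
    refine Finset.sum_congr rfl fun χ _ => ?_
    simp only [hm]
    split_ifs <;> ring
  have hll : ∀ i j, ∑ χ, l i χ * l j χ = 2 * (1 + if i = j then 1 else 0) := by
    intro i j
    have h1 := T.classInner_lift i j
    rw [Char.classInner_eq_sum (T.isClassFunction_lift i)] at h1
    have h2 : ((∑ χ, l i χ * l j χ : ℤ) : ℂ) = ((2 * (1 + if i = j then 1 else 0) : ℤ) : ℂ) := by
      push_cast
      rw [← h1]
      refine Finset.sum_congr rfl fun χ _ => ?_
      rw [hl, ← Char.conj_classInner χ.1 (T.lift i), hl, map_intCast]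
    exact_mod_cast h2
  have hy : ∀ χ : IrrCharacter G, χ ∈ principalBlock M G → χ.1 z = -χ.1 1 →
      χ.1 1 = -∑ j, (e j : ℂ) * (l j χ : ℂ) := by
    intro χ hB hz
    have h1 := sum_blockCoeff_mul_irr (principalBlock M G) χ 1
    simp only [mul_one, if_pos hB] at h1
    rw [T.sum_blockCoeff_eq hM] at h1
    rw [← h1, ← Finset.sum_neg_distrib]
    exact Finset.sum_congr rfl fun j _ => by rw [hmult j χ hz, he]; ring
  have hin : ∀ χ : IrrCharacter G, χ.1 z = -χ.1 1 → (∃ j, l j χ ≠ 0) → χ ∈ principalBlock M G := by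
    intro χ hz ⟨j, hj⟩
    by_contra hB
    refine hj ?_
    have h1 := T.mult_eq_zero hM (Blocks.irr_classFun χ) (fun v _ => by
      rw [sum_blockCoeff_mul_irr, if_neg hB]) j
    have h2 := hmult j χ hz
    rw [h1, neg_zero] at h2
    exact_mod_cast h2
  have hneq : ∀ χ : IrrCharacter G, χ.1 z = -χ.1 1 → χ.1 z ≠ χ.1 1 := fun χ hz h' =>
    Blocks.irr_one_ne_zero χ (by linear_combination (h'.symm.trans hz) / 2)
  have hodd : ∀ χ, (m 0 χ + m 1 χ + m 2 χ) % 2 = 0 := by
    intro χ
    rcases h.apply_z χ with hz | hz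
    · simp [hm, hz]
    · simp only [hm, if_neg (hneq χ hz)]
      by_cases hB : χ ∈ principalBlock M G
      · obtain ⟨x, a, b, hx, -, hb⟩ := h.four.exists_values (Char.irr_isCharacter χ)
        have hx0 : x = 0 := by
          have h1 := h.apply_z_mul_of_neg hz u
          rw [h.z_mul_u, ← CharInt.char_eq_of_isConj (Char.irr_isCharacter χ) h.four.isConj_inv,
            hx] at h1
          have h2 : ((x : ℤ) : ℂ) = 0 := by linear_combination h1 / 2
          exact_mod_cast h2
        have h1 := hy χ hB hz
        rw [hb, hx0, Fin.sum_univ_three] at h1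
        have h2 : (0 : ℤ) + 2 * b = -(e 0 * l 0 χ + e 1 * l 1 χ + e 2 * l 2 χ) := by
          exact_mod_cast h1
        have hmod : ∀ a b : ℤ, b % 2 = 1 → (b * a) % 2 = a % 2 := fun a b hb => by
          rw [Int.mul_emod, hb, one_mul, Int.emod_emod]
        have q0 := hmod (l 0 χ) _ (heodd 0)
        have q1 := hmod (l 1 χ) _ (heodd 1)
        have q2 := hmod (l 2 χ) _ (heodd 2)
        omega
      · have h0 : ∀ j, l j χ = 0 := fun j => by
          by_contra hj
          exact hB (hin χ hz ⟨j, hj⟩)
        simp [h0]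
  have h3 := card_support_union m (fun j => by
      have := hsplit j j; rw [hll, if_pos rfl] at this; omega)
    (fun i j hij => by have := hsplit i j; rw [hll, if_neg hij] at this; omega) hodd
  -- conclusion
  have hset : Finset.univ.filter (fun χ : IrrCharacter G => χ ∈ principalBlock M G) =
      K ∪ Finset.univ.filter (fun χ => ∃ j, m j χ ≠ 0) := by
    ext χ
    simp only [Finset.mem_filter, Finset.mem_univ, true_and, Finset.mem_union]
    constructor
    · intro hB
      rcases h.apply_z χ with hz | hz
      · left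
        rcases T.cover χ hB hz with rfl | ⟨j, rfl⟩
        · exact Finset.mem_insert_self _ _
        · exact Finset.mem_insert_of_mem (Finset.mem_image_of_mem _ (Finset.mem_univ j))
      · right
        by_contra hno
        push Not at hno
        refine Blocks.irr_one_ne_zero χ ?_
        rw [hy χ hB hz]
        simp only [hm, if_neg (hneq χ hz)] at hno
        simp [hno]
    · rintro (hχ | ⟨j, hj⟩)
      · rcases Finset.mem_insert.mp hχ with rfl | hχ
        · exact Blocks.mem_blockOf_self (Char.trivialChar G)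
        · obtain ⟨j, -, rfl⟩ := Finset.mem_image.mp hχ
          exact T.mem j
      · simp only [hm] at hj
        split_ifs at hj with hz
        · exact absurd rfl hj
        · exact hin χ ((h.apply_z χ).resolve_left hz) ⟨j, hj⟩
  have hdis : Disjoint K (Finset.univ.filter fun χ => ∃ j, m j χ ≠ 0) := by
    rw [Finset.disjoint_left]
    intro χ hχ hχ'
    obtain ⟨j, hj⟩ := (Finset.mem_filter.mp hχ').2
    have hz : χ.1 z = χ.1 1 := by
      rcases Finset.mem_insert.mp hχ with rfl | hχ
      · simp [Char.trivialChar]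
      · obtain ⟨k, -, rfl⟩ := Finset.mem_image.mp hχ
        exact T.z_ker k
    simp [hm, hz] at hj
  rw [Nat.card_eq_fintype_card, Fintype.card_of_subtype
    (Finset.univ.filter fun χ : IrrCharacter G => χ ∈ principalBlock M G) (fun χ => by simp),
    hset, Finset.card_union_of_disjoint hdis, hKcard, h3]

end Cfsg.Agent.ZStar
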