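import Cfsg.Agent.Lib.ZStar.Q8Section
import Cfsg.Agent.Lib.ZStar.Product
import Cfsg.Agent.Lib.Char.Brauer
import Cfsg.Agent.Lib.PComplement.FixedPointFree

/-!
# The three functions on the section of a central involution

In the centralizer of the involution of a minimal counterexample with quaternion Sylow
2-subgroup of order eight, `twist w ψ` is `1 - εψ` for the three nontrivial members of the
principal block with the involution in their kernel, and `lift` puts twice its values on the
section of the involution.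
-/

set_option linter.style.haveILetI false

namespace Cfsg.Agent.ZStar

open Cfsg
open scoped ComplexConjugate

universe u

variable {G : Type u} [Group G] [Fintype G] {M : Ideal AlgInt} {z u : G}

/-- The setting of a central involution with quaternion Sylow 2-subgroups of order eight. -/
structure CentralData (z u : G) : Prop where
  four : FourData u
  sq : u * u = z
  central : ∀ g : G, Commute z g
  two_elts : ∀ s : G, (∃ k : ℕ, orderOf s = 2 ^ k) → s = 1 ∨ s = z ∨ orderOf s = 4

/-- The odd elements. -/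
noncomputable def regularSet (G : Type u) [Group G] [Fintype G] : Finset G :=
  Finset.univ.filter fun g => ¬ 2 ∣ orderOf g

theorem mem_regularSet {g : G} : g ∈ regularSet G ↔ ¬ 2 ∣ orderOf g := by simp [regularSet]

namespace CentralData

variable (h : CentralData z u)
include h

theorem orderOf_z : orderOf z = 2 := by
  rw [← h.sq, ← pow_two, orderOf_pow' _ (by norm_num), h.four.ord]
  norm_num

theorem z_mul_self : z * z = 1 := by
  have := pow_orderOf_eq_one z
  rwa [h.orderOf_z, pow_two] at this

theorem z_mul_z_mul (g : G) : z * (z * g) = g := by rw [← mul_assoc, h.z_mul_self, one_mul]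

theorem z_mul_u : z * u = u⁻¹ := by
  have h4 := pow_orderOf_eq_one u
  rw [h.four.ord] at h4
  refine eq_inv_of_mul_eq_one_left ?_
  rw [← h.sq, ← h4, pow_succ, pow_succ, pow_succ, pow_one]

/-- The three kinds of elements. -/
theorem kinds (g : G) :
    g ∈ regularSet G ∨ z * g ∈ regularSet G ∨ g ∈ twoSection u := by
  haveI : Fact (Nat.Prime 2) := ⟨Nat.prime_two⟩
  obtain ⟨s, hs⟩ := Blocks.exists_isPPart (p := 2) g
  obtain ⟨y, hy, hc, hk, hyo⟩ := id hs
  rcases h.two_elts s hk with rfl | rfl | h4
  · left; rw [mem_regularSet, ← hy, one_mul]; exact hyo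
  · right; left; rw [mem_regularSet, ← hy, h.z_mul_z_mul]; exact hyo
  · right; right; exact mem_twoSection.mpr ⟨s, h.four.isConj_four s h4, hs⟩

theorem not_regular_z_mul {g : G} (hg : g ∈ regularSet G) : z * g ∉ regularSet G := by
  haveI : Fact (Nat.Prime 2) := ⟨Nat.prime_two⟩
  intro hzg
  have h1 : IsPPart 2 (z * g) z :=
    Blocks.isPPart_mul (h.central g) ⟨1, by rw [h.orderOf_z, pow_one]⟩ (mem_regularSet.mp hg)
  have h2 : IsPPart 2 (z * g) 1 := by
    simpa using Blocks.isPPart_mul (G := G) (Commute.one_left (z * g)) (p := 2) ⟨0, by simp⟩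
      (mem_regularSet.mp hzg)
  have := Blocks.IsPPart.unique h1 h2
  have h3 := h.orderOf_z
  rw [this, orderOf_one] at h3
  omega

theorem not_twoSection_of_regular {g : G} (hg : g ∈ regularSet G) :
    g ∉ twoSection u ∧ z * g ∉ twoSection u := by
  haveI : Fact (Nat.Prime 2) := ⟨Nat.prime_two⟩
  constructor <;> intro hm
  · obtain ⟨s, hs, hp⟩ := mem_twoSection.mp hm
    have h2 : IsPPart 2 g 1 := by
      simpa using Blocks.isPPart_mul (G := G) (Commute.one_left g) (p := 2) ⟨0, by simp⟩
        (mem_regularSet.mp hg)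
    rw [Blocks.IsPPart.unique hp h2] at hs
    have h4 := h.four.ord
    rw [isConj_one_left.mp hs, orderOf_one] at h4
    omega
  · obtain ⟨s, hs, hp⟩ := mem_twoSection.mp hm
    have h2 : IsPPart 2 (z * g) z :=
      Blocks.isPPart_mul (h.central g) ⟨1, by rw [h.orderOf_z, pow_one]⟩ (mem_regularSet.mp hg)
    rw [Blocks.IsPPart.unique hp h2] at hs
    obtain ⟨c, hc⟩ := isConj_iff.mp hs
    have h4 := h.four.ord
    rw [← MulEquiv.orderOf_eq (MulAut.conj c) u, MulAut.conj_apply, hc, h.orderOf_z] at h4
    omega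

theorem sum_split (f : G → ℂ) :
    ∑ g, f g = (∑ v ∈ regularSet G, f v) + (∑ v ∈ regularSet G, f (z * v)) +
      ∑ g ∈ twoSection u, f g := by
  classical
  have e : ∀ g, f g = (if g ∈ regularSet G then f g else 0) +
      (if z * g ∈ regularSet G then f g else 0) + (if g ∈ twoSection u then f g else 0) := by
    intro g
    rcases h.kinds g with hg | hg | hg
    · simp [hg, h.not_regular_z_mul hg, (h.not_twoSection_of_regular hg).1]
    · have h1 := h.not_regular_z_mul hg
      have h2 := (h.not_twoSection_of_regular hg).2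
      rw [h.z_mul_z_mul] at h1 h2
      simp [hg, h1, h2]
    · have h1 : g ∉ regularSet G := fun hr => (h.not_twoSection_of_regular hr).1 hg
      have h2 : z * g ∉ regularSet G := fun hr => by
        have := (h.not_twoSection_of_regular hr).2
        rw [h.z_mul_z_mul] at this
        exact this hg
      simp [hg, h1, h2]
  rw [Finset.sum_congr rfl (fun g _ => e g), Finset.sum_add_distrib, Finset.sum_add_distrib]
  congr 1
  · congr 1
    · simp only [Finset.sum_ite_mem, Finset.univ_inter]
    · rw [← Equiv.sum_comp (Equiv.mulLeft z)]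
      simp only [Equiv.coe_mulLeft, h.z_mul_z_mul]
      simp only [Finset.sum_ite_mem, Finset.univ_inter]
  · simp only [Finset.sum_ite_mem, Finset.univ_inter]

theorem mul_apply_z (χ : IrrCharacter G) (g : G) : χ.1 z * χ.1 g = χ.1 1 * χ.1 (z * g) := by
  refine apply_mul_apply_eq χ fun x y hx hy => ?_
  obtain ⟨c, hc⟩ := isConj_iff.mp hx
  have hxz : x = z := by rw [← hc, (h.central c).symm.eq, mul_inv_cancel_right]
  obtain ⟨d, hd⟩ := isConj_iff.mp hy
  rw [hxz, ← hd]
  have := Blocks.irr_classFun χ (z * g) d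
  rw [show d * (z * g) * d⁻¹ = z * (d * g * d⁻¹) by
    rw [← mul_assoc d z g, (h.central d).symm.eq]; group] at this
  exact this

theorem apply_z (χ : IrrCharacter G) :
    χ.1 z = χ.1 1 ∨ χ.1 z = -χ.1 1 := by
  have h1 := h.mul_apply_z χ z
  rw [h.z_mul_self] at h1
  exact mul_self_eq_mul_self_iff.mp h1

theorem apply_z_mul_of_eq {χ : IrrCharacter G} (hz : χ.1 z = χ.1 1) (g : G) :
    χ.1 (z * g) = χ.1 g := by
  have h1 := h.mul_apply_z χ g
  rw [hz] at h1
  exact (mul_left_cancel₀ (Blocks.irr_one_ne_zero χ) h1).symm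

theorem apply_z_mul_of_neg {χ : IrrCharacter G} (hz : χ.1 z = -χ.1 1) (g : G) :
    χ.1 (z * g) = -χ.1 g := by
  have h1 := h.mul_apply_z χ g
  rw [hz, neg_mul] at h1
  exact mul_left_cancel₀ (Blocks.irr_one_ne_zero χ) (by rw [← h1, mul_neg])

end CentralData

/-- The three nontrivial members of the principal block with the involution in their kernel. -/
structure Triple (hS : CentralData z u) (M : Ideal AlgInt) where
  chr : Fin 3 → IrrCharacter G
  sgn : Fin 3 → ℤ
  inj : Function.Injective chr
  ne_triv : ∀ j, chr j ≠ Char.trivialChar G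
  sgn_sq : ∀ j, sgn j * sgn j = 1
  mem : ∀ j, chr j ∈ principalBlock M G
  z_ker : ∀ j, (chr j).1 z = (chr j).1 1
  val_four : ∀ j, ∀ g ∈ twoSection u, (chr j).1 g = (sgn j : ℂ)
  cover : ∀ χ : IrrCharacter G, χ ∈ principalBlock M G → χ.1 z = χ.1 1 →
    χ = Char.trivialChar G ∨ ∃ j, χ = chr j
  reg_rel : ∀ v ∈ regularSet G, 1 + ∑ j, (sgn j : ℂ) * (chr j).1 v = 0

theorem CentralData.exists_triple (h : CentralData z u) (hS : SecondPrincipal.{u})
    (hM : IsPModular 2 M) : Nonempty (Triple h M) := by
  classical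
  haveI := hM.2.1
  haveI : Fact (Nat.Prime 2) := ⟨Nat.prime_two⟩
  obtain ⟨w, -, hwB, hwN, hwphi, hw4, hwo⟩ := h.four.exists_weights hS hM
  have hzero : ∀ χ : IrrCharacter G, χ.1 z = -χ.1 1 → w χ = 0 := by
    intro χ hz
    by_cases hB : χ ∈ principalBlock M G
    · have h1 := h.apply_z_mul_of_neg hz u
      rw [h.z_mul_u, ← CharInt.char_eq_of_isConj (Char.irr_isCharacter χ) h.four.isConj_inv,
        hwB χ hB] at h1
      have h2 : ((w χ : ℤ) : ℂ) = 0 := by linear_combination h1 / 2
      exact_mod_cast h2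
    · exact hwN χ hB
  have hmem : ∀ χ : IrrCharacter G, w χ ≠ 0 → χ ∈ principalBlock M G ∧ χ.1 z = χ.1 1 := by
    intro χ hw
    refine ⟨?_, ?_⟩
    · by_contra hB; exact hw (hwN χ hB)
    · exact (h.apply_z χ).resolve_right fun hz => hw (hzero χ hz)
  have hne : ∀ χ : IrrCharacter G, χ ∈ principalBlock M G → χ.1 z = χ.1 1 →
      χ ≠ Char.trivialChar G → w χ ≠ 0 := by
    intro χ hB hz hne hw
    have h0 := Char.sum_apply_eq_zero hne
    rw [h.sum_split, Finset.sum_congr rfl (fun v _ => h.apply_z_mul_of_eq hz v)] at h0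
    have hfour : ∑ g ∈ twoSection u, χ.1 g = 0 := Finset.sum_eq_zero fun g hg => by
      rw [h.four.apply_eq_of_mem_twoSection hS hM hB hg, hwB χ hB, hw, Int.cast_zero]
    rw [hfour, add_zero] at h0
    refine BlockCount.pregSum_ne_zero hM hB ?_
    have h0' : ∑ v ∈ regularSet G, χ.1 v = 0 := by linear_combination h0 / 2
    exact h0'
  set T := Finset.univ.filter fun χ : IrrCharacter G => χ ≠ Char.trivialChar G ∧ w χ ≠ 0 with hT
  have h3 : ∑ χ ∈ T, w χ * w χ = 3 := by
    have e : ∑ χ ∈ T, w χ * w χ =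
        ∑ χ ∈ Finset.univ.erase (Char.trivialChar G), w χ * w χ := by
      refine Finset.sum_subset (fun χ hχ => ?_) fun χ hχ hχ' => ?_
      · simpa using (Finset.mem_filter.mp hχ).2.1
      · have : w χ = 0 := by
          by_contra h'
          exact hχ' (by simp [hT, (Finset.mem_erase.mp hχ).1, h'])
        rw [this, mul_zero]
    rw [e]
    have h' := Finset.add_sum_erase Finset.univ (fun χ => w χ * w χ)
      (Finset.mem_univ (Char.trivialChar G))
    simp only [hwo, hw4] at h'
    omega
  have hpm : ∀ χ ∈ T, w χ = 1 ∨ w χ = -1 := by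
    intro χ hχ
    have hne' : w χ ≠ 0 := (Finset.mem_filter.mp hχ).2.2
    have hi3 : w χ * w χ ≤ 3 := h3 ▸
      Finset.single_le_sum (f := fun i => w i * w i) (fun j _ => mul_self_nonneg _) hχ
    have h1 : w χ ≤ 1 := by nlinarith
    have h2 : -1 ≤ w χ := by nlinarith
    omega
  have hcard : T.card = 3 := by
    rw [Finset.sum_congr rfl (g := fun _ => (1 : ℤ)) (fun i hi => by
      rcases hpm i hi with e | e <;> rw [e] <;> norm_num)] at h3
    have h3' : (T.card : ℤ) = 3 := by simpa using h3
    exact_mod_cast h3'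
  obtain ⟨f⟩ : Nonempty (T ≃ Fin 3) := ⟨T.equivFinOfCardEq hcard⟩
  have hT' : ∀ j, (f.symm j : IrrCharacter G) ≠ Char.trivialChar G ∧ w (f.symm j : IrrCharacter G) ≠ 0 :=
    fun j => (Finset.mem_filter.mp (f.symm j).2).2
  refine ⟨{
    chr := fun j => (f.symm j : IrrCharacter G)
    sgn := fun j => w (f.symm j : IrrCharacter G)
    inj := fun a b hab => f.symm.injective (Subtype.ext hab)
    ne_triv := fun j => (hT' j).1
    sgn_sq := fun j => by rcases hpm _ (f.symm j).2 with e | e <;> rw [e] <;> norm_num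
    mem := fun j => (hmem _ (hT' j).2).1
    z_ker := fun j => (hmem _ (hT' j).2).2
    val_four := fun j g hg => by
      rw [h.four.apply_eq_of_mem_twoSection hS hM (hmem _ (hT' j).2).1 hg,
        hwB _ (hmem _ (hT' j).2).1]
    cover := fun χ hB hz => ?_
    reg_rel := fun v hv => ?_ }⟩
  · by_cases h' : χ = Char.trivialChar G
    · exact Or.inl h'
    · refine Or.inr ⟨f ⟨χ, by simp [hT, h', hne χ hB hz h']⟩, ?_⟩
      simp
  · have h1 := hwphi v
    have h0 : h.four.phi v = 0 := by
      simp [FourData.phi, (h.not_twoSection_of_regular hv).1]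
    rw [h0, ← Finset.add_sum_erase _ _ (Finset.mem_univ (Char.trivialChar G)), hwo, Int.cast_one,
      one_mul, ← Finset.sum_subset (s₁ := T) (fun χ hχ => by simpa using (Finset.mem_filter.mp hχ).2.1)
        (fun χ hχ hχ' => by
          have : w χ = 0 := by
            by_contra h'
            exact hχ' (by simp [hT, (Finset.mem_erase.mp hχ).1, h'])
          rw [this, Int.cast_zero, zero_mul])] at h1
    have hsum : ∑ j, (w (f.symm j : IrrCharacter G) : ℂ) * (f.symm j : IrrCharacter G).1 v =
        ∑ χ ∈ T, (w χ : ℂ) * χ.1 v :=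
      (Equiv.sum_comp f.symm fun x : T => (w x.1 : ℂ) * x.1.1 v).trans
        (Finset.sum_coe_sort T fun χ => (w χ : ℂ) * χ.1 v)
    rw [hsum]
    simpa [Char.trivialChar] using h1

end Cfsg.Agent.ZStar
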