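import Cfsg.Agent.Lib.ZStar.Q8Twist
import Cfsg.Agent.Lib.Blocks.Core

/-!
# Sums against the principal idempotent of the centralizer of the involution
-/

set_option linter.style.haveILetI false

namespace Cfsg.Agent.ZStar

open Cfsg
open scoped ComplexConjugate

universe u

variable {G : Type u} [Group G] [Fintype G] {M : Ideal AlgInt} {z u : G} {h : CentralData z u}

theorem sum_blockCoeff_mul_irr (A : Set (IrrCharacter G)) [DecidablePred (· ∈ A)]
    (φ : IrrCharacter G) (x : G) :
    ∑ k : G, blockCoeff A k * φ.1 (k * x) = if φ ∈ A then φ.1 x else 0 := by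
  have h1 := Blocks.chiL_mul_of_central φ (Blocks.isCentralElt_blockIdem A)
    (MonoidAlgebra.single x (1 : ℂ))
  rw [Blocks.omega_blockIdem, Blocks.chiL_single, one_mul, Blocks.chiL_eq_sum] at h1
  rw [← Equiv.sum_comp (Equiv.mulRight x)] at h1
  simp only [Blocks.coeff_mul_single', Blocks.coeff_blockIdem, Equiv.coe_mulRight,
    mul_inv_cancel_right, mul_one] at h1
  rw [h1]
  split_ifs <;> simp

namespace Triple

variable (T : Triple h M)

/-- The signed degrees. -/
theorem exists_e : ∃ e : Fin 3 → ℤ, (∀ j, (e j : ℂ) = -(T.sgn j : ℂ) * (T.chr j).1 1) ∧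
    e 0 + e 1 + e 2 = 1 ∧ ∀ j, e j % 2 = 1 := by
  haveI := h.four
  choose x a b hx ha hb using fun j => h.four.exists_values (Char.irr_isCharacter (T.chr j))
  have hsx : ∀ j, x j = T.sgn j := fun j => by
    have h1 := T.val_four j u (mem_twoSection.mpr ⟨u, IsConj.refl u,
      ⟨1, mul_one u, Commute.one_right u, h.four.two_pow, by simp⟩⟩)
    rw [hx j] at h1
    exact_mod_cast h1
  refine ⟨fun j => -(T.sgn j) * (x j + 2 * b j), fun j => ?_, ?_, fun j => ?_⟩
  · rw [hb j]; push_cast; ring
  · have h1 := T.reg_rel 1 (mem_regularSet.mpr (by simp))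
    rw [Fin.sum_univ_three, hb 0, hb 1, hb 2] at h1
    have h2 : (1 : ℤ) + (T.sgn 0 * (x 0 + 2 * b 0) + T.sgn 1 * (x 1 + 2 * b 1) +
        T.sgn 2 * (x 2 + 2 * b 2)) = 0 := by exact_mod_cast h1
    linarith
  · have h1 := T.sgn_sq j
    show (-(T.sgn j) * (x j + 2 * b j)) % 2 = 1
    rw [hsx, show -(T.sgn j) * (T.sgn j + 2 * b j) =
      -(T.sgn j * T.sgn j) + 2 * (-(T.sgn j) * b j) by ring, h1]
    omega

/-- The multiplicity of a class function of the centralizer. -/
noncomputable def mult (g : G → ℂ) (j : Fin 3) : ℂ :=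
  2 * (Nat.card G : ℂ)⁻¹ * ∑ v ∈ regularSet G, g v * conj (T.twist j v)

/-- The principal idempotent on the regular elements. -/
theorem blockCoeff_regular (hM : IsPModular 2 M) {k : G} (hk : k ∈ regularSet G) :
    blockCoeff (principalBlock M G) k =
      2 * (Nat.card G : ℂ)⁻¹ * (1 + ∑ j, (T.chr j).1 1 * conj ((T.chr j).1 k)) := by
  classical
  haveI := hM.2.1
  haveI : Fact (Nat.Prime 2) := ⟨Nat.prime_two⟩
  have h0 : blockCoeff (principalBlock M G) (z * k) = 0 := by
    refine Blocks.blockCoeff_eq_zero (p := 2) hM.2.2 (Blocks.isPBlock_principalBlock hM.2.2) ?_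
    intro hr
    exact h.not_regular_z_mul hk (mem_regularSet.mpr hr)
  rw [← add_zero (blockCoeff (principalBlock M G) k), ← h0, Blocks.blockCoeff_eq_sum,
    Blocks.blockCoeff_eq_sum, ← mul_add, ← Finset.sum_add_distrib, mul_comm (2 : ℂ), mul_assoc]
  congr 1
  set B₁ := Finset.univ.image T.chr with hB1
  have ht : Char.trivialChar G ∉ B₁ := by
    simp only [hB1, Finset.mem_image, Finset.mem_univ, true_and]
    rintro ⟨j, hj⟩
    exact T.ne_triv j hj
  rw [← Finset.sum_subset (s₁ := insert (Char.trivialChar G) B₁)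
    (fun χ hχ => ?_) (fun χ hχ hχ' => ?_)]
  · rw [Finset.sum_insert ht, hB1, Finset.sum_image (fun a _ b _ e => T.inj e), mul_add,
      Finset.mul_sum]
    congr 1
    · simp [Char.trivialChar]; norm_num
    · exact Finset.sum_congr rfl fun j _ => by rw [h.apply_z_mul_of_eq (T.z_ker j)]; ring
  · rcases Finset.mem_insert.mp hχ with rfl | hχ
    · exact Finset.mem_filter.mpr ⟨Finset.mem_univ _, Blocks.mem_blockOf_self (Char.trivialChar G)⟩
    · obtain ⟨j, -, rfl⟩ := Finset.mem_image.mp hχ
      exact Finset.mem_filter.mpr ⟨Finset.mem_univ _, T.mem j⟩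
  · have hB := (Finset.mem_filter.mp hχ).2
    rcases h.apply_z χ with hz | hz
    · rcases T.cover χ hB hz with e | ⟨j, e⟩
      · exact absurd (Finset.mem_insert.mpr (Or.inl e)) hχ'
      · exact absurd (Finset.mem_insert.mpr (Or.inr (Finset.mem_image.mpr ⟨j, by simp, e.symm⟩))) hχ'
    · rw [h.apply_z_mul_of_neg hz, map_neg]
      ring

/-- The sum against the principal idempotent in terms of the multiplicities. -/
theorem sum_blockCoeff_eq (hM : IsPModular 2 M) (g : G → ℂ) :
    ∑ k : G, blockCoeff (principalBlock M G) k * g k =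
      ∑ j, (-(T.sgn j : ℂ) * (T.chr j).1 1) * T.mult g j := by
  classical
  haveI := hM.2.1
  haveI : Fact (Nat.Prime 2) := ⟨Nat.prime_two⟩
  rw [← Finset.sum_subset (Finset.subset_univ (regularSet G)) (fun k _ hk => by
    rw [Blocks.blockCoeff_eq_zero (p := 2) hM.2.2 (Blocks.isPBlock_principalBlock hM.2.2)
      (fun hr => hk (mem_regularSet.mpr hr)), zero_mul])]
  rw [Finset.sum_congr rfl fun k hk => by rw [T.blockCoeff_regular hM hk]]
  simp only [mult, Finset.mul_sum]
  rw [Finset.sum_comm]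
  refine Finset.sum_congr rfl fun v hv => ?_
  have hrel := congrArg (starRingEnd ℂ) (T.reg_rel v hv)
  have h1 := T.reg_rel 1 (mem_regularSet.mpr (by simp))
  simp only [Fin.sum_univ_three, map_add, map_mul, map_one, map_intCast, map_zero] at hrel h1 ⊢
  have s0 : (T.sgn 0 : ℂ) * (T.sgn 0 : ℂ) = 1 := by exact_mod_cast T.sgn_sq 0
  have s1 : (T.sgn 1 : ℂ) * (T.sgn 1 : ℂ) = 1 := by exact_mod_cast T.sgn_sq 1
  have s2 : (T.sgn 2 : ℂ) * (T.sgn 2 : ℂ) = 1 := by exact_mod_cast T.sgn_sq 2
  simp only [twist, map_sub, map_mul, map_one, map_intCast]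
  linear_combination (2 * (Nat.card G : ℂ)⁻¹ * g v) * h1 -
    (2 * (Nat.card G : ℂ)⁻¹ * g v) * ((T.chr 0).1 1 * conj ((T.chr 0).1 v) * s0 +
      (T.chr 1).1 1 * conj ((T.chr 1).1 v) * s1 + (T.chr 2).1 1 * conj ((T.chr 2).1 v) * s2)

/-- A class function annihilated by the principal idempotent has no multiplicities. -/
theorem mult_eq_zero (hM : IsPModular 2 M) {g : G → ℂ} (hg : IsClassFunction G g)
    (h0 : ∀ v ∈ regularSet G, ∑ k : G, blockCoeff (principalBlock M G) k * g (k * v) = 0)
    (j : Fin 3) : T.mult g j = 0 := by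
  classical
  haveI := hM.2.1
  haveI : Fact (Nat.Prime 2) := ⟨Nat.prime_two⟩
  have hg' := Char.eq_sum_classInner_smul hg
  have hexp : ∀ x, g x = ∑ φ : IrrCharacter G, classInner g φ.1 * φ.1 x := fun x => by
    conv_lhs => rw [hg']
    simp [Finset.sum_apply]
  set A := Finset.univ.filter fun φ : IrrCharacter G => φ ∈ principalBlock M G with hA
  have hB : ∀ v ∈ regularSet G, ∑ φ ∈ A, classInner g φ.1 * φ.1 v = 0 := by
    intro v hv
    rw [← h0 v hv]
    simp only [hexp (_ * v), Finset.mul_sum]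
    rw [Finset.sum_comm, hA, Finset.sum_filter]
    refine Finset.sum_congr rfl fun φ _ => ?_
    rw [Finset.sum_congr rfl (g := fun k => classInner g φ.1 *
      (blockCoeff (principalBlock M G) k * φ.1 (k * v))) (fun k _ => by ring), ← Finset.mul_sum,
      sum_blockCoeff_mul_irr]
    split_ifs <;> simp
  have hortho : ∀ φ : IrrCharacter G, φ ∉ principalBlock M G →
      ∑ v ∈ regularSet G, φ.1 v * conj (T.twist j v) = 0 := by
    intro φ hφ
    have key : ∀ ψ : IrrCharacter G, ψ ∈ principalBlock M G →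
        ∑ v ∈ regularSet G, φ.1 v * conj (ψ.1 v) = 0 := by
      intro ψ hψ
      have hns : ¬ SameBlock M φ.1 ψ.1 := fun hs =>
        hφ (Blocks.SameBlock.trans hψ (Blocks.SameBlock.symm hs))
      rw [show regularSet G = Finset.univ.filter (IsPRegular 2) by
        ext x; simp [mem_regularSet, IsPRegular]]
      exact Blocks.regular_orthogonality (p := 2) hM.2.2 hns
    have e1 := key (Char.trivialChar G) (Blocks.mem_blockOf_self (Char.trivialChar G))
    have e2 := key (T.chr j) (T.mem j)
    simp only [twist, map_sub, map_mul, map_one, map_intCast, mul_sub, Finset.sum_sub_distrib]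
    simp only [Char.trivialChar, map_one] at e1
    rw [e1, zero_sub, neg_eq_zero, Finset.sum_congr rfl (g := fun v =>
      (T.sgn j : ℂ) * (φ.1 v * conj ((T.chr j).1 v))) (fun v _ => by ring), ← Finset.mul_sum, e2,
      mul_zero]
  rw [mult]
  refine mul_eq_zero_of_right _ ?_
  calc ∑ v ∈ regularSet G, g v * conj (T.twist j v)
      = ∑ v ∈ regularSet G, ((∑ φ ∈ A, classInner g φ.1 * φ.1 v) +
          ∑ φ ∈ Aᶜ, classInner g φ.1 * φ.1 v) * conj (T.twist j v) := by
        refine Finset.sum_congr rfl fun v _ => ?_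
        rw [Finset.sum_add_sum_compl, ← hexp]
    _ = ∑ φ ∈ Aᶜ, classInner g φ.1 * ∑ v ∈ regularSet G, φ.1 v * conj (T.twist j v) := by
        rw [Finset.sum_congr rfl (g := fun v => ∑ φ ∈ Aᶜ, classInner g φ.1 *
          (φ.1 v * conj (T.twist j v))) (fun v hv => by
            rw [hB v hv, zero_add, Finset.sum_mul]
            exact Finset.sum_congr rfl fun φ _ => by ring), Finset.sum_comm]
        exact Finset.sum_congr rfl fun φ _ => by rw [Finset.mul_sum]
    _ = 0 := Finset.sum_eq_zero fun φ hφ => by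
        rw [hortho φ (by simpa [hA] using hφ), mul_zero]

end Triple

end Cfsg.Agent.ZStar
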