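import Cfsg.Agent.Lib.ZStar.SectionAverage
import Cfsg.Agent.Lib.Char.Generalized

/-!
# The section of the elements of order four
-/

set_option linter.style.haveILetI false

namespace Cfsg.Agent.ZStar

open Cfsg
open scoped ComplexConjugate

universe u

variable {G : Type u} [Group G] [Fintype G] {M : Ideal AlgInt}

/-- All elements of order four are conjugate, and their centralizers have normal 2-complements of
index four. -/
structure FourData (u : G) : Prop where
  ord : orderOf u = 4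
  compl : ∃ N : Subgroup G, (∀ v, v ∈ N ↔ Commute u v ∧ Odd (orderOf v)) ∧
    Nat.card (Subgroup.centralizer ({u} : Set G)) = 4 * Nat.card N
  isConj_four : ∀ s : G, orderOf s = 4 → IsConj u s

namespace FourData

variable {u : G} (hu : FourData u)
include hu

theorem two_pow : ∃ k : ℕ, orderOf u = 2 ^ k := ⟨2, by rw [hu.ord]; norm_num⟩

theorem four_mul_card : 4 * ((twoSection u).card : ℂ) = (Nat.card G : ℂ) := by
  classical
  obtain ⟨N, hN, hc⟩ := hu.compl
  have h := sum_twoSection hu.two_pow (f := fun _ => (1 : ℂ)) (fun _ _ => rfl)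
  simp only [Finset.sum_const, nsmul_eq_mul, mul_one] at h
  have hcard : (oddCentralizing u).card = Nat.card N := by
    rw [Nat.card_eq_fintype_card]
    exact (Fintype.card_of_subtype _ fun v => by rw [mem_oddCentralizing, hN]).symm
  have h2 := Subgroup.card_mul_index (Subgroup.centralizer ({u} : Set G))
  rw [hc] at h2
  rw [h, hcard, ← h2]
  push_cast
  ring

theorem sum_twoSection_apply (hS : SecondPrincipal.{u}) (hM : IsPModular 2 M) (χ : IrrCharacter G) :
    (χ ∈ principalBlock M G → ∑ g ∈ twoSection u, χ.1 g = ((twoSection u).card : ℂ) * χ.1 u) ∧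
      (χ ∉ principalBlock M G → ∑ g ∈ twoSection u, χ.1 g = 0) := by
  obtain ⟨N, hN, -⟩ := hu.compl
  have h := sum_twoSection hu.two_pow (Blocks.irr_classFun χ)
  have h1 := sum_twoSection hu.two_pow (f := fun _ => (1 : ℂ)) (fun _ _ => rfl)
  simp only [Finset.sum_const, nsmul_eq_mul, mul_one] at h1
  obtain ⟨e1, e2⟩ := sum_oddCentralizing_apply hS hM hu.two_pow hN χ
  refine ⟨fun hχ => ?_, fun hχ => ?_⟩
  · rw [h, e1 hχ, h1, mul_assoc]
  · rw [h, e2 hχ, mul_zero]

/-- Characters of the principal block are constant on the section. -/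
theorem apply_eq_of_mem_twoSection (hS : SecondPrincipal.{u}) (hM : IsPModular 2 M)
    {χ : IrrCharacter G} (hχ : χ ∈ principalBlock M G) {g : G} (hg : g ∈ twoSection u) :
    χ.1 g = χ.1 u := by
  haveI : Fact (Nat.Prime 2) := ⟨Nat.prime_two⟩
  obtain ⟨N, hN, -⟩ := hu.compl
  obtain ⟨s, hs, hp⟩ := mem_twoSection.mp hg
  obtain ⟨c, hc⟩ := isConj_iff.mp hs
  have hp' := Blocks.IsPPart.conj hp c⁻¹
  rw [inv_inv, ← hc, show c⁻¹ * (c * u * c⁻¹) * c = u by group] at hp'
  obtain ⟨v, hv, hcv, -, hvo⟩ := hp'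
  have hvN : v ∈ N := (hN v).mpr ⟨hcv, not_two_dvd_iff_odd.mp hvo⟩
  have hle : N ≤ Subgroup.centralizer ({u} : Set G) := fun w hw =>
    Subgroup.mem_centralizer_singleton_iff.mpr ((hN w).mp hw).1.symm.eq
  haveI : (N.subgroupOf (Subgroup.centralizer ({u} : Set G))).Normal := ⟨fun n hn a => by
    rw [Subgroup.mem_subgroupOf, hN] at hn ⊢
    have ha : Commute u (a : G) := (Subgroup.mem_centralizer_singleton_iff.mp a.2).symm
    simp only [Subgroup.coe_mul, Subgroup.coe_inv]
    refine ⟨(ha.mul_right hn.1).mul_right ha.inv_right, ?_⟩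
    rw [← MulAut.conj_apply, MulEquiv.orderOf_eq]
    exact hn.2⟩
  have hodd : Odd (Nat.card N) := by
    by_contra h
    obtain ⟨x, hx⟩ := exists_prime_orderOf_dvd_card' (G := N) 2
      (even_iff_two_dvd.mp (Nat.not_odd_iff_even.mp h))
    have := ((hN x).mp x.2).2
    rw [Subgroup.orderOf_coe, hx] at this
    exact absurd this (by decide)
  have hmem : v ∈ centralizerPPrimeCore 2 u := by
    refine Subgroup.mem_map.mpr ⟨⟨v, hle hvN⟩, ?_, rfl⟩
    refine PCore.le_oddCore ?_ (show _ ∈ N.subgroupOf _ from hvN)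
    rw [Nat.card_congr (Subgroup.subgroupOfEquivOfLe hle).toEquiv]
    exact hodd
  have hg' : g = c * (u * v) * c⁻¹ := by rw [hv]; group
  rw [hg', Blocks.irr_classFun χ]
  exact apply_mul_core hS hM hu.two_pow hmem hχ

theorem isConj_inv : IsConj u u⁻¹ := hu.isConj_four _ (by rw [orderOf_inv, hu.ord])

/-- The rational values at an element of order four. -/
theorem exists_values {χ : G → ℂ} (hχ : IsCharacter G χ) :
    ∃ x a b : ℤ, χ u = x ∧ χ (u * u) = x + 2 * a ∧ χ 1 = x + 2 * b := by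
  obtain ⟨n, μ, h1, hμ, hk⟩ := CharInt.exists_roots hχ u
  rw [hu.ord] at hμ
  have hreal : (χ u).im = 0 := by
    rw [← Complex.conj_eq_iff_im, ← CharInt.char_inv hχ]
    exact (CharInt.char_eq_of_isConj hχ hu.isConj_inv).symm
  have hm : ∀ i, ∃ r s t : ℤ, (μ i).re = r ∧
      μ i ^ 2 = (r : ℂ) + 2 * (s : ℂ) + ((μ i).im : ℂ) ∧
      (1 : ℂ) = (r : ℂ) + 2 * (t : ℂ) + ((μ i).im : ℂ) := by
    intro i
    have h4 : (μ i - 1) * (μ i + 1) * (μ i - Complex.I) * (μ i + Complex.I) = 0 := by
      linear_combination hμ i - (μ i ^ 2 - 1) * Complex.I_sq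
    rcases mul_eq_zero.mp h4 with h | h
    · rcases mul_eq_zero.mp h with h | h
      · rcases mul_eq_zero.mp h with h | h
        · exact ⟨1, 0, 0, by simp [sub_eq_zero.mp h], by simp [sub_eq_zero.mp h],
            by simp [sub_eq_zero.mp h]⟩
        · refine ⟨-1, 1, 1, ?_, ?_, ?_⟩ <;> rw [eq_neg_of_add_eq_zero_left h] <;> norm_num
      · refine ⟨0, -1, 0, ?_, ?_, ?_⟩ <;> rw [sub_eq_zero.mp h] <;> simp [Complex.I_sq] <;> norm_num
    · refine ⟨0, 0, 1, ?_, ?_, ?_⟩ <;> rw [eq_neg_of_add_eq_zero_left h] <;> simp [Complex.I_sq] <;>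
        norm_num
  choose r s t hr hs ht using hm
  have hsum : χ u = ∑ i, μ i := by simpa using hk 1
  have him : ∑ i, ((μ i).im : ℂ) = 0 := by
    rw [hsum, Complex.im_sum] at hreal
    exact_mod_cast hreal
  refine ⟨∑ i, r i, ∑ i, s i, ∑ i, t i, ?_, ?_, ?_⟩
  · rw [hsum]
    refine Complex.ext ?_ ?_
    · rw [Complex.re_sum, Complex.intCast_re, Int.cast_sum]
      exact Finset.sum_congr rfl fun i _ => hr i
    · rw [← hsum, hreal, Complex.intCast_im]
  · rw [← pow_two u, hk 2, Finset.sum_congr rfl fun i _ => hs i, Finset.sum_add_distrib,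
      Finset.sum_add_distrib, him, ← Finset.mul_sum]
    push_cast
    ring
  · have hn : (n : ℂ) = ∑ _i : Fin n, (1 : ℂ) := by simp
    rw [h1, hn, Finset.sum_congr rfl fun i _ => ht i, Finset.sum_add_distrib,
      Finset.sum_add_distrib, him, ← Finset.mul_sum]
    push_cast
    ring

/-- Four times the indicator of the section. -/
noncomputable def phi (_hu : FourData u) : G → ℂ := fun g => by
  classical exact if g ∈ twoSection u then 4 else 0

theorem isClassFunction_phi : IsClassFunction G hu.phi := by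
  intro g c
  have h : c * g * c⁻¹ ∈ twoSection u ↔ g ∈ twoSection u :=
    ⟨fun h => by simpa [mul_assoc] using isPPart_conj_mem h c⁻¹, fun h => isPPart_conj_mem h c⟩
  by_cases hg : g ∈ twoSection u <;> simp [phi, hg, h]

theorem classInner_phi (f : G → ℂ) :
    classInner f hu.phi = (Nat.card G : ℂ)⁻¹ * (4 * ∑ g ∈ twoSection u, f g) := by
  classical
  rw [classInner]
  congr 1
  rw [Finset.mul_sum]
  have hc : ∀ g, f g * conj (hu.phi g) = if g ∈ twoSection u then 4 * f g else 0 := fun g => by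
    simp only [phi]
    split_ifs <;> simp [mul_comm, map_ofNat]
  simp only [hc, Finset.sum_ite_mem, Finset.univ_inter]

/-- The multiplicities in `phi`. -/
theorem exists_weights (hS : SecondPrincipal.{u}) (hM : IsPModular 2 M) :
    ∃ w : IrrCharacter G → ℤ,
      (∀ χ, classInner χ.1 hu.phi = (w χ : ℂ)) ∧
      (∀ χ, χ ∈ principalBlock M G → χ.1 u = (w χ : ℂ)) ∧
      (∀ χ, χ ∉ principalBlock M G → w χ = 0) ∧
      (∀ g, ∑ χ, (w χ : ℂ) * χ.1 g = hu.phi g) ∧
      (∑ χ, w χ * w χ = 4) ∧ w (Char.trivialChar G) = 1 := by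
  classical
  have hmain : ∀ χ : IrrCharacter G,
      (χ ∈ principalBlock M G → classInner χ.1 hu.phi = χ.1 u) ∧
        (χ ∉ principalBlock M G → classInner χ.1 hu.phi = 0) := by
    intro χ
    obtain ⟨e1, e2⟩ := hu.sum_twoSection_apply hS hM χ
    refine ⟨fun h => ?_, fun h => ?_⟩
    · rw [hu.classInner_phi, e1 h, ← mul_assoc 4, hu.four_mul_card, ← mul_assoc,
        inv_mul_cancel₀ Char.card_ne_zero, one_mul]
    · rw [hu.classInner_phi, e2 h, mul_zero, mul_zero]
  have hint : ∀ χ : IrrCharacter G, ∃ k : ℤ, classInner χ.1 hu.phi = (k : ℂ) := by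
    intro χ
    by_cases h : χ ∈ principalBlock M G
    · obtain ⟨x, -, -, hx, -, -⟩ := hu.exists_values (Char.irr_isCharacter χ)
      exact ⟨x, by rw [(hmain χ).1 h, hx]⟩
    · exact ⟨0, by rw [(hmain χ).2 h, Int.cast_zero]⟩
  choose w hw using hint
  have hphi : hu.phi = ∑ χ, (w χ : ℂ) • χ.1 := by
    conv_lhs => rw [Char.eq_sum_classInner_smul hu.isClassFunction_phi]
    refine Finset.sum_congr rfl fun χ _ => ?_
    rw [← Char.conj_classInner χ.1 hu.phi, hw, map_intCast]
  refine ⟨w, hw, fun χ h => ((hmain χ).1 h).symm.trans (hw χ), fun χ h => ?_, fun g => ?_, ?_, ?_⟩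
  · have := (hw χ).symm.trans ((hmain χ).2 h)
    exact_mod_cast this
  · conv_rhs => rw [hphi]
    simp [Finset.sum_apply]
  · have h := Char.IsGeneralizedCharacter.classInner_self_eq_sum hphi
    have h2 : classInner hu.phi hu.phi = 4 := by
      rw [hu.classInner_phi, Finset.sum_congr rfl (g := fun _ => (4 : ℂ)) (fun g hg => by
        simp [phi, hg]), Finset.sum_const, nsmul_eq_mul, mul_comm _ (4 : ℂ), hu.four_mul_card]
      field_simp [Char.card_ne_zero (G := G)]
    rw [h2] at h
    have : (∑ χ, w χ ^ 2 : ℤ) = 4 := by exact_mod_cast h.symm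
    simpa [pow_two] using this
  · haveI := hM.2.1
    have h := (hw (Char.trivialChar G)).symm.trans
      ((hmain _).1 (Blocks.mem_blockOf_self (Char.trivialChar G)))
    have h' : ((w (Char.trivialChar G) : ℤ) : ℂ) = ((1 : ℤ) : ℂ) := by
      rw [h]; simp [Char.trivialChar]
    exact_mod_cast h'

end FourData

end Cfsg.Agent.ZStar
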