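import Cfsg.Agent.Lib.ZStar.Q8Centralizer

/-!
# Integrality of the functions on the section of a central involution
-/

set_option linter.style.haveILetI false

namespace Cfsg.Agent.ZStar

open Cfsg
open scoped ComplexConjugate

universe u

variable {G : Type u} [Group G] [Fintype G] {M : Ideal AlgInt} {z u : G} {h : CentralData z u}

namespace Triple

variable (T : Triple h M)

/-- `1 - εψ`. -/
noncomputable def twist (j : Fin 3) : G → ℂ := fun g => 1 - (T.sgn j : ℂ) * (T.chr j).1 g

/-- Twice `twist j` on the regular elements, zero elsewhere. -/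
noncomputable def proj (j : Fin 3) : G → ℂ := fun g => by
  classical exact if g ∈ regularSet G then 2 * T.twist j g else 0

/-- The function on the section of the involution. -/
noncomputable def lift (j : Fin 3) : G → ℂ := fun g => T.proj j (z * g)

theorem isGeneralized_twist (j : Fin 3) : IsGeneralizedCharacter G (T.twist j) := by
  have e : T.twist j = (Char.trivialChar G).1 - (T.sgn j : ℂ) • (T.chr j).1 := by
    funext g
    simp [twist, Char.trivialChar]
  rw [e]
  exact Char.IsGeneralizedCharacter.sub (Char.irr_isGeneralized _)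
    (Char.IsGeneralizedCharacter.intCast_smul (Char.irr_isGeneralized _) _)

theorem twist_z_mul (j : Fin 3) (g : G) : T.twist j (z * g) = T.twist j g := by
  simp only [twist, h.apply_z_mul_of_eq (T.z_ker j)]

theorem twist_four (j : Fin 3) {g : G} (hg : g ∈ twoSection u) : T.twist j g = 0 := by
  have h1 : (T.sgn j : ℂ) * (T.sgn j : ℂ) = 1 := by exact_mod_cast T.sgn_sq j
  simp only [twist, T.val_four j g hg, h1, sub_self]

theorem regular_conj_iff {g : G} (c : G) : c * g * c⁻¹ ∈ regularSet G ↔ g ∈ regularSet G := by
  rw [mem_regularSet, mem_regularSet, show orderOf (c * g * c⁻¹) = orderOf g from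
    MulEquiv.orderOf_eq (MulAut.conj c) g]

theorem isClassFunction_proj (j : Fin 3) : IsClassFunction G (T.proj j) := by
  intro g c
  have h1 := Char.IsGeneralizedCharacter.isClassFunction (T.isGeneralized_twist j) g c
  have h2 := regular_conj_iff (g := g) c
  by_cases hg : g ∈ regularSet G
  · simp [proj, hg, h2.mpr hg, h1]
  · simp [proj, hg, mt h2.mp hg]

theorem isClassFunction_lift (j : Fin 3) : IsClassFunction G (T.lift j) := by
  intro g c
  show T.proj j (z * (c * g * c⁻¹)) = T.proj j (z * g)
  rw [← T.isClassFunction_proj j (z * g) c]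
  congr 1
  rw [← mul_assoc c z g, (h.central c).symm.eq]
  group

theorem lift_z_mul {j : Fin 3} {v : G} (hv : v ∈ regularSet G) :
    T.lift j (z * v) = 2 * T.twist j v := by
  simp [lift, proj, h.z_mul_z_mul, hv]

theorem lift_eq_zero {j : Fin 3} {g : G} (hg : z * g ∉ regularSet G) : T.lift j g = 0 := by
  simp [lift, proj, hg]

/-- On an elementary subgroup the projection is a generalized character. -/
theorem exists_int_elementary (j : Fin 3) (E : Subgroup G) {p : ℕ} (hp : p.Prime)
    (hE : IsElementary p E) [Fintype E] (μ : IrrCharacter E) :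
    ∃ k : ℤ, classInner (fun e : E => T.proj j e) μ.1 = k := by
  classical
  haveI : Fact (Nat.Prime 2) := ⟨Nat.prime_two⟩
  haveI : Group.IsNilpotent E := Char.IsElementary.isNilpotent hp hE
  obtain ⟨S, N, hN, hc⟩ := PComplement.hasNormalPComplement_of_isNilpotent (G := E) (p := 2)
  haveI := hN
  haveI : (S : Subgroup E).Normal := S.normal_of_normalizerCondition Group.normalizerCondition_of_isNilpotent
  haveI := Fintype.ofFinite N
  haveI := Fintype.ofFinite (S : Subgroup E)
  let π : E →* N := (hc.QuotientMulEquiv).toMonoidHom.comp (QuotientGroup.mk' (S : Subgroup E))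
  have hπN : ∀ n : N, π (n : E) = n := by
    intro n
    show hc.QuotientMulEquiv _ = n
    apply hc.QuotientMulEquiv.symm.injective
    rw [MulEquiv.symm_apply_apply]
    rfl
  have hπS : ∀ s ∈ (S : Subgroup E), π s = 1 := by
    intro s hs
    show hc.QuotientMulEquiv _ = 1
    rw [MulEquiv.map_eq_one_iff]
    exact (QuotientGroup.eq_one_iff s).mpr hs
  have hNodd : ∀ n : E, n ∈ N → ¬ 2 ∣ orderOf (n : G) := by
    intro n hn
    rw [Subgroup.orderOf_coe]
    exact (Nat.Prime.coprime_iff_not_dvd Nat.prime_two).mp
      ((Transfer.coprime_card_of_isComplement'_sylow S hc).coprime_dvd_left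
        (Subgroup.orderOf_dvd_natCard N hn)).symm
  have hNreg : ∀ x : E, (x : G) ∈ regularSet G → x ∈ N := by
    intro x hx
    rw [Transfer.eq_pResidual_of_isComplement'_sylow S hc]
    refine Transfer.mem_residual_of_coprime ?_
    rw [← Subgroup.orderOf_coe]
    exact ((Nat.Prime.coprime_iff_not_dvd Nat.prime_two).mpr (mem_regularSet.mp hx)).symm
  -- the reduced sum
  set S₀ := ∑ n : N, T.twist j ((n : E) : G) * conj (μ.1 (n : E)) with hS0
  have hP : classInner (fun e : E => T.proj j e) μ.1 = (Nat.card E : ℂ)⁻¹ * (2 * S₀) := by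
    rw [classInner]
    congr 1
    rw [hS0, Finset.mul_sum]
    symm
    refine Finset.sum_bij_ne_zero (fun n _ _ => (n : E)) (fun n _ _ => Finset.mem_univ _)
      (fun a _ _ b _ _ hab => Subtype.ext hab) ?_ ?_
    · intro x _ hx
      have hxR : (x : G) ∈ regularSet G := by
        by_contra hh
        simp [proj, hh] at hx
      refine ⟨⟨x, hNreg x hxR⟩, Finset.mem_univ _, ?_, rfl⟩
      simp only [proj, if_pos hxR] at hx ⊢
      simpa [mul_assoc] using hx
    · intro n _ _
      have hnR : ((n : E) : G) ∈ regularSet G := mem_regularSet.mpr (hNodd n n.2)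
      simp only [proj, if_pos hnR]
      ring
  have hcard : (Nat.card E : ℂ) = (Nat.card N : ℂ) * (Nat.card (S : Subgroup E) : ℂ) := by
    rw [← Nat.cast_mul, hc.card_mul_card]
  have hN0 : (Nat.card N : ℂ) ≠ 0 := Nat.cast_ne_zero.mpr Nat.card_pos.ne'
  have hgen := T.isGeneralized_twist j
  have hgenN : IsGeneralizedCharacter N (fun n : N => T.twist j ((n : E) : G)) :=
    Char.IsGeneralizedCharacter.comp hgen (E.subtype.comp N.subtype)
  have hμN : IsCharacter N (fun n : N => μ.1 n) :=
    Char.IsCharacter.restrict (Char.irr_isCharacter μ) N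
  obtain ⟨k0, hk0⟩ := Char.IsGeneralizedCharacter.exists_int_classInner hgenN
    (Char.IsCharacter.isGeneralized hμN)
  have hk0' : S₀ = (Nat.card N : ℂ) * k0 := by
    rw [← hk0, classInner, ← mul_assoc, mul_inv_cancel₀ hN0, one_mul]
  obtain ⟨k, hk⟩ := S.2.exists_card_eq
  rcases (show k = 0 ∨ k = 1 ∨ 2 ≤ k by omega) with rfl | rfl | hk2
  · refine ⟨2 * k0, ?_⟩
    rw [hP, hcard, hk, hk0']
    push_cast
    field_simp
  · refine ⟨k0, ?_⟩
    rw [hP, hcard, hk, hk0']
    push_cast
    field_simp
  · -- the Sylow 2-subgroup contains elements of order four, hence `z`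
    have hS4 : ∀ s ∈ (S : Subgroup E), (s : G) = 1 ∨ (s : G) = z ∨ orderOf (s : G) = 4 := by
      intro s hs
      obtain ⟨i, hi⟩ := IsPGroup.iff_orderOf.mp S.2 ⟨s, hs⟩
      refine h.two_elts _ ⟨i, ?_⟩
      rw [← hi, Subgroup.orderOf_coe, ← Subgroup.orderOf_coe (⟨s, hs⟩ : (S : Subgroup E))]
    obtain ⟨s4, hs4S, hs4⟩ : ∃ s, s ∈ (S : Subgroup E) ∧ orderOf ((s : E) : G) = 4 := by
      by_contra hno
      push Not at hno
      let f : ↥(S : Subgroup E) → Bool := fun s => decide (((s : E) : G) = 1)
      have hf : Function.Injective f := by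
        intro a b hab
        have hiff : ((a : E) : G) = 1 ↔ ((b : E) : G) = 1 := by
          simpa [f] using hab
        refine Subtype.ext (Subtype.ext ?_)
        rcases hS4 a a.2 with ha | ha | ha
        · rw [ha, hiff.mp ha]
        · rcases hS4 b b.2 with hb | hb | hb
          · rw [hb, hiff.mpr hb]
          · rw [ha, hb]
          · exact absurd hb (hno b b.2)
        · exact absurd ha (hno a a.2)
      have h2 := Nat.card_le_card_of_injective f hf
      have h4 : 2 ^ 2 ≤ 2 ^ k := Nat.pow_le_pow_right (by norm_num) hk2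
      rw [hk, Nat.card_eq_fintype_card, Fintype.card_bool] at h2
      omega
    have hzE : z ∈ E := by
      have h4 := h.four.isConj_four _ hs4
      obtain ⟨c, hc⟩ := isConj_iff.mp h4
      have : ((s4 : E) : G) * (s4 : E) = z := by
        rw [← hc, show c * u * c⁻¹ * (c * u * c⁻¹) = c * (u * u) * c⁻¹ by group, h.sq,
          (h.central c).symm.eq, mul_inv_cancel_right]
      exact this ▸ mul_mem s4.2 s4.2
    have hzS : (⟨z, hzE⟩ : E) ∈ (S : Subgroup E) := by
      have h4 := h.four.isConj_four _ hs4
      obtain ⟨c, hc⟩ := isConj_iff.mp h4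
      have : (⟨z, hzE⟩ : E) = s4 * s4 := Subtype.ext (by
        rw [Subgroup.coe_mul, ← hc, show c * u * c⁻¹ * (c * u * c⁻¹) = c * (u * u) * c⁻¹ by group,
          h.sq, (h.central c).symm.eq, mul_inv_cancel_right])
      exact this ▸ mul_mem hs4S hs4S
    -- the inner product with the character pulled back from the odd part
    obtain ⟨k1, hk1⟩ := Char.IsGeneralizedCharacter.exists_int_classInner
      (Char.IsGeneralizedCharacter.comp hgen E.subtype)
      (Char.IsCharacter.isGeneralized (Char.IsCharacter.comp hμN π))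
    refine ⟨k1, ?_⟩
    rw [hP, ← hk1, classInner]
    congr 1
    have hbij : Function.Bijective (fun x : N × (S : Subgroup E) => (x.1 : E) * (x.2 : E)) := hc
    rw [← (Equiv.ofBijective _ hbij).sum_comp, Fintype.sum_prod_type, hS0, Finset.mul_sum]
    refine Finset.sum_congr rfl fun n _ => ?_
    have hval : ∀ s : (S : Subgroup E), T.twist j (((n : E) * (s : E) : E) : G) =
        if ((s : E) : G) = 1 ∨ ((s : E) : G) = z then T.twist j ((n : E) : G) else 0 := by
      intro s
      rw [Subgroup.coe_mul]
      rcases hS4 s s.2 with hs | hs | hs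
      · rw [if_pos (Or.inl hs), hs, mul_one]
      · rw [if_pos (Or.inr hs), hs, ← (h.central _).eq, T.twist_z_mul]
      · rw [if_neg]
        · refine T.twist_four j (mem_twoSection.mpr ⟨_, h.four.isConj_four _ hs, ?_⟩)
          have hcomm : Commute ((s : E) : G) ((n : E) : G) := by
            have hd : Disjoint (S : Subgroup E) N := hc.disjoint.symm
            exact congrArg Subtype.val
              (Subgroup.commute_of_normal_of_disjoint _ _ ‹_› hN hd _ _ s.2 n.2).eq
          rw [← hcomm.eq]
          exact Blocks.isPPart_mul hcomm ⟨2, by rw [hs]; norm_num⟩ (hNodd n n.2)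
        · rintro (h1 | h1) <;> rw [h1] at hs
          · rw [orderOf_one] at hs; omega
          · rw [h.orderOf_z] at hs; omega
    have hπ : ∀ s : (S : Subgroup E), π ((n : E) * (s : E)) = n := fun s => by
      rw [map_mul, hπN, hπS s s.2, mul_one]
    have hone : ((1 : (S : Subgroup E)) : E) = 1 := rfl
    set zS : (S : Subgroup E) := ⟨⟨z, hzE⟩, hzS⟩ with hzSdef
    have hfilter : Finset.univ.filter (fun s : (S : Subgroup E) =>
        ((s : E) : G) = 1 ∨ ((s : E) : G) = z) = {1, zS} := by
      ext s
      simp only [Finset.mem_filter, Finset.mem_univ, true_and, Finset.mem_insert,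
        Finset.mem_singleton, hzSdef, Subtype.ext_iff, Subgroup.coe_one]
    have h1z : (1 : (S : Subgroup E)) ≠ zS := fun e => by
      have e' : (1 : G) = z := congrArg (fun s : (S : Subgroup E) => ((s : E) : G)) e
      have := h.orderOf_z
      rw [← e', orderOf_one] at this
      omega
    symm
    rw [Finset.sum_congr rfl (g := fun s : (S : Subgroup E) =>
      if ((s : E) : G) = 1 ∨ ((s : E) : G) = z then
        T.twist j ((n : E) : G) * conj (μ.1 (n : E)) else 0) (fun s _ => by
        show T.twist j (((n : E) * (s : E) : E) : G) * conj (μ.1 ((π ((n : E) * (s : E)) : N) : E)) = _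
        rw [hval, hπ]
        split_ifs <;> simp), ← Finset.sum_filter, hfilter, Finset.sum_pair h1z]
    ring

theorem isGeneralized_proj (j : Fin 3) : IsGeneralizedCharacter G (T.proj j) := by
  refine Char.isGeneralizedCharacter_of_elementary (T.isClassFunction_proj j) fun E p hp hE => ?_
  haveI := Fintype.ofFinite E
  refine Char.isGeneralizedCharacter_iff.mpr ⟨?_, fun μ => T.exists_int_elementary j E hp hE μ⟩
  intro g c
  exact T.isClassFunction_proj j g c

theorem isGeneralized_lift (j : Fin 3) : IsGeneralizedCharacter G (T.lift j) := by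
  refine Char.isGeneralizedCharacter_iff.mpr ⟨T.isClassFunction_lift j, fun φ => ?_⟩
  obtain ⟨k, hk⟩ := (Char.isGeneralizedCharacter_iff.mp (T.isGeneralized_proj j)).2 φ
  have e : ∀ s : ℤ, (∀ g, φ.1 (z * g) = (s : ℂ) * φ.1 g) →
      classInner (T.lift j) φ.1 = ((s * k : ℤ) : ℂ) := by
    intro s hs
    rw [classInner, ← Equiv.sum_comp (Equiv.mulLeft z), Int.cast_mul, ← hk, classInner]
    simp only [Equiv.coe_mulLeft, hs, lift, h.z_mul_z_mul, map_mul, map_intCast]
    rw [Finset.mul_sum, Finset.mul_sum, Finset.mul_sum]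
    exact Finset.sum_congr rfl fun g _ => by ring
  rcases h.apply_z φ with hz | hz
  · exact ⟨_, e 1 fun g => by rw [h.apply_z_mul_of_eq hz]; simp⟩
  · exact ⟨_, e (-1) fun g => by rw [h.apply_z_mul_of_neg hz]; simp⟩

theorem classInner_twist (i j : Fin 3) :
    classInner (T.twist i) (T.twist j) = 1 + if i = j then 1 else 0 := by
  have e : ∀ l, T.twist l = (Char.trivialChar G).1 - (T.sgn l : ℂ) • (T.chr l).1 := fun l => by
    funext g
    simp [twist, Char.trivialChar]
  rw [e i, e j, Char.classInner_sub_left, Char.classInner_sub_right, Char.classInner_sub_right,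
    Char.classInner_smul_left, Char.classInner_smul_left, Char.classInner_smul_right,
    Char.classInner_smul_right, Char.classInner_irr_self (Char.trivialChar G).2,
    Char.classInner_eq_zero_of_ne (T.ne_triv j).symm, Char.classInner_eq_zero_of_ne (T.ne_triv i)]
  by_cases hij : i = j
  · subst hij
    have h1 : (T.sgn i : ℂ) * (T.sgn i : ℂ) = 1 := by exact_mod_cast T.sgn_sq i
    rw [if_pos rfl, Char.classInner_irr_self (T.chr i).2]
    simp [h1]
  · rw [if_neg hij, Char.classInner_eq_zero_of_ne (fun e' => hij (T.inj e'))]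
    simp

theorem classInner_lift (i j : Fin 3) :
    classInner (T.lift i) (T.lift j) = 2 * (1 + if i = j then 1 else 0) := by
  rw [← T.classInner_twist, classInner, classInner, h.sum_split, h.sum_split]
  have z1 : ∀ v ∈ regularSet G, T.lift i v * conj (T.lift j v) = 0 := fun v hv => by
    rw [T.lift_eq_zero (h.not_regular_z_mul hv), zero_mul]
  have z2 : ∀ g ∈ twoSection u, T.lift i g * conj (T.lift j g) = 0 := fun g hg => by
    rw [T.lift_eq_zero (fun hr => by
      have := (h.not_twoSection_of_regular hr).2
      rw [h.z_mul_z_mul] at this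
      exact this hg), zero_mul]
  have z3 : ∀ g ∈ twoSection u, T.twist i g * conj (T.twist j g) = 0 := fun g hg => by
    rw [T.twist_four i hg, zero_mul]
  rw [Finset.sum_eq_zero z1, Finset.sum_eq_zero z2, Finset.sum_eq_zero z3,
    Finset.sum_congr rfl (g := fun v => 4 * (T.twist i v * conj (T.twist j v))) (fun v hv => by
      rw [T.lift_z_mul hv, T.lift_z_mul hv, map_mul, map_ofNat]; ring),
    Finset.sum_congr rfl (s₁ := regularSet G)
      (f := fun v => T.twist i (z * v) * conj (T.twist j (z * v)))
      (g := fun v => T.twist i v * conj (T.twist j v)) (fun v _ => by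
        rw [T.twist_z_mul, T.twist_z_mul]), ← Finset.mul_sum]
  ring

theorem classInner_lift_one (j : Fin 3) :
    classInner (T.lift j) (Char.trivialChar G).1 = 1 := by
  have h1 : classInner (T.twist j) (Char.trivialChar G).1 = 1 := by
    have e : T.twist j = (Char.trivialChar G).1 - (T.sgn j : ℂ) • (T.chr j).1 := by
      funext g
      simp [twist, Char.trivialChar]
    rw [e, Char.classInner_sub_left, Char.classInner_smul_left,
      Char.classInner_irr_self (Char.trivialChar G).2, Char.classInner_eq_zero_of_ne (T.ne_triv j)]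
    simp
  rw [classInner, h.sum_split] at h1 ⊢
  have z1 : ∀ v ∈ regularSet G, T.lift j v * conj ((Char.trivialChar G).1 v) = 0 := fun v hv => by
    rw [T.lift_eq_zero (h.not_regular_z_mul hv), zero_mul]
  have z2 : ∀ g ∈ twoSection u, T.lift j g * conj ((Char.trivialChar G).1 g) = 0 := fun g hg => by
    rw [T.lift_eq_zero (fun hr => by
      have := (h.not_twoSection_of_regular hr).2
      rw [h.z_mul_z_mul] at this
      exact this hg), zero_mul]
  rw [Finset.sum_eq_zero z1, Finset.sum_eq_zero z2,
    Finset.sum_congr rfl (g := fun v => 2 * T.twist j v) (fun v hv => by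
      rw [T.lift_z_mul hv]; simp [Char.trivialChar])]
  rw [Finset.sum_eq_zero (s := twoSection u) (fun g hg => by
      rw [T.twist_four j hg, zero_mul]),
    Finset.sum_congr rfl (g := fun v => T.twist j v) (fun v _ => by simp [Char.trivialChar]),
    Finset.sum_congr rfl (s₁ := regularSet G)
      (f := fun v => T.twist j (z * v) * conj ((Char.trivialChar G).1 (z * v)))
      (g := fun v => T.twist j v) (fun v _ => by simp [T.twist_z_mul, Char.trivialChar])] at h1
  rw [← h1, ← Finset.mul_sum]
  ring

end Triple

end Cfsg.Agent.ZStar
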