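import Cfsg.Agent.Lib.ZStar.Step
import Cfsg.Agent.Lib.Transfer.Residual
import Cfsg.Agent.Lib.PGroup.UniqueOrderP
import Mathlib.GroupTheory.Transfer

/-!
# Minimal counterexamples of rank one

`z` is the only involution of its centralizer: the Sylow 2-subgroups are cyclic or generalized
quaternion, and `G` has no normal 2-complement.
-/

set_option linter.style.haveILetI false

namespace Cfsg.Agent.ZStar

open Cfsg

universe u

variable {G : Type u} [Group G] [Finite G] {z : G}

/-- `z` is the only involution commuting with `z`. -/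
def OnlyInvolution (z : G) : Prop := ∀ s : G, orderOf s = 2 → Commute s z → s = z

namespace MinConfig

variable (hz : MinConfig z)
include hz

theorem not_hasNormalPComplement : ¬ HasNormalPComplement 2 G := by
  rintro ⟨P, N, hN, hc⟩
  haveI : Fact (Nat.Prime 2) := ⟨Nat.prime_two⟩
  have hodd : Odd (Nat.card N) :=
    Nat.coprime_two_right.mp (Transfer.coprime_card_of_isComplement'_sylow P hc)
  have hNbot : N = ⊥ := le_bot_iff.mp (hz.core ▸ PCore.le_oddCore hodd)
  rw [hNbot, Subgroup.isComplement'_bot_left] at hc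
  refine hz.noncentral (Subgroup.mem_center_iff.mpr fun g => ?_)
  exact (Involution.Isolated.commute_of_mem_pGroup hz.iso P.2 (hc ▸ Subgroup.mem_top z)
    (hc ▸ Subgroup.mem_top g)).eq

theorem sylow_involution_unique (h1 : OnlyInvolution z) (P : Sylow 2 G) (hzP : z ∈ P) :
    (∀ x ∈ (P : Subgroup G), Commute x z) ∧
      ∀ x ∈ (P : Subgroup G), orderOf x = 2 → x = z := by
  haveI : Fact (Nat.Prime 2) := ⟨Nat.prime_two⟩
  have hc : ∀ x ∈ (P : Subgroup G), Commute x z := fun x hx =>
    Involution.Isolated.commute_of_mem_pGroup hz.iso P.2 hzP hx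
  exact ⟨hc, fun x hx h2 => h1 x h2 (hc x hx)⟩

/-- The Sylow 2-subgroups are generalized quaternion. -/
theorem exists_quaternion (h1 : OnlyInvolution z) :
    ∃ (P : Sylow 2 G), z ∈ P ∧ ∃ n : ℕ, 1 ≤ n ∧
      Nonempty ((P : Subgroup G) ≃* QuaternionGroup (2 ^ n)) := by
  haveI : Fact (Nat.Prime 2) := ⟨Nat.prime_two⟩
  have hp : IsPGroup 2 (Subgroup.zpowers z) :=
    IsPGroup.of_card (n := 1) (by rw [Nat.card_zpowers, hz.iso.1, pow_one])
  obtain ⟨P, hP⟩ := hp.exists_le_sylow
  have hzP : z ∈ P := hP (Subgroup.mem_zpowers z)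
  obtain ⟨-, huniq⟩ := hz.sylow_involution_unique h1 P hzP
  have huniq' : ∀ H K : Subgroup (P : Subgroup G), Nat.card H = 2 → Nat.card K = 2 → H = K := by
    suffices h : ∀ H : Subgroup (P : Subgroup G), Nat.card H = 2 →
        H = Subgroup.zpowers (⟨z, hzP⟩ : (P : Subgroup G)) from
      fun H K hH hK => (h H hH).trans (h K hK).symm
    intro H hH
    obtain ⟨x, hx⟩ := exists_prime_orderOf_dvd_card' (G := H) 2 (dvd_of_eq hH.symm)
    have hx2 : orderOf ((x : (P : Subgroup G)) : G) = 2 := by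
      rw [Subgroup.orderOf_coe, Subgroup.orderOf_coe, hx]
    have hxz : (x : (P : Subgroup G)) = ⟨z, hzP⟩ :=
      Subtype.ext (huniq _ (x : (P : Subgroup G)).2 hx2)
    symm
    refine Subgroup.eq_of_le_of_card_ge (Subgroup.zpowers_le.mpr (hxz ▸ x.2)) ?_
    rw [hH, Nat.card_zpowers, ← Subgroup.orderOf_coe, hz.iso.1]
  rcases PGroup.cyclic_or_quaternion_of_unique P.2 huniq' with hcyc | ⟨-, n, hn, -, ⟨e⟩⟩
  · exfalso
    refine hz.not_hasNormalPComplement ⟨P, _, inferInstance, IsCyclic.isComplement'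
      (P := P) ?_ hcyc⟩
    refine (Nat.minFac_eq_two_iff _).mpr ?_
    have := orderOf_dvd_natCard z
    rwa [hz.iso.1] at this
  · exact ⟨P, hzP, n, hn, ⟨e⟩⟩

end MinConfig

end Cfsg.Agent.ZStar
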