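import Cfsg.Agent.Lib.ZStar.Assemble
import Cfsg.Agent.Lib.BlockCount.Criterion
import Cfsg.Agent.Lib.Char.KernelSum
import Cfsg.Agent.Lib.PCore.Basic

/-!
# Consequences of the second and third main theorem for the principal 2-block
-/

set_option linter.style.haveILetI false

namespace Cfsg.Agent.ZStar

open Cfsg
open scoped ComplexConjugate

universe u

/-- The second main theorem for the principal 2-block, in idempotent form, combined with the
third main theorem. -/
def SecondPrincipal : Prop :=
  ∀ (G : Type u) [Group G] [Finite G] (M : Ideal AlgInt), IsPModular 2 M →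
    ∀ (u : G), (∃ k : ℕ, orderOf u = 2 ^ k) → ∀ (χ : IrrCharacter G)
      (y : Subgroup.centralizer ({u} : Set G)), Odd (orderOf y) →
      (χ ∈ principalBlock M G →
        ∑ᶠ k : Subgroup.centralizer ({u} : Set G),
          blockCoeff (principalBlock M (Subgroup.centralizer ({u} : Set G))) k *
            χ.1 (u * ((k * y : Subgroup.centralizer ({u} : Set G)) : G)) = χ.1 (u * (y : G))) ∧
      (χ ∉ principalBlock M G →
        ∑ᶠ k : Subgroup.centralizer ({u} : Set G),
          blockCoeff (principalBlock M (Subgroup.centralizer ({u} : Set G))) k *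
            χ.1 (u * ((k * y : Subgroup.centralizer ({u} : Set G)) : G)) = 0)

variable {G : Type u} [Group G] [Finite G] {M : Ideal AlgInt}

theorem not_two_dvd_iff_odd {n : ℕ} : ¬ 2 ∣ n ↔ Odd n := by
  rw [← even_iff_two_dvd, Nat.not_even_iff_odd]

/-- Characters of the principal block have the odd normal subgroups in their kernel. -/
theorem trivOn_of_mem_principalBlock (hM : IsPModular 2 M) {N : Subgroup G} [N.Normal]
    (hN : Odd (Nat.card N)) {χ : IrrCharacter G} (hχ : χ ∈ principalBlock M G) :
    Char.TrivOn N χ.1 := by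
  classical
  haveI := Fintype.ofFinite G
  haveI : Fact (Nat.Prime 2) := ⟨Nat.prime_two⟩
  by_contra h
  have h1 := BlockCount.pregSum_restrict_ne_zero N hM hχ
  refine h1 ?_
  have h2 := Char.sum_coset_eq_zero_of_not_trivOn N χ h 1
  simp only [one_mul] at h2
  rw [← h2, BlockCount.pregSum, Finset.filter_true_of_mem]
  intro g _
  exact not_two_dvd_iff_odd.mpr (hN.of_dvd_nat (orderOf_dvd_natCard g))

/-- The principal idempotent is constant on the cosets of the odd normal subgroups. -/
theorem blockCoeff_mul_eq (hM : IsPModular 2 M) {N : Subgroup G} [N.Normal]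
    (hN : Odd (Nat.card N)) (k : G) {v : G} (hv : v ∈ N) :
    blockCoeff (principalBlock M G) (k * v) = blockCoeff (principalBlock M G) k := by
  haveI := Fintype.ofFinite G
  unfold blockCoeff
  congr 1
  refine finsum_mem_congr rfl fun χ hχ => ?_
  rw [Char.apply_mul_of_trivOn (trivOn_of_mem_principalBlock hM hN hχ) k hv]

theorem odd_card_centralizer_core (u : G) :
    Odd (Nat.card (pPrimeCore 2 (Subgroup.centralizer ({u} : Set G)))) :=
  PCore.odd_card_oddCore

/-- Characters of the principal block are constant on the odd parts in the core of the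
centralizer of the 2-part. -/
theorem apply_mul_core (hS : SecondPrincipal.{u}) (hM : IsPModular 2 M) {u : G}
    (hu : ∃ k : ℕ, orderOf u = 2 ^ k) {v : G} (hv : v ∈ centralizerPPrimeCore 2 u)
    {χ : IrrCharacter G} (hχ : χ ∈ principalBlock M G) : χ.1 (u * v) = χ.1 u := by
  obtain ⟨v', hv', rfl⟩ := Subgroup.mem_map.mp hv
  have hodd := odd_card_centralizer_core u
  have hvo : Odd (orderOf v') := by
    have h1 := orderOf_dvd_natCard (⟨v', hv'⟩ : pPrimeCore 2 (Subgroup.centralizer ({u} : Set G)))
    rw [Subgroup.orderOf_mk] at h1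
    exact hodd.of_dvd_nat h1
  have h1 := (hS G M hM u hu χ v' hvo).1 hχ
  have h0 := (hS G M hM u hu χ 1 (by simp)).1 hχ
  show χ.1 (u * (v' : G)) = χ.1 u
  rw [← h1]
  have h0' : χ.1 (u * ((1 : Subgroup.centralizer ({u} : Set G)) : G)) = χ.1 u := by simp
  rw [← h0', ← h0]
  refine finsum_eq_of_bijective (fun k => k * v') (Group.mulRight_bijective v') fun k => ?_
  rw [blockCoeff_mul_eq hM hodd k hv', mul_one]

theorem principalConst_of (hS : SecondPrincipal.{u}) : PrincipalConst.{u} :=
  fun _ _ _ _ hM _ hu _ hv _ hχ => apply_mul_core hS hM ⟨1, by rw [hu, pow_one]⟩ hv hχ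

end Cfsg.Agent.ZStar
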